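import Cfsg.Agent.Omega.HOneEnd.EndIn
import Cfsg.Agent.Mrg.Omega.HOneEnd.BNCore
import Cfsg.Agent.Mrg.Omega.Lie.End.PreMap
import Cfsg.Agent.ZN.Facts
import Cfsg.Agent.MinSimple.VModule


/-!
# LeafH1, END: from the output of THEOREM PAR to `EndIn`

* `exists_bn` : a system `Pre 2 B U P m` which generates `K` has a (B,N)-pair with Borel subgroup `B`, `Bor Q U`, and `K` is
  perfect if the core of `B` is trivial and `K` is generated by its 2-elements;
* `endIn_of_bn` : `EndIn` from a (B,N)-pair of `G₀` (for `q = 2` too: `Bor.of_two`);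
* `endIn_of_pre` : `EndIn` from `Pre 2 B U P m`.
-/

set_option autoImplicit false
set_option linter.unusedSectionVars false

namespace Cfsg.Agent.Omega.HOneEnd

open Subgroup Cfsg.Agent.ParSys Cfsg.Agent.Omega.Lie.End BNCore
open Cfsg.Agent.LieExceptional.BNPairCore
open scoped commutatorElement

/-! ### The (B,N)-pair of `Pre` -/

section top

variable {K : Type*} [Group K] {I : Type*} {B U : Subgroup K} {P : I → Subgroup K} {m : I → I → ℕ}

/-- `U = [U,H] C_U(H)` in the form needed. -/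
theorem exists_fix_mul [Finite K] {H : Subgroup K} (D : Hall.HallData 2 B U H) {u : K} (hu : u ∈ U) :
    ∃ c ∈ U, c ∈ centralizer (H : Set K) ∧ u * c⁻¹ ∈ commutator K := by
  have : Fact (Nat.Prime 2) := ⟨Nat.prime_two⟩
  set M : Subgroup K := commutator K ⊓ U with hM
  have hHU := D.H_norm_U
  have hHM : H ≤ normalizer (M : Set K) := by
    intro x hx
    rw [mem_normalizer_iff]
    intro y
    constructor
    · rintro ⟨h1, h2⟩
      exact ⟨(inferInstance : (commutator K).Normal).conj_mem y h1 x, (mem_normalizer_iff.1 (hHU hx) y).1 h2⟩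
    · rintro ⟨h1, h2⟩
      refine ⟨?_, (mem_normalizer_iff.1 (hHU hx) y).2 h2⟩
      have h3 := (inferInstance : (commutator K).Normal).conj_mem _ h1 x⁻¹
      have e : x⁻¹ * (x * y * x⁻¹) * x⁻¹⁻¹ = y := by group
      rw [e] at h3
      exact h3
  have hMU : M ≤ U := inf_le_right
  have hMcop : (Nat.card H).Coprime (Nat.card M) := D.card_cop.coprime_dvd_right (card_dvd_of_le hMU)
  have hMs : Group.IsSolvable M := by
    have := (D.U_pgroup.to_le hMU).isNilpotent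
    infer_instance
  -- `u H u⁻¹ ≤ H M`
  have hle : H.map (MulAut.conj u).toMonoidHom ≤ H ⊔ M := by
    rintro _ ⟨x, hx, rfl⟩
    show u * x * u⁻¹ ∈ H ⊔ M
    have h1 : x * u⁻¹ * x⁻¹ ∈ U := (mem_normalizer_iff.1 (hHU hx) u⁻¹).1 (inv_mem hu)
    have h2 : u * (x * u⁻¹ * x⁻¹) ∈ M := by
      refine ⟨?_, mul_mem hu h1⟩
      have h3 : ⁅u, x⁆ ∈ commutator K := commutator_mem_commutator (mem_top u) (mem_top x)
      rw [commutatorElement_def] at h3
      have e : u * (x * u⁻¹ * x⁻¹) = u * x * u⁻¹ * x⁻¹ := by group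
      rw [e]
      exact h3
    have e : u * x * u⁻¹ = u * (x * u⁻¹ * x⁻¹) * x := by group
    rw [e]
    exact mul_mem (mem_sup_right h2) (mem_sup_left hx)
  obtain ⟨k, hk, h1⟩ := Solvable.Glauberman.exists_conj_of_le_sup H M hHM hMcop (Or.inr hMs)
    (H.map (MulAut.conj u).toMonoidHom) hle
    (Nat.card_congr (H.equivMapOfInjective _ (MulAut.conj u).injective).symm.toEquiv)
  -- `c = k⁻¹ u` normalises `H`
  have hcU : k⁻¹ * u ∈ U := mul_mem (inv_mem (hMU hk)) hu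
  have hcH : ∀ x ∈ H, (k⁻¹ * u) * x * (k⁻¹ * u)⁻¹ ∈ H := by
    intro x hx
    have h2 : u * x * u⁻¹ ∈ H.map (MulAut.conj u).toMonoidHom := ⟨x, hx, rfl⟩
    rw [← h1, Subgroup.mem_smul_pointwise_iff_exists] at h2
    obtain ⟨y, hy, h3⟩ := h2
    rw [MulAut.smul_def, MulAut.conj_apply] at h3
    have e : (k⁻¹ * u) * x * (k⁻¹ * u)⁻¹ = y := by
      have e1 : (k⁻¹ * u) * x * (k⁻¹ * u)⁻¹ = k⁻¹ * (u * x * u⁻¹) * k := by group
      rw [e1, ← h3]; group
    rw [e]; exact hy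
  refine ⟨k⁻¹ * u, hcU, ?_, ?_⟩
  · rw [mem_centralizer_iff]
    intro x hx
    have h2 := hcH x hx
    have h3 : (k⁻¹ * u) * (x * (k⁻¹ * u)⁻¹ * x⁻¹) ∈ U :=
      mul_mem hcU ((mem_normalizer_iff.1 (hHU hx) _).1 (inv_mem hcU))
    have h4 : (k⁻¹ * u) * (x * (k⁻¹ * u)⁻¹ * x⁻¹) ∈ H := by
      have e : (k⁻¹ * u) * (x * (k⁻¹ * u)⁻¹ * x⁻¹) = (k⁻¹ * u) * x * (k⁻¹ * u)⁻¹ * x⁻¹ := by group
      rw [e]
      exact mul_mem h2 (inv_mem hx)
    have h5 : Disjoint H U := Subgroup.disjoint_of_coprime_natCard D.card_cop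
    have h6 : (k⁻¹ * u) * (x * (k⁻¹ * u)⁻¹ * x⁻¹) ∈ (H ⊓ U : Subgroup K) := ⟨h4, h3⟩
    rw [disjoint_iff.1 h5, mem_bot] at h6
    have e : (k⁻¹ * u) * (x * (k⁻¹ * u)⁻¹ * x⁻¹) = ((k⁻¹ * u) * x) * (x * (k⁻¹ * u))⁻¹ := by group
    rw [e, mul_inv_eq_one] at h6
    exact h6.symm
  · have e : u * (k⁻¹ * u)⁻¹ = k := by group
    rw [e]
    exact hk.1

/-- **The (B,N)-pair of a generating system `Pre`.** -/
theorem exists_bn [Finite K] [Finite I] (D : Pre 2 B U P m) (gen : ⨆ i, P i = ⊤)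
    (conn : ∀ J : Set I, J.Nonempty → Jᶜ.Nonempty → ∃ i ∈ J, ∃ j ∈ Jᶜ, 3 ≤ m i j) :
    ∃ Q : Cfsg.BNPair K, Q.B = B ∧ Bor Q U ∧ Q.rank = Nat.card I ∧ Q.Irreducible ∧
      (∃ e : I ≃ Q.S, ∀ i, (e i : K) ∈ P i) ∧
      (Subgroup.closure {x : K | ∃ a : ℕ, x ^ 2 ^ a = 1} = ⊤ → Q.B.normalCore = ⊥ → commutator K = ⊤) := by
  have : Fact (Nat.Prime 2) := ⟨Nat.prime_two⟩
  obtain ⟨H, S⟩ := D.exists_sys gen
  obtain ⟨n, hnH, E⟩ := S.data
  have hBor : Bor E.bnPair U := {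
    le := D.U_le
    norm := fun b hb u hu => (mem_normalizer_iff.1 (D.norm hb) u).1 hu
    two := D.isP
    index := Nat.coprime_two_left.1 D.index
    ne := by
      rintro _ ⟨i, rfl⟩
      obtain ⟨x, hx, hxB, hx2⟩ := E.three i
      obtain ⟨u, hu, h1⟩ := E.pan i x hx hxB
      refine ⟨u, hu, fun h2 => hx2 ?_⟩
      have h3 := mul_mem (show (n i)⁻¹ * u * n i ∈ B from h2) h1
      have e : (n i)⁻¹ * u * n i * ((u * n i)⁻¹ * x) = (n i)⁻¹ * x := by group
      rwa [e] at h3 }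
  refine ⟨E.bnPair, rfl, hBor, E.rank_bnPair, E.irreducible conn,
    ⟨Equiv.ofInjective n E.n_injective, fun i => E.n_mem i⟩, fun hgen hcore => ?_⟩
  refine hBor.perfect hgen hcore (H := H) S.hall.H_le ?_ (fun u hu => exists_fix_mul S.hall hu) ?_
  · show Subgroup.closure _ ≤ _
    rw [Subgroup.closure_le]
    rintro x (hx | ⟨i, rfl⟩)
    · exact hx.2
    · exact hnH i
  · rintro _ ⟨i, rfl⟩ c hc hcC b hb
    exact S.fix i c hc hcC _ (mul_mem (S.le i hb) (E.n_mem i))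

end top

/-! ### `EndIn` from a (B,N)-pair -/

/-- `q = 2` : the Borel subgroup is a 2-group. -/
theorem Bor.of_two {K : Type*} [Group K] {Q : Cfsg.BNPair K} (h : IsPGroup 2 Q.B) : Bor Q Q.B where
  le := le_rfl
  norm := fun b hb u hu => mul_mem (mul_mem hb hu) (inv_mem hb)
  two := h
  index := by rw [relIndex_self]; exact odd_one
  ne := by
    intro s hs
    by_contra hne
    push Not at hne
    have hs2 := Q.sq_mem s hs
    apply Q.conj_ne s hs
    ext x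
    constructor
    · rintro ⟨b, hb, rfl⟩
      have h1 := hne b hb
      have e : s * b * s = (s * s) * (s⁻¹ * b * s) := by group
      show s * b * s ∈ Q.B
      rw [e]
      exact mul_mem hs2 h1
    · intro hx
      -- `x = s b s` with `b = s⁻¹ x s⁻¹ = s⁻¹ (x (s s)⁻¹) s`
      refine ⟨s⁻¹ * (x * (s * s)⁻¹) * s, hne _ (mul_mem hx (inv_mem hs2)), ?_⟩
      show s * (s⁻¹ * (x * (s * s)⁻¹) * s) * s = x
      group

variable {G : Type*} [Group G] [Finite G] {S G₀ U R : Subgroup G} {v : G}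

/-- 2-elements of `G₀` -/
theorem closure_two (hgen : G₀ ≤ Subgroup.closure {x : G | x ∈ G₀ ∧ ∃ a : ℕ, x ^ 2 ^ a = 1}) :
    Subgroup.closure {x : ↥G₀ | ∃ a : ℕ, x ^ 2 ^ a = 1} = ⊤ := by
  rw [eq_top_iff]
  intro x _
  have h1 : ∀ y (hy : y ∈ Subgroup.closure {x : G | x ∈ G₀ ∧ ∃ a : ℕ, x ^ 2 ^ a = 1}),
      ∃ h : y ∈ G₀, (⟨y, h⟩ : ↥G₀) ∈ Subgroup.closure {x : ↥G₀ | ∃ a : ℕ, x ^ 2 ^ a = 1} := by
    intro y hy
    induction hy using Subgroup.closure_induction with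
    | mem y hy => exact ⟨hy.1, subset_closure (by
        obtain ⟨-, a, ha⟩ := hy
        exact ⟨a, Subtype.ext ha⟩)⟩
    | one => exact ⟨one_mem _, one_mem _⟩
    | mul y z _ _ h1 h2 =>
      obtain ⟨a1, a2⟩ := h1
      obtain ⟨b1, b2⟩ := h2
      exact ⟨mul_mem a1 b1, mul_mem a2 b2⟩
    | inv y _ h1 =>
      obtain ⟨a1, a2⟩ := h1
      exact ⟨inv_mem a1, inv_mem a2⟩
  obtain ⟨h, h2⟩ := h1 x (hgen x.2)
  exact h2

/-- What the local analysis delivers besides the (B,N)-pair. -/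
structure EndSide (S G₀ U R : Subgroup G) (v : G) : Prop where
  cent : centralizer (G₀ : Set G) = ⊥
  S_two : IsPGroup 2 S
  S_G₀ : S ≤ normalizer (G₀ : Set G)
  S_R : S ≤ normalizer (R : Set G)
  S_inf : S ⊓ G₀ = U
  N_R : normalizer (R : Set G) ≤ normalizer (G₀ : Set G)
  R_U : R ≤ U
  U_R : U ≤ centralizer (R : Set G)
  R_ne : R ≠ ⊥
  v_U : v ∈ U
  U_v : U ≤ centralizer {v}
  v_ne : v ≠ 1
  v_R : ¬ G₀ ⊓ centralizer {v} ≤ normalizer (R : Set G)
  nonab : ∃ W ≤ G₀, IsPGroup 2 W ∧ G₀ ⊓ normalizer (R : Set G) ≤ normalizer (W : Set G) ∧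
    ¬ W ≤ centralizer (W : Set G)

theorem EndSide.U_le (h : EndSide S G₀ U R v) : U ≤ G₀ := by rw [← h.S_inf]; exact inf_le_right

/-- the maximality of `N_{G₀}(R)` -/
theorem coatom_of_e {K : Type*} [Group K] {Q : Cfsg.BNPair K} {I : Type*} (e : I ≃ Q.S) {P : I → Subgroup K}
    (he : ∀ i, (e i : K) ∈ P i) {N : Subgroup K} (hBN : Q.B ≤ N) {o : I} (hi : ∀ i, i ≠ o → P i ≤ N)
    (ho : ¬ P o ≤ N) : IsCoatom N := by
  have h1 : ∀ s ∈ Q.S, s ≠ (e o : K) → s ∈ N := by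
    intro s hs hne
    have h2 : (e (e.symm ⟨s, hs⟩) : K) = s := by rw [Equiv.apply_symm_apply]
    have h3 : e.symm ⟨s, hs⟩ ≠ o := by
      intro h4
      rw [h4] at h2
      exact hne h2.symm
    have h4 := hi _ h3 (he (e.symm ⟨s, hs⟩))
    rwa [h2] at h4
  refine BNCore.isCoatom Q hBN (e o).2 (fun h0 => ho ?_) h1
  have h2 : N = ⊤ := by
    rw [eq_parabolic (P := Q) hBN]
    have h4 : Q.S ∩ N = Q.S := by
      apply Set.inter_eq_left.2
      intro s hs
      by_cases h5 : s = (e o : K)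
      · rw [h5]; exact h0
      · exact h1 s hs h5
    rw [h4, parabolic_S_eq_top]
  rw [h2]
  exact le_top

/-- **`EndIn` from a (B,N)-pair of `G₀`.** -/
theorem endIn_of_bn (h : EndSide S G₀ U R v) {Q : Cfsg.BNPair ↥G₀} (hb : Bor Q (U.subgroupOf G₀))
    (h3 : 3 ≤ Q.rank) (hirr : Q.Irreducible)
    (hgen : G₀ ≤ Subgroup.closure {x : G | x ∈ G₀ ∧ ∃ a : ℕ, x ^ 2 ^ a = 1}) (hcore : Q.B.normalCore = ⊥)
    (hperf : commutator ↥G₀ = ⊤)
    (hBR : ∀ b ∈ Q.B, (b : G) ∈ normalizer (R : Set G))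
    (hmax : IsCoatom ((normalizer (R : Set G)).subgroupOf G₀)) : EndIn S G₀ U R v := by
  have hU := h.U_le
  have hR : R ≤ G₀ := h.R_U.trans hU
  have hS : Q.S.Nonempty := by
    by_contra h0
    rw [Set.not_nonempty_iff_eq_empty] at h0
    have : Q.rank = 0 := by
      unfold Cfsg.BNPair.rank
      rw [h0]
      simp
    omega
  exact {
    simple := hb.simple (closure_two hgen) hirr hS hperf hcore
    bn := ⟨Q, hb.le, h3, hirr⟩
    cent := h.cent
    S_two := h.S_two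
    S_G₀ := h.S_G₀
    S_R := h.S_R
    S_inf := h.S_inf
    odd := hb.odd
    N_R := h.N_R
    R_U := h.R_U
    U_R := h.U_R
    R_ne := h.R_ne
    NU := by
      rintro x ⟨hx, hxU⟩
      have h1 : (⟨x, hx⟩ : ↥G₀) ∈ normalizer (U.subgroupOf G₀ : Set ↥G₀) :=
        (mem_normalizer_subgroupOf hU).2 hxU
      rw [hb.normalizer_eq] at h1
      exact hBR _ h1
    R_lt := by
      intro h1
      apply hmax.1
      rw [eq_top_iff]
      intro x _
      exact mem_subgroupOf.2 (h1 x.2)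
    max := by
      intro M hM hlt
      have h1 : (normalizer (R : Set G)).subgroupOf G₀ < M.subgroupOf G₀ := by
        refine lt_of_le_of_ne ?_ ?_
        · intro x hx
          exact mem_subgroupOf.2 (hlt.le ⟨x.2, mem_subgroupOf.1 hx⟩)
        · intro h2
          obtain ⟨x, hxM, hx⟩ := SetLike.exists_of_lt hlt
          apply hx
          have h3 : (⟨x, hM hxM⟩ : ↥G₀) ∈ M.subgroupOf G₀ := mem_subgroupOf.2 hxM
          rw [← h2] at h3
          exact ⟨hM hxM, mem_subgroupOf.1 h3⟩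
      have h2 := hmax.2 _ h1
      rw [subgroupOf_eq_top] at h2
      exact le_antisymm hM h2
    v_U := h.v_U
    U_v := h.U_v
    v_ne := h.v_ne
    v_R := h.v_R
    nonab := h.nonab }

/-- the core of `B` -/
theorem core_of (h : EndSide S G₀ U R v) {Q : Cfsg.BNPair ↥G₀} (hb : Bor Q (U.subgroupOf G₀))
    (hgen : G₀ ≤ Subgroup.closure {x : G | x ∈ G₀ ∧ ∃ a : ℕ, x ^ 2 ^ a = 1})
    (hO : ∀ M ≤ U, G₀ ≤ normalizer (M : Set G) → M = ⊥) : Q.B.normalCore = ⊥ := by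
  apply hb.core_eq_bot (closure_two hgen)
  · intro M hM hn
    have h1 : M.map G₀.subtype = ⊥ := by
      apply hO
      · rintro _ ⟨x, hx, rfl⟩
        exact mem_subgroupOf.1 (hM hx)
      · intro g hg
        rw [mem_normalizer_iff]
        intro x
        constructor
        · rintro ⟨y, hy, rfl⟩
          exact ⟨_, hn.conj_mem y hy ⟨g, hg⟩, rfl⟩
        · rintro ⟨y, hy, hyx⟩
          have hyx' : (y : G) = g * x * g⁻¹ := hyx
          refine ⟨_, hn.conj_mem y hy ⟨g, hg⟩⁻¹, ?_⟩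
          show g⁻¹ * (y : G) * g⁻¹⁻¹ = x
          rw [hyx']; group
    rw [eq_bot_iff]
    intro x hx
    have h2 : (x : G) ∈ M.map G₀.subtype := ⟨x, hx, rfl⟩
    rw [h1, mem_bot] at h2
    exact mem_bot.2 (Subtype.ext h2)
  · rw [eq_bot_iff]
    intro x hx
    have h2 : (x : G) ∈ centralizer (G₀ : Set G) := by
      rw [mem_centralizer_iff]
      intro g hg
      exact congrArg Subtype.val (mem_center_iff.1 hx ⟨g, hg⟩)
    rw [h.cent, mem_bot] at h2
    exact mem_bot.2 (Subtype.ext h2)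

/-- **`q = 2`** : `EndIn` from a (B,N)-pair with Borel subgroup `U` (THEOREM FREE). -/
theorem endIn_of_two {I : Type*} {P : I → Subgroup G} (h : EndSide S G₀ U R v) {Q : Cfsg.BNPair ↥G₀}
    (hQ : Q.B = U.subgroupOf G₀) (h3 : 3 ≤ Q.rank) (hirr : Q.Irreducible)
    (e : I ≃ Q.S) (he : ∀ i, ((e i : ↥G₀) : G) ∈ P i) (hPG : ∀ i, P i ≤ G₀)
    (hgen : G₀ ≤ Subgroup.closure {x : G | x ∈ G₀ ∧ ∃ a : ℕ, x ^ 2 ^ a = 1})
    (hO : ∀ M ≤ U, G₀ ≤ normalizer (M : Set G) → M = ⊥) (hperf : commutator ↥G₀ = ⊤) {o : I}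
    (hi : ∀ i, i ≠ o → P i ≤ normalizer (R : Set G)) (ho : ¬ P o ≤ normalizer (R : Set G)) :
    EndIn S G₀ U R v := by
  have hU := h.U_le
  have hU2 : IsPGroup 2 (U.subgroupOf G₀) := by
    have h1 : U ≤ S := by rw [← h.S_inf]; exact inf_le_left
    exact (h.S_two.to_le h1).comap_of_injective _ (Subgroup.subtype_injective _)
  have hb : Bor Q (U.subgroupOf G₀) := by
    rw [← hQ] at hU2 ⊢
    exact Bor.of_two hU2
  have hcR : U ≤ normalizer (R : Set G) := h.U_R.trans (by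
    intro x hx
    rw [mem_normalizer_iff]
    rw [mem_centralizer_iff] at hx
    intro y
    constructor
    · intro hy
      have e : x * y * x⁻¹ = y := by rw [← hx y hy]; group
      rw [e]; exact hy
    · intro hy
      have h2 := hx _ hy
      have e : y = x * y * x⁻¹ := by
        have e2 : x * y * x⁻¹ * x = x * (x * y * x⁻¹) := h2
        have e3 : x * y = x * (x * y * x⁻¹) := by rw [← e2]; group
        exact mul_left_cancel e3
      rw [e]; exact hy)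
  have hBR : ∀ b ∈ Q.B, (b : G) ∈ normalizer (R : Set G) := by
    intro b hb'
    rw [hQ] at hb'
    exact hcR (mem_subgroupOf.1 hb')
  refine endIn_of_bn h hb h3 hirr hgen (core_of h hb hgen hO) hperf hBR ?_
  refine coatom_of_e e (P := fun i => (P i).subgroupOf G₀) (fun i => mem_subgroupOf.2 (he i)) ?_ (o := o) ?_ ?_
  · intro b hb'
    exact mem_subgroupOf.2 (hBR b hb')
  · intro i hne x hx
    exact mem_subgroupOf.2 (hi i hne (mem_subgroupOf.1 hx))
  · intro h1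
    apply ho
    intro x hx
    have h2 : (⟨x, hPG o hx⟩ : ↥G₀) ∈ (P o).subgroupOf G₀ := mem_subgroupOf.2 hx
    exact mem_subgroupOf.1 (h1 h2)

/-- **`EndIn` from `Pre`.** -/
theorem endIn_of_pre {I : Type*} [Finite I] {B : Subgroup G} {P : I → Subgroup G} {m : I → I → ℕ}
    (D : Pre 2 B U P m) (h3 : 3 ≤ Nat.card I)
    (conn : ∀ J : Set I, J.Nonempty → Jᶜ.Nonempty → ∃ i ∈ J, ∃ j ∈ Jᶜ, 3 ≤ m i j)
    (hG₀ : ⨆ i, P i = G₀) (h : EndSide S G₀ U R v)
    (hgen : G₀ ≤ Subgroup.closure {x : G | x ∈ G₀ ∧ ∃ a : ℕ, x ^ 2 ^ a = 1})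
    (hO : ∀ M ≤ U, G₀ ≤ normalizer (M : Set G) → M = ⊥) {o : I}
    (hi : ∀ i, i ≠ o → P i ≤ normalizer (R : Set G)) (ho : ¬ P o ≤ normalizer (R : Set G)) :
    EndIn S G₀ U R v := by
  have : Fact (Nat.Prime 2) := ⟨Nat.prime_two⟩
  obtain ⟨i₀, hi₀⟩ : ∃ i : I, i ≠ o := by
    have : Nontrivial I := Finite.one_lt_card_iff_nontrivial.1 (by omega)
    exact exists_ne o
  have hP : ∀ i, P i ≤ G₀ := fun i => by rw [← hG₀]; exact le_iSup P i
  have hr : ∀ i, P i ≤ G₀.subtype.range := fun i => by rw [range_subtype]; exact hP i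
  have hB : B ≤ G₀ := (D.le o).trans (hP o)
  have D' := D.comap (φ := G₀.subtype) (by rw [ker_subtype]; exact IsPGroup.of_bot) ((D.le i₀).trans (hr i₀)) hr
  have hgen' : ⨆ i, (P i).comap G₀.subtype = ⊤ := by
    have e : (⨆ i, (P i).comap G₀.subtype).map G₀.subtype = (⊤ : Subgroup ↥G₀).map G₀.subtype := by
      rw [Subgroup.map_iSup, ← MonoidHom.range_eq_map, range_subtype]
      have e1 : ∀ i, ((P i).comap G₀.subtype).map G₀.subtype = P i := fun i => map_comap_eq_self (hr i)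
      simp only [e1]
      exact hG₀
    exact map_injective (subtype_injective _) e
  obtain ⟨Q, hQB, hb, hrank, hirr, ⟨e, he⟩, hperf⟩ := exists_bn D' hgen' conn
  have hb' : Bor Q (U.subgroupOf G₀) := hb
  have hcore := core_of h hb' hgen hO
  have hBR : ∀ b ∈ Q.B, (b : G) ∈ normalizer (R : Set G) := by
    intro b hb1
    rw [hQB] at hb1
    exact hi i₀ hi₀ (D.le i₀ hb1)
  refine endIn_of_bn h hb' (by rw [hrank]; exact h3) hirr hgen hcore (hperf (closure_two hgen) hcore) hBR ?_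
  refine coatom_of_e e (P := fun i => (P i).comap G₀.subtype) he ?_ (o := o) ?_ ?_
  · intro b hb'
    exact mem_subgroupOf.2 (hBR b hb')
  · intro i hne x hx
    exact mem_subgroupOf.2 (hi i hne hx)
  · intro h1
    apply ho
    intro x hx
    have h2 : (⟨x, hP o hx⟩ : ↥G₀) ∈ (P o).comap G₀.subtype := hx
    exact mem_subgroupOf.1 (h1 h2)

/-! ### The form of the consumer (811, `HOne/SameCut.lean`) -/

/-- `O₂(G₀) = 1` from the nonlocality of the pair `N(V)`, `N(R)`. -/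
theorem hO_of_nonloc {V : Subgroup G} (hUG : U ≤ G₀) (hU2 : IsPGroup 2 U) (hodd : Odd (U.relIndex G₀))
    (hV : normalizer (V : Set G) ≤ normalizer (G₀ : Set G)) (hR : normalizer (R : Set G) ≤ normalizer (G₀ : Set G))
    (nonloc : ∀ M ≤ U, normalizer (V : Set G) ≤ normalizer (M : Set G) →
      normalizer (R : Set G) ≤ normalizer (M : Set G) → M = ⊥) :
    ∀ M ≤ U, G₀ ≤ normalizer (M : Set G) → M = ⊥ := by
  have hfact : Fact (Nat.Prime 2) := ⟨Nat.prime_two⟩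
  intro M hM hn
  have h1 : ZN.o2 G₀ ≤ U := by
    intro x hx
    have hnd : ¬ 2 ∣ (U.subgroupOf G₀).index := by
      rw [← even_iff_two_dvd, Nat.not_even_iff_odd]
      exact hodd
    set T : Sylow 2 ↥G₀ := (hU2.comap_of_injective G₀.subtype G₀.subtype_injective).toSylow hnd with hT
    have h2 : IsPGroup 2 ((ZN.o2 G₀).subgroupOf G₀) :=
      (MinSimple.VModule.o2_isPGroup G₀).comap_of_injective _ G₀.subtype_injective
    have h3 : ((ZN.o2 G₀).subgroupOf G₀).Normal :=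
      normal_subgroupOf_of_le_normalizer (MinSimple.VModule.le_normalizer_o2 G₀)
    have h4 : (ZN.o2 G₀).subgroupOf G₀ ≤ (T : Subgroup ↥G₀) := h2.le_sylow_of_normal T
    have h5 : (⟨x, MinSimple.VModule.o2_le G₀ hx⟩ : ↥G₀) ∈ (ZN.o2 G₀).subgroupOf G₀ := mem_subgroupOf.2 hx
    exact h4 h5
  have h2 : ZN.o2 G₀ = ⊥ := by
    apply nonloc _ h1
    · exact hV.trans (ZN.normalizer_le_normalizer_o2 G₀)
    · exact hR.trans (ZN.normalizer_le_normalizer_o2 G₀)
  have h3 : M ≤ ZN.o2 G₀ := MinSimple.VModule.le_o2 (hM.trans hUG) (hU2.to_le hM) hn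
  rw [h2] at h3
  exact le_bot_iff.1 h3

/-- **`EndIn` for a Sylow 2-subgroup `S` of `G`**, from the data of the chain (same type, `q ≥ 4`). -/
theorem endIn_of_chain {I : Type*} [Finite I] {B U V R G₀ : Subgroup G} {P : I → Subgroup G} {m : I → I → ℕ}
    (D : Pre 2 B U P m) (h3 : 3 ≤ Nat.card I)
    (conn : ∀ J : Set I, J.Nonempty → Jᶜ.Nonempty → ∃ i ∈ J, ∃ j ∈ Jᶜ, 3 ≤ m i j)
    (hG₀ : ⨆ i, P i = G₀) {o : I} (ho : ¬ P o ≤ normalizer (R : Set G))
    (hi : ∀ i, i ≠ o → P i ≤ normalizer (R : Set G)) (S : Sylow 2 G) (hUS : U ≤ S)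
    (hSV : (S : Subgroup G) ≤ normalizer (V : Set G)) (hSR : (S : Subgroup G) ≤ normalizer (R : Set G))
    (hV : normalizer (V : Set G) ≤ normalizer (G₀ : Set G)) (hR : normalizer (R : Set G) ≤ normalizer (G₀ : Set G))
    (cent : centralizer (G₀ : Set G) = ⊥) (R_U : R ≤ U) (U_R : U ≤ centralizer (R : Set G)) (R_ne : R ≠ ⊥)
    {v : G} (v_U : v ∈ U) (v_ne : v ≠ 1) (U_v : ∀ u ∈ U, u * v = v * u)
    (v_R : ∃ x ∈ G₀, x * v = v * x ∧ x ∉ normalizer (R : Set G))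
    (w : ∃ W ≤ U, normalizer (R : Set G) ≤ normalizer (W : Set G) ∧ ∃ x ∈ W, ∃ y ∈ W, x * y ≠ y * x)
    (hgen : ∀ H : Subgroup G, (∀ x ∈ G₀, (∃ n : ℕ, x ^ 2 ^ n = 1) → x ∈ H) → G₀ ≤ H)
    (nonloc : ∀ M ≤ U, normalizer (V : Set G) ≤ normalizer (M : Set G) →
      normalizer (R : Set G) ≤ normalizer (M : Set G) → M = ⊥) :
    EndIn (S : Subgroup G) G₀ U R v := by
  have hfact : Fact (Nat.Prime 2) := ⟨Nat.prime_two⟩
  have hPG : ∀ i, P i ≤ G₀ := fun i => by rw [← hG₀]; exact le_iSup P i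
  have hUG : U ≤ G₀ := D.U_le.trans ((D.le o).trans (hPG o))
  -- `U` is a Sylow 2-subgroup of `G₀`
  have hodd : Odd (U.relIndex G₀) := by
    have hr : ∀ i, P i ≤ G₀.subtype.range := fun i => by rw [range_subtype]; exact hPG i
    have D' := D.comap (φ := G₀.subtype) (by rw [ker_subtype]; exact IsPGroup.of_bot) ((D.le o).trans (hr o)) hr
    have hgen' : ⨆ i, (P i).comap G₀.subtype = ⊤ := by
      have e : (⨆ i, (P i).comap G₀.subtype).map G₀.subtype = (⊤ : Subgroup ↥G₀).map G₀.subtype := by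
        rw [Subgroup.map_iSup, ← MonoidHom.range_eq_map, range_subtype]
        have e1 : ∀ i, ((P i).comap G₀.subtype).map G₀.subtype = P i := fun i => map_comap_eq_self (hr i)
        simp only [e1]
        exact hG₀
      exact map_injective (subtype_injective _) e
    obtain ⟨Q, -, hb, -⟩ := exists_bn D' hgen' conn
    exact hb.odd
  have hnd : ¬ 2 ∣ (U.subgroupOf G₀).index := by
    rw [← even_iff_two_dvd, Nat.not_even_iff_odd]
    exact hodd
  have hS2 : IsPGroup 2 (S : Subgroup G) := S.2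
  have S_inf : (S : Subgroup G) ⊓ G₀ = U := by
    apply le_antisymm _ (le_inf hUS hUG)
    set T : Sylow 2 ↥G₀ := (D.isP.comap_of_injective G₀.subtype G₀.subtype_injective).toSylow hnd with hT
    have h2 : IsPGroup 2 ((S : Subgroup G).subgroupOf G₀) := hS2.comap_of_injective _ G₀.subtype_injective
    have h4 : (T : Subgroup ↥G₀) ≤ (S : Subgroup G).subgroupOf G₀ := fun x hx =>
      mem_subgroupOf.2 (hUS (mem_subgroupOf.1 hx))
    have h5 := T.3 h2 h4
    rintro x ⟨hxS, hxG⟩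
    have h6 : (⟨x, hxG⟩ : ↥G₀) ∈ (S : Subgroup G).subgroupOf G₀ := mem_subgroupOf.2 hxS
    rw [h5] at h6
    exact mem_subgroupOf.1 h6
  have hside : EndSide (S : Subgroup G) G₀ U R v := {
    cent := cent
    S_two := hS2
    S_G₀ := hSV.trans hV
    S_R := hSR
    S_inf := S_inf
    N_R := hR
    R_U := R_U
    U_R := U_R
    R_ne := R_ne
    v_U := v_U
    U_v := fun u hu => mem_centralizer_singleton_iff.2 (U_v u hu)
    v_ne := v_ne
    v_R := by
      obtain ⟨x, hx, hxv, hxR⟩ := v_R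
      exact fun h => hxR (h ⟨hx, mem_centralizer_singleton_iff.2 hxv⟩)
    nonab := by
      obtain ⟨W, hWU, hNW, x, hx, y, hy, hxy⟩ := w
      refine ⟨W, hWU.trans hUG, D.isP.to_le hWU, inf_le_right.trans hNW, fun h => hxy ?_⟩
      exact (mem_centralizer_iff.1 (h hy) x hx) }
  refine endIn_of_pre D h3 conn hG₀ hside ?_ (hO_of_nonloc hUG D.isP hodd hV hR nonloc) hi ho
  apply hgen
  intro x hx hn
  exact subset_closure ⟨hx, hn⟩

end Cfsg.Agent.Omega.HOneEnd
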