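import Mathlib
import Cfsg.Agent.KFacts.SysFree
import Cfsg.Agent.KFacts.RgdInd
import Cfsg.Agent.Omega.HOneEnd.EndIn
import Cfsg.Agent.KFacts.RgdEx
import Cfsg.Agent.S0319
import Cfsg.Agent.TitsThree.CharBase
import Cfsg.Prelude.Def_LieTypeChar

section


/-!
# LeafH1, END: root systems with two dominant roots (`C_n`, `F₄`), characteristic two

`Sys R e` (characteristic two), `Two cs h ρ σ i j` : the dominant roots are `ρ`, `σ`; `ρ` is moved by `s_i` only, `σ` by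
`s_j` only, `i ≠ j`.

* `eq_X` : `1 ≠ R ≤ Z(U)`, `N(U) ≤ N(R)`, `N(R)` maximal ⟹ `R = X ρ` or `R = X σ`;
* `ne_of_abel` : `O₂(N(X σ))` is abelian if `⟨a, b^∨⟩ ≥ 0` for all `a`, `b` with `⟨a, σ^∨⟩, ⟨b, σ^∨⟩ ≥ 1`.
-/

set_option autoImplicit false
set_option linter.unusedSectionVars false

namespace Cfsg.Agent.Omega.HOneEnd.SysID

open CoxeterSystem Cfsg.Agent.ChevalleyStructure.CoxeterGeom Cfsg.Agent.Tits.Roots Cfsg.Agent.Tits.Core
  Cfsg.Agent.Tits.Exchange Cfsg.Agent.Nodes.Reps Cfsg.Agent.Nodes.BNOf Cfsg.Agent.Nodes.StabComb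
  Cfsg.Agent.Nodes.Bruhat Cfsg.Agent.Nodes.OppDec Cfsg.Agent.Nodes.LeviDec Cfsg.Agent.Nodes.NormalForm
  Cfsg.Agent.Nodes.Coroot Cfsg.Agent.Nodes.PosPair Cfsg.Agent.KFacts.RgdPar Cfsg.Agent.KFacts.RgdTI
  Cfsg.Agent.KFacts.RgdCent Cfsg.Agent.KFacts.RgdKap Cfsg.Agent.KFacts.RgdField Cfsg.Agent.KFacts.RgdOdd
  Cfsg.Agent.KFacts.RgdSys Cfsg.Agent.KFacts.ChevTwo Cfsg.Agent.KFacts.SysFree
open scoped commutatorElement

variable {I W Y K : Type*} [Fintype I] [DecidableEq I] [Group W] [Group Y] [Field K] {M : CoxeterMatrix I}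
variable {cs : CoxeterSystem M W} {A : I → I → ℤ} {h : IsCartan M A} {e : (I → ℤ) → K → Y}
  {T : Subgroup Y} {n : I → Y} {X : (I → ℤ) → Subgroup Y}

/-- Two dominant roots, moved by different nodes. -/
structure Two (cs : CoxeterSystem M W) (h : IsCartan M A) (ρ σ : I → ℤ) (i j : I) : Prop where
  rρ : ρ ∈ Star cs h (RGD.Pos cs h)
  rσ : σ ∈ Star cs h (RGD.Pos cs h)
  dom : Star cs h (RGD.Pos cs h) ⊆ {ρ, σ}
  ne : ρ ≠ σ
  ij : i ≠ j
  fixρ : ∀ k, k ≠ i → pairing A k ρ = 0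
  fixσ : ∀ k, k ≠ j → pairing A k σ = 0
  posρ : rep cs h (cs.simple i) ρ ∈ RGD.Pos cs h
  posσ : rep cs h (cs.simple j) σ ∈ RGD.Pos cs h
  movρ : rep cs h (cs.simple i) ρ ≠ ρ
  movσ : rep cs h (cs.simple j) σ ≠ σ
  movρσ : rep cs h (cs.simple i) ρ ≠ σ
  movσρ : rep cs h (cs.simple j) σ ≠ ρ

theorem Two.symm {ρ σ : I → ℤ} {i j : I} (D : Two cs h ρ σ i j) : Two cs h σ ρ j i where
  rρ := D.rσ
  rσ := D.rρ
  dom := by rw [Set.pair_comm]; exact D.dom
  ne := D.ne.symm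
  ij := D.ij.symm
  fixρ := D.fixσ
  fixσ := D.fixρ
  posρ := D.posσ
  posσ := D.posρ
  movρ := D.movσ
  movσ := D.movρ
  movρσ := D.movσρ
  movσρ := D.movρσ

section comb

variable [Finite W] {ρ σ : I → ℤ} {i j : I} (D : Two cs h ρ σ i j)

include D

theorem Two.closed : Cfsg.Agent.Nodes.Unique.Closed cs h ({ρ, σ} : Set (I → ℤ)) := by
  intro x hx y hy z hz
  apply D.dom
  have hx' : x ∈ Star cs h (RGD.Pos cs h) := by
    rcases hx with rfl | hx
    · exact D.rρ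
    · rw [Set.mem_singleton_iff] at hx; subst hx; exact D.rσ
  have hy' : y ∈ Star cs h (RGD.Pos cs h) := by
    rcases hy with rfl | hy
    · exact D.rρ
    · rw [Set.mem_singleton_iff] at hy; subst hy; exact D.rσ
  obtain ⟨hzr, m, a, b, hm, ha, hb, he⟩ := hz
  refine ⟨hzr, fun c hc => ?_⟩
  have h1 : cpr cs h (m • z) c = cpr cs h (a • x + b • y) c := by rw [he]
  rw [cpr_smul cs h m z hc.1, cpr_add cs h _ _ hc.1, cpr_smul cs h a x hc.1, cpr_smul cs h b y hc.1] at h1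
  have h2 := hx'.2 c hc
  have h3 := hy'.2 c hc
  have h4 : 0 ≤ m * cpr cs h z c := by
    rw [h1]
    exact add_nonneg (mul_nonneg ha.le h2) (mul_nonneg hb.le h3)
  by_contra h5
  push Not at h5
  nlinarith

theorem Two.rep_eq {k : I} (hk : k ≠ i) : rep cs h (cs.simple k) ρ = ρ := by
  rw [rep_simple_eq, D.fixρ k hk, zero_smul, sub_zero]

end comb

section main

variable [Finite W] [Finite Y] {R : RGD cs h 2 T n X} (S : Sys R e) (hG1 : RGD.Sup X {x | IsRoot cs h x} = ⊤)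
  (hN : NoCent cs h T X) {ρ σ : I → ℤ} {i j : I} (D : Two cs h ρ σ i j)
  (hconn : ∀ J : Set I, J.Nonempty → J ≠ Set.univ → ∃ a ∈ J, ∃ b, b ∉ J ∧ M a b ≠ 2)

include S D

/-- elements of `⟨X ρ, X σ⟩` -/
theorem mem_pair {c : Y} (hc : c ∈ RGD.Sup X ({ρ, σ} : Set (I → ℤ))) : ∃ x ∈ X ρ, ∃ y ∈ X σ, c = x * y := by
  have hcomm : ∀ x ∈ X ρ, ∀ y ∈ X σ, x * y = y * x := fun x hx y hy =>
    (S.lr D.rσ.1).comm ρ D.rρ.1 (D.rρ.2 σ (star_pos D.rσ)) x hx y hy
  let L : Subgroup Y :=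
    { carrier := {c | ∃ x ∈ X ρ, ∃ y ∈ X σ, c = x * y}
      one_mem' := ⟨1, one_mem _, 1, one_mem _, (mul_one 1).symm⟩
      mul_mem' := by
        rintro _ _ ⟨x, hx, y, hy, rfl⟩ ⟨x', hx', y', hy', rfl⟩
        refine ⟨x * x', mul_mem hx hx', y * y', mul_mem hy hy', ?_⟩
        calc x * y * (x' * y') = x * (y * x') * y' := by group
          _ = x * (x' * y) * y' := by rw [hcomm x' hx' y hy]
          _ = _ := by group
      inv_mem' := by
        rintro _ ⟨x, hx, y, hy, rfl⟩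
        refine ⟨x⁻¹, inv_mem hx, y⁻¹, inv_mem hy, ?_⟩
        rw [mul_inv_rev, hcomm _ (inv_mem hx) _ (inv_mem hy)] }
  have h1 : RGD.Sup X ({ρ, σ} : Set (I → ℤ)) ≤ L := by
    refine RGD.Sup_le fun a ha w hw => ?_
    rcases ha with rfl | ha
    · exact ⟨w, hw, 1, one_mem _, (mul_one w).symm⟩
    · rw [Set.mem_singleton_iff] at ha
      subst ha
      exact ⟨1, one_mem _, w, hw, (one_mul w).symm⟩
  exact h1 hc

/-- the images under `s_j` -/
theorem inf_bot {c : Y} (hc : c ∈ RGD.Sup X ({ρ, σ} : Set (I → ℤ))) (hc' : c ∈ X (rep cs h (cs.simple j) σ)) : c = 1 := by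
  have h1 : c ∈ RGD.Sup X ({ρ, σ} : Set (I → ℤ)) ⊓ RGD.Sup X {rep cs h (cs.simple j) σ} :=
    ⟨hc, RGD.le_Sup (S := {rep cs h (cs.simple j) σ}) rfl hc'⟩
  rw [Cfsg.Agent.KFacts.RgdInd.inf_eq_of_pos R Nodes.Slope.htHom (S := {ρ, σ}) (S' := {rep cs h (cs.simple j) σ})
    (fun x hx => ?_) (fun x hx => ?_) D.closed (Cfsg.Agent.KFacts.RgdInd.closed_singleton D.posσ.1)] at h1
  · have h2 : ({ρ, σ} : Set (I → ℤ)) ∩ {rep cs h (cs.simple j) σ} = ∅ := by
      ext x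
      simp only [Set.mem_inter_iff, Set.mem_insert_iff, Set.mem_singleton_iff, Set.mem_empty_iff_false, iff_false,
        not_and]
      rintro (rfl | rfl) h3
      · exact D.movσρ h3.symm
      · exact D.movσ h3.symm
    rw [h2, Cfsg.Agent.Nodes.OppDec.Sup_empty, Subgroup.mem_bot] at h1
    exact h1
  · have hx' : x ∈ RGD.Pos cs h := by
      rcases hx with rfl | hx
      · exact star_pos D.rρ
      · rw [Set.mem_singleton_iff] at hx; subst hx; exact star_pos D.rσ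
    exact ⟨hx'.1, RGD.ht_pos hx'.1 hx'.2⟩
  · rw [Set.mem_singleton_iff] at hx
    subst hx
    exact ⟨D.posσ.1, RGD.ht_pos D.posσ.1 D.posσ.2⟩

theorem inf_bot' {c : Y} (hc : c ∈ X ρ) (hc' : c ∈ X σ) : c = 1 := by
  have h1 : c ∈ RGD.Sup X ({ρ} : Set (I → ℤ)) ⊓ RGD.Sup X {σ} :=
    ⟨RGD.le_Sup (S := {ρ}) rfl hc, RGD.le_Sup (S := {σ}) rfl hc'⟩
  have hpos : ∀ x ∈ Star cs h (RGD.Pos cs h), IsRoot cs h x ∧ 0 < Nodes.Slope.htHom x := fun x hx =>
    ⟨hx.1, RGD.ht_pos hx.1 (star_pos hx).2⟩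
  rw [Cfsg.Agent.KFacts.RgdInd.inf_eq_of_pos R Nodes.Slope.htHom (S := {ρ}) (S' := {σ})
    (fun x hx => ?_) (fun x hx => ?_) (Cfsg.Agent.KFacts.RgdInd.closed_singleton D.rρ.1)
    (Cfsg.Agent.KFacts.RgdInd.closed_singleton D.rσ.1)] at h1
  · have h2 : ({ρ} : Set (I → ℤ)) ∩ {σ} = ∅ := by
      rw [Set.singleton_inter_eq_empty, Set.mem_singleton_iff]
      exact D.ne
    rw [h2, Cfsg.Agent.Nodes.OppDec.Sup_empty, Subgroup.mem_bot] at h1
    exact h1
  · rw [Set.mem_singleton_iff] at hx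
    subst hx
    exact hpos _ D.rρ
  · rw [Set.mem_singleton_iff] at hx
    subst hx
    exact hpos _ D.rσ

/-- If `n_j` normalises `Z ≤ ⟨X ρ, X σ⟩` then `Z ≤ X ρ`. -/
theorem le_X {Z : Subgroup Y} (hZ : Z ≤ RGD.Sup X ({ρ, σ} : Set (I → ℤ)))
    (hn : n j ∈ Subgroup.normalizer (Z : Set Y)) : Z ≤ X ρ := by
  intro c hc
  obtain ⟨x, hx, y, hy, rfl⟩ := mem_pair S D (hZ hc)
  have h1 : n j * (x * y) * (n j)⁻¹ ∈ Z := (Subgroup.mem_normalizer_iff.1 hn _).1 hc
  have hx' : n j * x * (n j)⁻¹ ∈ X ρ := by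
    have h2 : n j * x * (n j)⁻¹ ∈ cj (n j) (X ρ) := by
      rw [mem_cj]
      have : (n j)⁻¹ * (n j * x * (n j)⁻¹) * n j = x := by group
      rwa [this]
    rwa [R.conj j ρ D.rρ.1, D.rep_eq D.ij.symm] at h2
  have hy' : n j * y * (n j)⁻¹ ∈ X (rep cs h (cs.simple j) σ) := by
    have h2 : n j * y * (n j)⁻¹ ∈ cj (n j) (X σ) := by
      rw [mem_cj]
      have : (n j)⁻¹ * (n j * y * (n j)⁻¹) * n j = y := by group
      rwa [this]
    rwa [R.conj j σ D.rσ.1] at h2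
  have h3 : n j * y * (n j)⁻¹ ∈ RGD.Sup X ({ρ, σ} : Set (I → ℤ)) := by
    have h4 := mul_mem (inv_mem (RGD.le_Sup (S := ({ρ, σ} : Set (I → ℤ))) (Set.mem_insert ρ {σ}) hx')) (hZ h1)
    have e1 : (n j * x * (n j)⁻¹)⁻¹ * (n j * (x * y) * (n j)⁻¹) = n j * y * (n j)⁻¹ := by group
    rwa [e1] at h4
  have h5 := inf_bot S D h3 hy'
  have h6 : y = 1 := by
    have : y = (n j)⁻¹ * (n j * y * (n j)⁻¹) * n j := by group
    rw [this, h5]; group
  rw [h6, mul_one]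
  exact hx

/-- `n_i` moves `X ρ`. -/
theorem n_notMem : n i ∉ Subgroup.normalizer (X ρ : Set Y) := by
  intro h1
  have h2 : cj (n i) (X ρ) = X ρ := mem_normalizer_iff_cj.1 h1
  rw [R.conj i ρ D.rρ.1] at h2
  have h3 : e ρ 1 ∈ X ρ := S.mem D.rρ.1 1
  have h4 : e ρ 1 ∈ RGD.Sup X ({σ, ρ} : Set (I → ℤ)) := RGD.le_Sup (S := ({σ, ρ} : Set (I → ℤ))) (by simp) h3
  exact S.data.ne_one D.rρ.1 one_ne_zero (inf_bot S D.symm h4 (by rw [h2]; exact h3))

theorem n_mem {k : I} (hk : k ≠ i) : n k ∈ Subgroup.normalizer (X ρ : Set Y) := by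
  rw [mem_normalizer_iff_cj, R.conj k ρ D.rρ.1, D.rep_eq hk]

/-- the normaliser of `X ρ` contains the Borel subgroup -/
theorem B_le : RGD.B cs h T X ≤ Subgroup.normalizer (X ρ : Set Y) := by
  have h1 : RGD.Sup X (RGD.Pos cs h) ≤ Subgroup.normalizer (X ρ : Set Y) := by
    intro u hu
    rw [Subgroup.mem_normalizer_iff]
    intro v
    constructor
    · intro hv
      have := star_comm_U S D.rρ hv hu
      rw [this, mul_inv_cancel_right]
      exact hv
    · intro hv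
      have h2 := star_comm_U S D.rρ hv hu
      have e1 : v = u⁻¹ * (u * v * u⁻¹) * u := by group
      have h3 : u⁻¹ * (u * v * u⁻¹) * u = u * v * u⁻¹ := by
        have h4 : u * v * u⁻¹ * u = u * (u * v * u⁻¹) := by rw [h2]
        rw [mul_assoc, h4]; group
      rw [e1, h3]
      exact hv
  have h2 : T ≤ Subgroup.normalizer (X ρ : Set Y) := fun t ht => by
    rw [mem_normalizer_iff_cj]
    exact R.tor ρ D.rρ.1 t ht
  exact sup_le h2 h1

end main

section par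

variable [Finite W] [Finite Y] {R : RGD cs h 2 T n X} (S : Sys R e) (hG1 : RGD.Sup X {x | IsRoot cs h x} = ⊤)

include S

theorem PJ_mono {J J' : Set I} (hJ : J ⊆ J') : PJ cs h T X J ≤ PJ cs h T X J' := by
  intro g hg
  obtain ⟨w, hw, hc⟩ := (mem_PJ_iff_cell R).1 hg
  exact (mem_PJ_iff_cell R).2 ⟨w, Subgroup.closure_mono (Set.image_mono hJ) hw, hc⟩

include hG1

theorem eq_PJ {P : Subgroup Y} (hP : RGD.B cs h T X ≤ P) : P = PJ cs h T X {k | n k ∈ P} := by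
  have h1 := inf_eq_PJ R hP
  rwa [Cfsg.Agent.KFacts.RgdRigid.GG_eq_top hG1, inf_top_eq] at h1

theorem le_of_nodes {P P' : Subgroup Y} (hP : RGD.B cs h T X ≤ P) (hP' : RGD.B cs h T X ≤ P')
    (hle : ∀ k, n k ∈ P → n k ∈ P') : P ≤ P' := by
  have h1 := eq_PJ S hG1 hP
  have h2 := eq_PJ S hG1 hP'
  have h3 : PJ cs h T X {k | n k ∈ P} ≤ PJ cs h T X {k | n k ∈ P'} := PJ_mono S hle
  exact (h1.le.trans h3).trans h2.ge

end par

end Cfsg.Agent.Omega.HOneEnd.SysID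

end

section


/-!
# LeafH1, END: the subgroup `R` is a root group

* `eq_X` : `1 ≠ Z ≤ Z(U)`, `N(U) ≤ N(Z)`, `N(Z)` maximal ⟹ `Z = X ρ` or `Z = X σ`;
* `abel` : a normal 2-subgroup of `N(X σ)` is abelian if `⟨a, b^∨⟩ ≥ 0` for all `a`, `b ∈ Rad σ`.
-/

set_option autoImplicit false
set_option linter.unusedSectionVars false

namespace Cfsg.Agent.Omega.HOneEnd.SysID

open CoxeterSystem Cfsg.Agent.ChevalleyStructure.CoxeterGeom Cfsg.Agent.Tits.Roots Cfsg.Agent.Tits.Core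
  Cfsg.Agent.Tits.Exchange Cfsg.Agent.Nodes.Reps Cfsg.Agent.Nodes.BNOf Cfsg.Agent.Nodes.StabComb
  Cfsg.Agent.Nodes.Bruhat Cfsg.Agent.Nodes.OppDec Cfsg.Agent.Nodes.LeviDec Cfsg.Agent.Nodes.NormalForm
  Cfsg.Agent.Nodes.Coroot Cfsg.Agent.Nodes.PosPair Cfsg.Agent.KFacts.RgdPar Cfsg.Agent.KFacts.RgdTI
  Cfsg.Agent.KFacts.RgdCent Cfsg.Agent.KFacts.RgdKap Cfsg.Agent.KFacts.RgdField Cfsg.Agent.KFacts.RgdOdd
  Cfsg.Agent.KFacts.RgdSys Cfsg.Agent.KFacts.ChevTwo Cfsg.Agent.KFacts.SysFree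
open scoped commutatorElement

variable {I W Y K : Type*} [Fintype I] [DecidableEq I] [Group W] [Group Y] [Field K] {M : CoxeterMatrix I}
variable {cs : CoxeterSystem M W} {A : I → I → ℤ} {h : IsCartan M A} {e : (I → ℤ) → K → Y}
  {T : Subgroup Y} {n : I → Y} {X : (I → ℤ) → Subgroup Y}

section main

variable [Finite W] [Finite Y] [Finite K] [CharP K 2] {R : RGD cs h 2 T n X} (S : Sys R e)
  (hG1 : RGD.Sup X {x | IsRoot cs h x} = ⊤)

include S hG1

/-- The torus is transitive on `X ρ ∖ 1`. -/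
theorem eq_of_le {ρ : I → ℤ} (hρ : IsRoot cs h ρ) {Z : Subgroup Y} (hZ : Z ≤ X ρ) (hne : Z ≠ ⊥)
    (hT : T ≤ Subgroup.normalizer (Z : Set Y)) : Z = X ρ := by
  refine le_antisymm hZ fun x hx => ?_
  obtain ⟨⟨z, hz⟩, hz1'⟩ := Z.ne_bot_iff_exists_ne_one.1 hne
  have hz1 : z ≠ 1 := fun h1 => hz1' (Subtype.ext h1)
  obtain ⟨a, rfl⟩ := (S.mem_X ρ hρ z).1 (hZ hz)
  obtain ⟨b, rfl⟩ := (S.mem_X ρ hρ x).1 hx
  have h0 : e ρ 0 = 1 := by
    have := S.data.add ρ hρ 0 0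
    rw [add_zero] at this
    exact mul_eq_left.1 this.symm
  have ha : a ≠ 0 := by
    rintro rfl
    exact hz1 h0
  by_cases hb : b = 0
  · rw [hb, h0]; exact one_mem _
  have : Fintype K := Fintype.ofFinite K
  have hc : IsSquare (b / a) := by
    refine FiniteField.isSquare_of_char_two ?_ _
    exact ringChar.eq K 2
  obtain ⟨c, hc⟩ := hc
  have hc0 : c ≠ 0 := by
    rintro rfl
    rw [mul_zero, div_eq_zero_iff] at hc
    exact hc.elim hb ha
  have h1 := S.data.hel_conj hρ hρ hc0 a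
  have h2 : hel e ρ c ∈ Subgroup.normalizer (Z : Set Y) := hT (hel_mem S hG1 hρ hc0)
  have h3 := (Subgroup.mem_normalizer_iff.1 h2 _).1 hz
  rw [h1, cpr_self cs h hρ] at h3
  have h4 : c ^ (2 : ℤ) * a = b := by
    have : c ^ (2 : ℤ) = c * c := by
      rw [zpow_ofNat, sq]
    rw [this, ← hc, div_mul_cancel₀ _ ha]
  rwa [h4] at h3

variable (hN : NoCent cs h T X) {ρ σ : I → ℤ} {i j : I} (D : Two cs h ρ σ i j)
  (hconn : ∀ J : Set I, J.Nonempty → J ≠ Set.univ → ∃ a ∈ J, ∃ b, b ∉ J ∧ M a b ≠ 2)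

include hN D hconn

theorem eq_X {Z : Subgroup Y} (hUZ : RGD.Sup X (RGD.Pos cs h) ≤ Subgroup.centralizer (Z : Set Y)) (hne : Z ≠ ⊥)
    (hNU : Subgroup.normalizer (RGD.Sup X (RGD.Pos cs h) : Set Y) ≤ Subgroup.normalizer (Z : Set Y))
    (hmax : IsCoatom (Subgroup.normalizer (Z : Set Y))) : Z = X ρ ∨ Z = X σ := by
  have hne' : Nonempty I := ⟨i⟩
  have hB : RGD.B cs h T X ≤ Subgroup.normalizer (Z : Set Y) := R.B_le_normalizer_U.trans hNU
  have hTB : T ≤ Subgroup.normalizer (Z : Set Y) := le_sup_left.trans hB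
  have hZ : Z ≤ RGD.Sup X ({ρ, σ} : Set (I → ℤ)) := by
    intro c hc
    refine RGD.Sup_mono D.dom (center_le S hG1 hN hconn fun u hu => ?_)
    exact (Subgroup.mem_centralizer_iff.1 (hUZ hu) c hc).symm
  by_cases hi : n i ∈ Subgroup.normalizer (Z : Set Y)
  · by_cases hj : n j ∈ Subgroup.normalizer (Z : Set Y)
    · exfalso
      apply hne
      have h1 := le_X S D hZ hj
      have h2 := le_X S D.symm (by rw [Set.pair_comm]; exact hZ) hi
      rw [eq_bot_iff]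
      intro c hc
      exact Subgroup.mem_bot.2 (inf_bot' S D (h1 hc) (h2 hc))
    · right
      exact eq_of_le S hG1 D.rσ.1 (le_X S D.symm (by rw [Set.pair_comm]; exact hZ) hi) hne hTB
  · by_cases hj : n j ∈ Subgroup.normalizer (Z : Set Y)
    · left
      exact eq_of_le S hG1 D.rρ.1 (le_X S D hZ hj) hne hTB
    · exfalso
      have h1 : Subgroup.normalizer (Z : Set Y) ≤ Subgroup.normalizer (X σ : Set Y) := by
        refine le_of_nodes S hG1 hB (B_le S D.symm) fun k hk => ?_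
        refine n_mem S D.symm fun h2 => ?_
        rw [h2] at hk
        exact hj hk
      have h2 : n i ∈ Subgroup.normalizer (X σ : Set Y) := n_mem S D.symm D.ij
      have h3 : Subgroup.normalizer (X σ : Set Y) = ⊤ := by
        refine hmax.2 _ (lt_of_le_of_ne h1 fun h4 => hi ?_)
        rw [h4]; exact h2
      exact n_notMem S D.symm (h3 ▸ Subgroup.mem_top _)

end main

section abel

variable [Finite W] [Finite Y] {R : RGD cs h 2 T n X} (S : Sys R e) (hG1 : RGD.Sup X {x | IsRoot cs h x} = ⊤)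

include S hG1

/-- normal 2-subgroups of `N(X σ)` -/
theorem core_le_Rad {σ : I → ℤ} (hσ : IsRoot cs h σ) {V : Subgroup Y} (hV : IsPGroup 2 V)
    (hn : Subgroup.normalizer (X σ : Set Y) ≤ Subgroup.normalizer (V : Set Y)) : V ≤ RGD.Sup X (Rad cs h σ) := by
  have : Fact (Nat.Prime 2) := ⟨Nat.prime_two⟩
  refine Cfsg.Agent.KFacts.RgdEx.core_le R hσ ?_ hV fun u hu => ?_
  · rw [Cfsg.Agent.KFacts.RgdRigid.GG_eq_top hG1]; exact le_top
  · have h1 : RGD.Sup X (Ge cs h σ) ≤ Subgroup.normalizer (X σ : Set Y) := by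
      have h2 := (S.lr hσ).PS_le_normalizer
      exact le_sup_right.trans h2
    exact mem_normalizer_iff_cj.1 (hn (h1 hu))

/-- `O₂(N(X σ))` is abelian if all pairs in `Rad σ` have nonnegative products. -/
theorem abel {σ : I → ℤ} (hσ : IsRoot cs h σ) (hab : ∀ a ∈ Rad cs h σ, ∀ b ∈ Rad cs h σ, 0 ≤ cpr cs h a b)
    {V : Subgroup Y} (hV : IsPGroup 2 V)
    (hn : Subgroup.normalizer (X σ : Set Y) ≤ Subgroup.normalizer (V : Set Y)) :
    V ≤ Subgroup.centralizer (V : Set Y) := by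
  have h1 := core_le_Rad S hG1 hσ hV hn
  have h2 : RGD.Sup X (Rad cs h σ) ≤ Subgroup.centralizer (RGD.Sup X (Rad cs h σ) : Set Y) := by
    refine RGD.Sup_le fun a ha v hv => ?_
    have h3 : RGD.Sup X (Rad cs h σ) ≤ Subgroup.centralizer ({v} : Set Y) := by
      refine RGD.Sup_le fun b hb w hw => ?_
      rw [Subgroup.mem_centralizer_singleton_iff]
      exact (S.lr hb.1).comm a ha.1 (hab a ha b hb) v hv w hw |>.symm
    rw [Subgroup.mem_centralizer_iff]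
    intro w hw
    exact (Subgroup.mem_centralizer_singleton_iff.1 (h3 hw))
  intro v hv
  rw [Subgroup.mem_centralizer_iff]
  intro w hw
  exact Subgroup.mem_centralizer_iff.1 (h2 (h1 hv)) w (h1 hw)

end abel

end Cfsg.Agent.Omega.HOneEnd.SysID

end

section


/-!
# LeafH1, END, THEOREM ID for the groups with two dominant roots

* `LIn.map` : transport along an isomorphism;
* `exists_iso` : an isomorphism `φ` with `φ(U) = ⟨X_a | a > 0⟩` and `φ(R) = X ρ` or `X σ`;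
* `exists_iso_left` : ... `φ(R) = X ρ` if `Rad σ` has nonnegative products only.
-/

set_option autoImplicit false
set_option linter.unusedSectionVars false

namespace Cfsg.Agent.Omega.HOneEnd

open Subgroup

section map

variable {L Y : Type*} [Group L] [Group Y] (φ : L ≃* Y)

theorem mem_normalizer_map {K : Subgroup L} {x : L} :
    φ x ∈ normalizer (K.map φ.toMonoidHom : Set Y) ↔ x ∈ normalizer (K : Set L) := by
  rw [Subgroup.mem_normalizer_iff, Subgroup.mem_normalizer_iff]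
  have key : ∀ g, φ g ∈ K.map φ.toMonoidHom ↔ g ∈ K := fun g =>
    Subgroup.mem_map_iff_mem (f := φ.toMonoidHom) φ.injective
  constructor
  · intro h g
    have h1 := h (φ g)
    rw [← map_mul, ← map_inv, ← map_mul] at h1
    rwa [key, key] at h1
  · intro h g
    obtain ⟨g, rfl⟩ := φ.surjective g
    rw [← map_mul, ← map_inv, ← map_mul, key, key]
    exact h g

theorem mem_centralizer_map {K : Subgroup L} {x : L} :
    φ x ∈ centralizer (K.map φ.toMonoidHom : Set Y) ↔ x ∈ centralizer (K : Set L) := by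
  rw [Subgroup.mem_centralizer_iff, Subgroup.mem_centralizer_iff]
  constructor
  · intro h g hg
    have h1 := h (φ g) (Subgroup.mem_map_of_mem φ.toMonoidHom hg)
    rw [← map_mul, ← map_mul] at h1
    exact φ.injective h1
  · rintro h _ ⟨g, hg, rfl⟩
    have h1 := h g hg
    change φ g * φ x = φ x * φ g
    rw [← map_mul, ← map_mul, h1]

theorem normalizer_map_equiv (K : Subgroup L) :
    normalizer (K.map φ.toMonoidHom : Set Y) = (normalizer (K : Set L)).map φ.toMonoidHom := by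
  ext y
  obtain ⟨x, rfl⟩ := φ.surjective y
  rw [mem_normalizer_map]
  exact (Subgroup.mem_map_iff_mem (f := φ.toMonoidHom) φ.injective).symm

theorem centralizer_map_equiv (K : Subgroup L) :
    centralizer (K.map φ.toMonoidHom : Set Y) = (centralizer (K : Set L)).map φ.toMonoidHom := by
  ext y
  obtain ⟨x, rfl⟩ := φ.surjective y
  rw [mem_centralizer_map]
  exact (Subgroup.mem_map_iff_mem (f := φ.toMonoidHom) φ.injective).symm

theorem map_le_map_equiv {A B : Subgroup L} : A.map φ.toMonoidHom ≤ B.map φ.toMonoidHom ↔ A ≤ B :=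
  Subgroup.map_le_map_iff_of_injective φ.injective

theorem LIn.map {U R : Subgroup L} {v : L} (H : LIn U R v) :
    LIn (U.map φ.toMonoidHom) (R.map φ.toMonoidHom) (φ v) where
  two := H.two.map _
  odd := by
    have h1 : (U.map φ.toMonoidHom).index = U.index :=
      Subgroup.index_map_of_bijective (f := φ.toMonoidHom) φ.bijective U
    rw [h1]; exact H.odd
  R_U := Subgroup.map_mono H.R_U
  U_R := by rw [centralizer_map_equiv, map_le_map_equiv]; exact H.U_R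
  R_ne := by
    intro h0
    apply H.R_ne
    rw [eq_bot_iff, ← map_le_map_equiv φ, h0]
    exact bot_le
  NU := by rw [normalizer_map_equiv, normalizer_map_equiv, map_le_map_equiv]; exact H.NU
  max := by
    rw [normalizer_map_equiv]
    constructor
    · intro h0
      apply H.max.1
      rw [eq_top_iff, ← map_le_map_equiv φ, h0]
      exact le_top
    · intro M hM
      have h1 : normalizer (R : Set L) < M.comap φ.toMonoidHom := by
        refine lt_of_le_of_ne (Subgroup.map_le_iff_le_comap.1 hM.le) fun h2 => ?_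
        rw [h2, Subgroup.map_comap_eq_self_of_surjective (f := φ.toMonoidHom) φ.surjective] at hM
        exact lt_irrefl _ hM
      have h3 := H.max.2 _ h1
      rw [eq_top_iff]
      intro y _
      obtain ⟨x, rfl⟩ := φ.surjective y
      have h4 : x ∈ M.comap φ.toMonoidHom := by rw [h3]; trivial
      exact h4
  v_U := Subgroup.mem_map_of_mem φ.toMonoidHom H.v_U
  U_v := by
    rintro _ ⟨u, hu, rfl⟩
    have h1 := mem_centralizer_singleton_iff.1 (H.U_v hu)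
    rw [mem_centralizer_singleton_iff]
    change φ u * φ v = φ v * φ u
    rw [← map_mul, ← map_mul, h1]
  v_ne := fun h0 => H.v_ne (by rwa [map_eq_one_iff φ φ.injective] at h0)
  v_R := by
    intro h0
    apply H.v_R
    intro x hx
    have h1 := mem_centralizer_singleton_iff.1 hx
    have h2 : φ x ∈ centralizer {φ v} := by
      rw [mem_centralizer_singleton_iff, ← map_mul, ← map_mul, h1]
    exact (mem_normalizer_map φ).1 (h0 h2)
  nonab := by
    obtain ⟨W, h1, h2, h3⟩ := H.nonab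
    refine ⟨W.map φ.toMonoidHom, h1.map _, ?_, ?_⟩
    · rw [normalizer_map_equiv, normalizer_map_equiv, map_le_map_equiv]; exact h2
    · rw [centralizer_map_equiv, map_le_map_equiv]; exact h3

/-- adjusting an isomorphism to given Sylow subgroups -/
theorem exists_equiv_map [Finite L] {p : ℕ} [Fact p.Prime] {U : Subgroup L} (hU : IsPGroup p U) (hUi : ¬ p ∣ U.index)
    {V : Subgroup Y} (hV : IsPGroup p V) (hVm : ∀ Q : Subgroup Y, IsPGroup p Q → V ≤ Q → Q = V) :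
    ∃ g : Y, U.map (φ.trans (MulAut.conj g)).toMonoidHom = V := by
  have : Finite Y := Finite.of_equiv L φ.toEquiv
  have h1 : ¬ p ∣ (U.map φ.toMonoidHom).index := by
    rwa [Subgroup.index_map_of_bijective (f := φ.toMonoidHom) φ.bijective U]
  let P : Sylow p Y := (hU.map φ.toMonoidHom).toSylow h1
  let Q : Sylow p Y := ⟨V, hV, fun {Q} h2 h3 => hVm Q h2 h3⟩
  obtain ⟨g, hg⟩ := MulAction.exists_smul_eq Y P Q
  refine ⟨g, ?_⟩
  have h2 : ((g • P : Sylow p Y) : Subgroup Y) = V := by rw [hg]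
  rw [← h2, Sylow.coe_subgroup_smul]
  ext y
  rw [Subgroup.mem_map, Subgroup.mem_pointwise_smul_iff_inv_smul_mem]
  constructor
  · rintro ⟨u, hu, rfl⟩
    have h3 : (MulAut.conj g)⁻¹ • ((φ.trans (MulAut.conj g)).toMonoidHom u) = φ u := by
      change (MulAut.conj g)⁻¹ (MulAut.conj g (φ u)) = φ u
      rw [← MulAut.mul_apply, inv_mul_cancel, MulAut.one_apply]
    rw [h3]
    exact Subgroup.mem_map_of_mem φ.toMonoidHom hu
  · rintro h3
    obtain ⟨u, hu, hu1⟩ := h3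
    refine ⟨u, hu, ?_⟩
    change MulAut.conj g (φ u) = y
    have h4 : φ u = (MulAut.conj g)⁻¹ y := hu1
    rw [h4, ← MulAut.mul_apply, mul_inv_cancel, MulAut.one_apply]

end map

namespace SysID

open CoxeterSystem Cfsg.Agent.ChevalleyStructure.CoxeterGeom Cfsg.Agent.Tits.Roots Cfsg.Agent.Tits.Core
  Cfsg.Agent.Tits.Exchange Cfsg.Agent.Nodes.Reps Cfsg.Agent.Nodes.BNOf Cfsg.Agent.Nodes.StabComb
  Cfsg.Agent.Nodes.Bruhat Cfsg.Agent.Nodes.OppDec Cfsg.Agent.Nodes.LeviDec Cfsg.Agent.Nodes.NormalForm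
  Cfsg.Agent.Nodes.Coroot Cfsg.Agent.Nodes.PosPair Cfsg.Agent.KFacts.RgdPar Cfsg.Agent.KFacts.RgdTI
  Cfsg.Agent.KFacts.RgdCent Cfsg.Agent.KFacts.RgdKap Cfsg.Agent.KFacts.RgdField Cfsg.Agent.KFacts.RgdOdd
  Cfsg.Agent.KFacts.RgdSys Cfsg.Agent.KFacts.ChevTwo Cfsg.Agent.KFacts.SysFree

variable {I W Y K : Type*} [Fintype I] [DecidableEq I] [Group W] [Group Y] [Field K] {M : CoxeterMatrix I}
variable {cs : CoxeterSystem M W} {A : I → I → ℤ} {h : IsCartan M A} {e : (I → ℤ) → K → Y}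
  {T : Subgroup Y} {n : I → Y} {X : (I → ℤ) → Subgroup Y}
variable [Finite W] [Finite K] [CharP K 2] {R : RGD cs h 2 T n X} (S : Sys R e)
  (hG1 : RGD.Sup X {x | IsRoot cs h x} = ⊤) (hN : NoCent cs h T X) {ρ σ : I → ℤ} {i j : I} (D : Two cs h ρ σ i j)
  (hconn : ∀ J : Set I, J.Nonempty → J ≠ Set.univ → ∃ a ∈ J, ∃ b, b ∉ J ∧ M a b ≠ 2)

include S hG1 hN D hconn

theorem exists_iso {L : Type*} [Group L] [Finite L] (ψ : L ≃* Y) {U Z : Subgroup L} {v : L} (H : LIn U Z v) :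
    ∃ φ : L ≃* Y, U.map φ.toMonoidHom = RGD.Sup X (RGD.Pos cs h) ∧
      (Z.map φ.toMonoidHom = X ρ ∨ Z.map φ.toMonoidHom = X σ) := by
  have : Fact (Nat.Prime 2) := ⟨Nat.prime_two⟩
  have : Finite Y := Finite.of_equiv L ψ.toEquiv
  obtain ⟨g, hg⟩ := exists_equiv_map ψ H.two (fun h1 => (Nat.not_even_iff_odd.2 H.odd) (even_iff_two_dvd.2 h1))
    R.isPGroup_Upos (V := RGD.Sup X (RGD.Pos cs h)) fun Q hQ hle => by
      refine eq_U_of_isPGroup R hQ hle ?_
      rw [Cfsg.Agent.KFacts.RgdRigid.GG_eq_top hG1]; exact le_top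
  have H' := H.map (ψ.trans (MulAut.conj g))
  rw [hg] at H'
  exact ⟨_, hg, eq_X S hG1 hN D hconn H'.U_R H'.R_ne H'.NU H'.max⟩

theorem exists_iso_left (hab : ∀ a ∈ Rad cs h σ, ∀ b ∈ Rad cs h σ, 0 ≤ cpr cs h a b)
    {L : Type*} [Group L] [Finite L] (ψ : L ≃* Y) {U Z : Subgroup L} {v : L} (H : LIn U Z v) :
    ∃ φ : L ≃* Y, U.map φ.toMonoidHom = RGD.Sup X (RGD.Pos cs h) ∧ Z.map φ.toMonoidHom = X ρ := by
  have : Finite Y := Finite.of_equiv L ψ.toEquiv
  obtain ⟨φ, h1, h2⟩ := exists_iso S hG1 hN D hconn ψ H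
  refine ⟨φ, h1, h2.resolve_right fun h3 => ?_⟩
  obtain ⟨V, hV, hn, hnc⟩ := (H.map φ).nonab
  rw [h3] at hn
  exact hnc (abel S hG1 D.rσ.1 hab hV hn)

end SysID

end Cfsg.Agent.Omega.HOneEnd

end

section


/-!
# LeafH1, END: the index of `B` in a minimal parabolic subgroup (helper368)

`relIndex_parabolic` : `|P_s : B| = 1 + |B : B ∩ sBs⁻¹|`.
-/

set_option autoImplicit false

namespace Cfsg.Agent.Omega.HOneEnd.Parity

open Cfsg.Agent.TitsThree.CharBase (relIndex_eq_orbit relIndex_ne_one)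

theorem relIndex_parabolic {G : Type*} [Group G] [Finite G] (P : Cfsg.BNPair G) {s : G} (hs : s ∈ P.S) :
    P.B.relIndex (P.parabolic {s}) = 1 + (P.B.map (MulAut.conj s).toMonoidHom).relIndex P.B := by
  have hBs : ∀ b ∈ P.B, b ∈ P.parabolic {s} := fun b hb =>
    (le_sup_left : P.B ≤ P.B ⊔ Subgroup.closure {s}) hb
  have hss : s ∈ P.parabolic {s} :=
    (le_sup_right : Subgroup.closure {s} ≤ P.B ⊔ Subgroup.closure {s}) (Subgroup.subset_closure rfl)
  rw [relIndex_eq_orbit]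
  have h1 : MulAction.stabilizer (P.parabolic {s}) (QuotientGroup.mk 1 : G ⧸ P.B) =
      P.B.subgroupOf (P.parabolic {s}) := by
    ext ⟨g, hg⟩
    rw [MulAction.mem_stabilizer_iff, Subgroup.mem_subgroupOf]
    change (QuotientGroup.mk (g * 1) : G ⧸ P.B) = QuotientGroup.mk 1 ↔ _
    rw [eq_comm, QuotientGroup.eq]
    simp
  have h2 : P.B.relIndex (P.parabolic {s}) =
      (MulAction.orbit (P.parabolic {s}) (QuotientGroup.mk 1 : G ⧸ P.B)).ncard := by
    rw [← MulAction.index_stabilizer, h1]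
    rfl
  have h3 : MulAction.orbit (P.parabolic {s}) (QuotientGroup.mk 1 : G ⧸ P.B) =
      insert (QuotientGroup.mk 1) (MulAction.orbit P.B (QuotientGroup.mk s : G ⧸ P.B)) := by
    ext y
    constructor
    · rintro ⟨⟨g, hg⟩, rfl⟩
      change (QuotientGroup.mk (g * 1) : G ⧸ P.B) ∈ _
      rw [mul_one]
      rcases Cfsg.Agent.S0319.mem_parabolic_singleton P hs hg with h | ⟨a, ha, b, hb, rfl⟩
      · left
        rw [QuotientGroup.eq]
        simpa using h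
      · right
        refine ⟨⟨a, ha⟩, ?_⟩
        change (QuotientGroup.mk (a * s) : G ⧸ P.B) = QuotientGroup.mk (a * s * b)
        rw [QuotientGroup.eq]
        simpa [mul_assoc] using hb
    · rintro (rfl | ⟨⟨b, hb⟩, rfl⟩)
      · exact MulAction.mem_orbit_self _
      · refine ⟨⟨b * s, mul_mem (hBs b hb) hss⟩, ?_⟩
        change (QuotientGroup.mk (b * s * 1) : G ⧸ P.B) = QuotientGroup.mk (b * s)
        rw [mul_one]
  rw [h2, h3, Set.ncard_insert_of_notMem _ (Set.toFinite _), add_comm]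
  rintro ⟨⟨b, hb⟩, h⟩
  change (QuotientGroup.mk (b * s) : G ⧸ P.B) = QuotientGroup.mk 1 at h
  rw [eq_comm, QuotientGroup.eq] at h
  have hsB : s ∈ P.B := by
    have h4 := mul_mem (inv_mem hb) h
    simpa using h4
  apply relIndex_ne_one P hs
  rw [Subgroup.relIndex_eq_one]
  intro x hx
  refine ⟨s⁻¹ * x * s, mul_mem (mul_mem (inv_mem hsB) hx) hsB, ?_⟩
  show s * (s⁻¹ * x * s) * s⁻¹ = x
  group

/-- `|P_s : B|` is even in odd characteristic. -/
theorem two_of_odd {G : Type*} [Group G] [Finite G] (P : Cfsg.BNPair G) {s : G} (hs : s ∈ P.S) {U : Subgroup G}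
    (hU : U ≤ P.B) (hodd : Odd U.index) {p a : ℕ} (hp : p.Prime)
    (ha : (P.B.map (MulAut.conj s).toMonoidHom).relIndex P.B = p ^ a) : p = 2 := by
  have h1 := relIndex_parabolic P hs
  rw [ha] at h1
  have hBs : P.B ≤ P.parabolic {s} := le_sup_left
  have h2 : Odd (1 + p ^ a) := by
    rw [← h1]
    refine Odd.of_dvd_nat hodd ?_
    refine dvd_trans ?_ (Subgroup.index_dvd_of_le hU)
    exact ⟨_, (Subgroup.relIndex_mul_index hBs).symm⟩
  rcases hp.eq_two_or_odd' with h | h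
  · exact h
  · have h3 : Even (1 + p ^ a) := odd_one.add_odd h.pow
    exact absurd h3 (Nat.not_even_iff_odd.2 h2)

end Cfsg.Agent.Omega.HOneEnd.Parity

end

section


/-!
# LeafH1, END: the groups of Lie type of rank at least three

`Fam p K`: `K` is one of the groups in the conclusion of Tits' theorem in rank at least three, in characteristic `p`,
with the bounds on the rank.
-/

set_option autoImplicit false

namespace Cfsg.Agent.Omega.HOneEnd

open Cfsg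

/-- The groups of Lie type of characteristic `p` and rank at least three. -/
def Fam (p : ℕ) (K : Type*) [Group K] : Prop :=
  (∃ (F : Type) (_ : Field F) (_ : Fintype F) (_ : CharP F p) (n : ℕ),
    4 ≤ n ∧ Nonempty (K ≃* Matrix.ProjectiveSpecialLinearGroup (Fin n) F)) ∨
  (∃ (F : Type) (_ : Field F) (_ : Fintype F) (_ : CharP F p) (m : ℕ), 3 ≤ m ∧ Nonempty (K ≃* PSp m F)) ∨
  (∃ (F : Type) (_ : Field F) (_ : Fintype F) (_ : CharP F p) (n q : ℕ),
    Fintype.card F = q ^ 2 ∧ 6 ≤ n ∧ Nonempty (K ≃* PSU n F q)) ∨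
  (∃ (F : Type) (_ : Field F) (_ : Fintype F) (_ : CharP F p) (m : ℕ),
    3 ≤ m ∧ (2 : F) ≠ 0 ∧ Nonempty (K ≃* POmega F (quadFormOdd m F))) ∨
  (∃ (F : Type) (_ : Field F) (_ : Fintype F) (_ : CharP F p) (m : ℕ),
    4 ≤ m ∧ Nonempty (K ≃* POmega F (quadFormPlus m F))) ∨
  (∃ (F : Type) (_ : Field F) (_ : Fintype F) (_ : CharP F p) (m : ℕ) (a b : F),
    3 ≤ m ∧ (∀ z₁ z₂ : F, z₁ ^ 2 + a * z₁ * z₂ + b * z₂ ^ 2 = 0 → z₁ = 0 ∧ z₂ = 0) ∧
    Nonempty (K ≃* POmega F (quadFormMinus m F a b))) ∨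
  (∃ (F : Type) (_ : Field F) (_ : Fintype F) (_ : CharP F p), Nonempty (K ≃* Lie.chevF4.group F)) ∨
  (∃ (F : Type) (_ : Field F) (_ : Fintype F) (_ : CharP F p), Nonempty (K ≃* Lie.chevE6.group F)) ∨
  (∃ (F : Type) (_ : Field F) (_ : Fintype F) (_ : CharP F p), Nonempty (K ≃* Lie.chevE7.group F)) ∨
  (∃ (F : Type) (_ : Field F) (_ : Fintype F) (_ : CharP F p), Nonempty (K ≃* Lie.chevE8.group F)) ∨
  (∃ (E : Type) (_ : Field E) (_ : Fintype E) (_ : CharP E p) (q : ℕ), IsPrimePow q ∧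
    Fintype.card E = q ^ 2 ∧ Nonempty (K ≃* Lie.twistedE6 E q))

theorem Fam.of_equiv {p : ℕ} {G K : Type*} [Group G] [Group K] (e : G ≃* K) (h : Fam p K) : Fam p G := by
  rcases h with h | h | h | h | h | h | h | h | h | h | h
  · obtain ⟨F, i1, i2, i3, n, h1, ⟨f⟩⟩ := h
    exact Or.inl ⟨F, i1, i2, i3, n, h1, ⟨e.trans f⟩⟩
  · obtain ⟨F, i1, i2, i3, n, h1, ⟨f⟩⟩ := h
    exact Or.inr (Or.inl ⟨F, i1, i2, i3, n, h1, ⟨e.trans f⟩⟩)
  · obtain ⟨F, i1, i2, i3, n, q, h1, h2, ⟨f⟩⟩ := h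
    exact Or.inr (Or.inr (Or.inl ⟨F, i1, i2, i3, n, q, h1, h2, ⟨e.trans f⟩⟩))
  · obtain ⟨F, i1, i2, i3, n, h1, h2, ⟨f⟩⟩ := h
    exact Or.inr (Or.inr (Or.inr (Or.inl ⟨F, i1, i2, i3, n, h1, h2, ⟨e.trans f⟩⟩)))
  · obtain ⟨F, i1, i2, i3, n, h1, ⟨f⟩⟩ := h
    exact Or.inr (Or.inr (Or.inr (Or.inr (Or.inl ⟨F, i1, i2, i3, n, h1, ⟨e.trans f⟩⟩))))
  · obtain ⟨F, i1, i2, i3, n, a, b, h1, h2, ⟨f⟩⟩ := h
    exact Or.inr (Or.inr (Or.inr (Or.inr (Or.inr (Or.inl ⟨F, i1, i2, i3, n, a, b, h1, h2, ⟨e.trans f⟩⟩)))))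
  · obtain ⟨F, i1, i2, i3, ⟨f⟩⟩ := h
    exact Or.inr (Or.inr (Or.inr (Or.inr (Or.inr (Or.inr (Or.inl ⟨F, i1, i2, i3, ⟨e.trans f⟩⟩))))))
  · obtain ⟨F, i1, i2, i3, ⟨f⟩⟩ := h
    exact Or.inr (Or.inr (Or.inr (Or.inr (Or.inr (Or.inr (Or.inr (Or.inl ⟨F, i1, i2, i3, ⟨e.trans f⟩⟩)))))))
  · obtain ⟨F, i1, i2, i3, ⟨f⟩⟩ := h
    exact Or.inr (Or.inr (Or.inr (Or.inr (Or.inr (Or.inr (Or.inr (Or.inr (Or.inl
      ⟨F, i1, i2, i3, ⟨e.trans f⟩⟩))))))))
  · obtain ⟨F, i1, i2, i3, ⟨f⟩⟩ := h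
    exact Or.inr (Or.inr (Or.inr (Or.inr (Or.inr (Or.inr (Or.inr (Or.inr (Or.inr (Or.inl
      ⟨F, i1, i2, i3, ⟨e.trans f⟩⟩)))))))))
  · obtain ⟨F, i1, i2, i3, q, h1, h2, ⟨f⟩⟩ := h
    exact Or.inr (Or.inr (Or.inr (Or.inr (Or.inr (Or.inr (Or.inr (Or.inr (Or.inr (Or.inr
      ⟨F, i1, i2, i3, q, h1, h2, ⟨e.trans f⟩⟩)))))))))

end Cfsg.Agent.Omega.HOneEnd

end

section


/-!
# S1143 with the family list of rank at least three: the frame (copy of `TitsThree.CharBase` with `Fam`)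
-/

set_option autoImplicit false

namespace Cfsg.Agent.Omega.HOneEnd.FamBase

open Cfsg.Agent.Tits.Core Cfsg.Agent.Tits.Core.Bldg Cfsg.Agent.Tits Cfsg.Agent.Tits.Exchange
open Cfsg.Agent.Tits.MouTrans Cfsg.Agent.Tits.MouOut
open Cfsg.Agent.Tits.MouDefs (rt Aut mem_Aut Chart Ext Comb)
open Cfsg.Agent.TitsThree Cfsg.Agent.TitsThree.NormalTrans Cfsg.Agent.TitsThree.Top Cfsg.Agent.Omega.HOneEnd
open Cfsg.Agent.TitsThree.CharBase (relIndex_of_param relIndex_eq_orbit relIndex_ne_one)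
open Cfsg.Agent.LieRecognition
open Cfsg.Agent.LieRecognition.BNCox (cA cC cD cE cF)
open MulAction

universe u

/-! ### `SolvedF` -/

variable {I : Type*} {M : CoxeterMatrix I} {W : Type*} [Group W] {cs : CoxeterSystem M W}
variable {C : Type*}

/-- As `Top.Solved`, with the characteristic. -/
structure SolvedF (Δ : Bldg cs C) : Prop where
  out : ∃ (p : ℕ) (_ : Fact p.Prime) (c d : C) (U : Subgroup (Aut Δ)),
    Δ.Opp c d ∧ U ≤ stabilizer (Aut Δ) c ∧
    (∀ a ∈ stabilizer (Aut Δ) c, ∀ u ∈ U, a * u * a⁻¹ ∈ U) ∧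
    IsPGroup p U ∧
    (∀ x, Δ.Opp c x → ∃ u ∈ U, u • d = x) ∧
    (∀ u ∈ U, u • d = d → u = 1) ∧
    (∀ x : C, ∃ n ∈ Subgroup.normalClosure (U : Set (Aut Δ)), n • c = x) ∧
    Group.IsSolvable ↥(stabilizer (Aut Δ) c ⊓ stabilizer (Aut Δ) d) ∧
    (Nat.card ↥(stabilizer (Aut Δ) c ⊓ stabilizer (Aut Δ) d ⊓
      Subgroup.normalClosure (U : Set (Aut Δ)))).Coprime p ∧
    (∀ i, ∃ a : ℕ, Δ.Param i (p ^ a)) ∧
    (IsSimpleGroup ↥(Subgroup.normalClosure (U : Set (Aut Δ))) →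
      Cfsg.Agent.Omega.HOneEnd.Fam p ↥(Subgroup.normalClosure (U : Set (Aut Δ))))

/-- The conclusion: `G` is of Lie type in characteristic `p`, the parameters are powers of `p`. -/
def ConclF (Δ : Bldg cs C) (G : Type*) [Group G] : Prop :=
  ∃ p : ℕ, p.Prime ∧ (∀ i, ∃ a : ℕ, Δ.Param i (p ^ a)) ∧ Cfsg.Agent.Omega.HOneEnd.Fam p G

/-- **End of the proof**: a simple group acting strongly transitively on a solved building. -/
theorem concl_of_solvedF [Nonempty I] [Finite C] {Δ : Bldg cs C} (ht : Δ.Thick) (hS : SolvedF Δ)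
    {G : Type*} [Group G] [IsSimpleGroup G] [MulAction G C] (hG : Δ.StrongAct G) :
    ConclF Δ G := by
  obtain ⟨p, hp, c, d, U, hcd, hUc, hUn, hUp, hUt, hUs, hN, hH, hcop, hpar, hK⟩ := hS.out
  have : Nonempty C := ⟨c⟩
  have hinj := toAut_injective hG
  let e : G ≃* (toAut hG).range := MonoidHom.ofInjective hinj
  have : IsSimpleGroup (toAut hG).range := e.symm.isSimpleGroup
  have hns : ¬ Group.IsSolvable (toAut hG).range := by
    intro hsol
    have h1 := (IsSimpleGroup.comm_iff_isSolvable (G := (toAut hG).range)).2 hsol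
    refine not_comm ht hG fun a b => e.injective ?_
    rw [map_mul, map_mul]
    exact h1 _ _
  have hmain := End.main (A := Aut Δ) (C := C) (c := c) (d := d) (O := {x | Δ.Opp c x}) (U := U)
    (p := p) ?_ hcd hUc hUn hUp hUt hUs hN hH hcop (toAut hG).range hns ?_ ?_
  · have hs : IsSimpleGroup ↥(Subgroup.normalClosure (U : Set (Aut Δ))) :=
      (MulEquiv.subgroupCongr hmain.1).symm.isSimpleGroup
    exact ⟨p, hp.out, hpar, Fam.of_equiv e (Fam.of_equiv (MulEquiv.subgroupCongr hmain.1) (hK hs))⟩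
  · intro a ha x hx
    change Δ.δ c (a • x) = _
    have h1 : Δ.δ (a • c) (a • x) = Δ.δ c x := δ_smul a c x
    rw [mem_stabilizer_iff.1 ha] at h1
    rw [h1]
    exact hx
  · intro x
    obtain ⟨g, hg, -⟩ := hG.trans c c x x (by rw [Δ.δ_self, Δ.δ_self])
    exact ⟨toAut hG g, ⟨g, rfl⟩, by rw [toAut_smul, hg]⟩
  · intro x hx
    obtain ⟨g, hg1, hg2⟩ := hG.trans c d c x (hcd.trans (Eq.symm hx))
    exact ⟨toAut hG g, ⟨g, rfl⟩, by rw [toAut_smul, hg1], by rw [toAut_smul, hg2]⟩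

/-- **The structure `SolvedF`** from the Moufang property. -/
theorem solvedF [Finite I] [Finite W] [Finite C] {Δ : Bldg cs C} {σ : W → C}
    (H : Sys Δ (Aut Δ) σ (UU Δ σ)) {p : ℕ} [Fact p.Prime]
    (hU : ∀ i, IsPGroup p (UU Δ σ (rt cs 1 i)))
    (hH : Group.IsSolvable ↥(stabilizer (Aut Δ) (σ 1) ⊓ stabilizer (Aut Δ) (σ (w0 cs))))
    (hcop : (Nat.card ↥(stabilizer (Aut Δ) (σ 1) ⊓ stabilizer (Aut Δ) (σ (w0 cs)) ⊓
      Gg cs (UU Δ σ))).Coprime p)
    (hK : IsSimpleGroup ↥(Gg cs (UU Δ σ)) → Cfsg.Agent.Omega.HOneEnd.Fam p ↥(Gg cs (UU Δ σ))) :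
    SolvedF Δ := by
  have e := H.Gg_eq
  have : Finite (Aut Δ) := by
    refine Finite.of_injective (fun a : Aut Δ => (MulAction.toPerm a : Equiv.Perm C))
      fun a b hab => ?_
    have h1 : b⁻¹ * a = 1 := H.faith _ fun x => by
      rw [mul_smul, inv_smul_eq_iff]
      exact congrFun (congrArg DFunLike.coe hab) x
    exact (inv_mul_eq_one.1 h1).symm
  refine ⟨p, inferInstance, σ 1, σ (w0 cs), Up cs (UU Δ σ), H.opp, fun u hu => H.Up_fix hu,
    fun a ha u hu => H.Up_normal ha hu, EndHyp.Up_isPGroup H hU, fun x hx => H.Up_trans _ x hx,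
    fun u hu h => H.Up_free hu h, fun x => ?_, hH, ?_, ?_, ?_⟩
  · rw [← e]
    exact H.Gtrans x
  · rw [← e]
    exact hcop
  · intro i
    obtain ⟨a, ha⟩ := (hU i).exists_card_eq
    exact ⟨a, ha ▸ EndHyp.param H i⟩
  · rw [← e]
    exact hK

/-- Every finite thick building of type `M` is solved, with the characteristic. -/
def AllSolvedF {n : ℕ} (M : CoxeterMatrix (Fin n)) : Prop :=
  ∀ (W C : Type u) [Group W] [Finite W] [Finite C] [Nonempty C] (cs : CoxeterSystem M W)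
    (Δ : Bldg cs C), Δ.Thick → SolvedF Δ

/-- The conclusion in terms of the (B,N)-pair. -/
def BNConclF {G : Type*} [Group G] (P : Cfsg.BNPair G) : Prop :=
  ∃ p : ℕ, p.Prime ∧ Cfsg.Agent.Omega.HOneEnd.Fam p G ∧
    ∀ s ∈ P.S, ∃ a : ℕ, (P.B.map (MulAut.conj s).toMonoidHom).relIndex P.B = p ^ a

/-- From the building to the (B,N)-pair. -/
theorem bnConclF_of_concl {G : Type*} [Group G] [Finite G] (P : Cfsg.BNPair G) {I : Type*}
    {M : CoxeterMatrix I} {e : I ≃ P.S} [hN : ((P.B ⊓ P.N).subgroupOf P.N).Normal]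
    {cs : CoxeterSystem M (OfBN.WP P)} {Δ : Bldg cs (G ⧸ P.B)}
    (hcs : ∀ i, cs.simple i = QuotientGroup.mk (⟨(e i : G), P.subset (e i).2⟩ : P.N))
    (hδ : ∀ x y, Δ.δ x y = OfBN.dist P x y) (hG : Δ.StrongAct G) (h : ConclF Δ G) : BNConclF P := by
  obtain ⟨p, hp, hpar, hK⟩ := h
  refine ⟨p, hp, hK, fun s hs => ?_⟩
  obtain ⟨i, hi⟩ := e.surjective ⟨s, hs⟩
  obtain ⟨a, ha⟩ := hpar i
  refine ⟨a, ?_⟩
  have hsi : (e i : G) = s := by rw [hi]
  have h1 : Δ.δ (QuotientGroup.mk 1) (QuotientGroup.mk s) = cs.simple i := by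
    rw [hδ, OfBN.dist_mk, inv_one, one_mul, hcs]
    refine OfBN.wt_of_mem P (n := ⟨(e i : G), P.subset (e i).2⟩) ?_
    rw [← hsi]
    exact DoubleCoset.mem_doubleCoset.mpr ⟨1, P.B.one_mem, 1, P.B.one_mem, by simp⟩
  have h2 := relIndex_of_param hG ha h1
  rw [← h2]
  congr 1
  · ext g
    rw [MulAction.mem_stabilizer_iff, MulAction.Quotient.smul_mk, eq_comm, QuotientGroup.eq,
      Subgroup.mem_map]
    constructor
    · rintro ⟨b, hb, rfl⟩
      simpa [mul_assoc] using hb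
    · intro hg
      exact ⟨_, hg, by simp [mul_assoc]⟩
  · ext g
    rw [MulAction.mem_stabilizer_iff, MulAction.Quotient.smul_mk, eq_comm, QuotientGroup.eq]
    simp

theorem bnConclF_of_allSolved {n : ℕ} (hn : 3 ≤ n) {M : CoxeterMatrix (Fin n)}
    (hM : AllSolvedF.{u} M) {G : Type u} [Group G] [Finite G] [IsSimpleGroup G]
    (P : Cfsg.BNPair G) {e : Fin n ≃ P.S} (h : BNType P M e) : BNConclF P := by
  obtain ⟨hNor, cs, Δ, hcs, hδ, ht, hSA⟩ := OfBN.exists_bldg P h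
  have : Nonempty (Fin n) := ⟨⟨0, by omega⟩⟩
  have hS : P.S.Nonempty := ⟨_, (e ⟨0, by omega⟩).2⟩
  have hcore := OfBN.normalCore_eq_bot P hS
  have hfin : Finite (OfBN.WP P) := inferInstance
  exact bnConclF_of_concl P hcs hδ (hSA hcore)
    (concl_of_solvedF ht (hM _ _ cs Δ ht) (hSA hcore))

/-- S1143 with the characteristic from the seven families. -/
theorem main_of (hA : ∀ n, 3 ≤ n → AllSolvedF.{u} (cA n)) (hC : ∀ n, 3 ≤ n → AllSolvedF.{u} (cC n))
    (hD : ∀ n, 4 ≤ n → AllSolvedF.{u} (cD n)) (hE6 : AllSolvedF.{u} (cE 6))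
    (hE7 : AllSolvedF.{u} (cE 7)) (hE8 : AllSolvedF.{u} (cE 8)) (hF : AllSolvedF.{u} cF)
    {G : Type u} [Group G] [Finite G] [IsSimpleGroup G]
    (P : Cfsg.BNPair G) (h3 : 3 ≤ P.rank) (hirr : P.Irreducible) : BNConclF P := by
  rcases BNCox.exists_type P hirr h3 with h | h | h | h | h | h | h
  · obtain ⟨n, v, hn, h⟩ := h
    exact bnConclF_of_allSolved hn (hA n hn) P h
  · obtain ⟨n, v, hn, h⟩ := h
    exact bnConclF_of_allSolved hn (hC n hn) P h
  · obtain ⟨n, v, hn, h⟩ := h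
    exact bnConclF_of_allSolved (by omega) (hD n hn) P h
  · obtain ⟨v, h⟩ := h
    exact bnConclF_of_allSolved (by omega) hE6 P h
  · obtain ⟨v, h⟩ := h
    exact bnConclF_of_allSolved (by omega) hE7 P h
  · obtain ⟨v, h⟩ := h
    exact bnConclF_of_allSolved (by omega) hE8 P h
  · obtain ⟨v, h⟩ := h
    exact bnConclF_of_allSolved (by omega) hF P h

/-! ### users' form -/

/-- If `B = U (B ∩ N)` with `U` a `p`-subgroup of `B`, the characteristic is `p`. -/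
theorem char_of_split {G : Type*} [Group G] [Finite G] (P : Cfsg.BNPair G) (hS : P.S.Nonempty)
    (h : BNConclF P) {p : ℕ} (hp : p.Prime) (U : Subgroup G) (hU : IsPGroup p U)
    (hB : ∀ b ∈ P.B, ∃ u ∈ U, ∃ t ∈ P.B ⊓ P.N, b = u * t) (hUB : U ≤ P.B) :
    Cfsg.Agent.Omega.HOneEnd.Fam p G := by
  obtain ⟨r, hr, hK, hpar⟩ := h
  obtain ⟨s, hs⟩ := hS
  obtain ⟨a, ha⟩ := hpar s hs
  have : Fact p.Prime := ⟨hp⟩
  suffices hpr : p = r by rw [hpr]; exact hK
  have h1 : MulAction.orbit P.B (QuotientGroup.mk s : G ⧸ P.B) =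
      MulAction.orbit U (QuotientGroup.mk s : G ⧸ P.B) := by
    ext y
    constructor
    · rintro ⟨⟨b, hb⟩, rfl⟩
      obtain ⟨u, hu, t, ht, rfl⟩ := hB b hb
      refine ⟨⟨u, hu⟩, ?_⟩
      change (QuotientGroup.mk (u * s) : G ⧸ P.B) = QuotientGroup.mk (u * t * s)
      rw [QuotientGroup.eq]
      have h2 := P.conj_mem s⁻¹ (inv_mem (P.subset hs)) t ht
      have h3 : (u * s)⁻¹ * (u * t * s) = s⁻¹ * t * s⁻¹⁻¹ := by group
      rw [h3]; exact h2
    · rintro ⟨⟨u, hu⟩, rfl⟩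
      exact ⟨⟨u, hUB hu⟩, rfl⟩
  have h2 := relIndex_eq_orbit P.B s
  rw [h1, ha] at h2
  obtain ⟨k, hk⟩ := hU.card_orbit (QuotientGroup.mk s : G ⧸ P.B)
  have h3 : r ^ a = p ^ k := by
    rw [h2, ← hk]; rfl
  have ha0 : a ≠ 0 := by
    rintro rfl
    exact relIndex_ne_one P hs (by rw [ha, pow_zero])
  have hk0 : k ≠ 0 := by
    rintro rfl
    rw [pow_zero] at h3
    have := Nat.one_lt_pow ha0 hr.one_lt
    omega
  have h4 : p ∣ r ^ a := h3 ▸ dvd_pow_self p hk0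
  exact (Nat.prime_dvd_prime_iff_eq hp hr).1 (hp.dvd_of_dvd_pow h4)

end Cfsg.Agent.Omega.HOneEnd.FamBase

end

section


/-!
# LeafH1, END: constructor of `SysID.Two` (helper368)

`two_mk` : the fields `pos…`, `mov…` follow from the others if `ρ ≠ α_i`, `σ ≠ α_j`.
-/

set_option autoImplicit false
set_option linter.unusedSectionVars false

namespace Cfsg.Agent.Omega.HOneEnd.TwoInst

open CoxeterSystem Cfsg.Agent.ChevalleyStructure.CoxeterGeom Cfsg.Agent.Tits.Roots Cfsg.Agent.Tits.Core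
  Cfsg.Agent.Nodes.BNOf Cfsg.Agent.Nodes.Coroot Cfsg.Agent.KFacts.RgdCent Cfsg.Agent.KFacts.SysFree
  Cfsg.Agent.Omega.HOneEnd.SysID

variable {I W : Type*} [Fintype I] [DecidableEq I] [Group W] {M : CoxeterMatrix I}
variable {cs : CoxeterSystem M W} {A : I → I → ℤ} {h : IsCartan M A}

/-- a root is moved by some simple reflection -/
theorem mov_of_fix [Finite W] {ρ : I → ℤ} {i : I} (hr : IsRoot cs h ρ) (fix : ∀ k, k ≠ i → pairing A k ρ = 0) :
    rep cs h (cs.simple i) ρ ≠ ρ := by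
  intro h0
  have h1 : ∀ w : W, rep cs h w ρ = ρ := by
    intro w
    induction w using cs.simple_induction_left with
    | one => rw [map_one, Module.End.one_apply]
    | mul_simple_left w k ih =>
      rw [rep_mul_apply, ih]
      by_cases hk : k = i
      · rw [hk, h0]
      · rw [rep_simple_eq, fix k hk, zero_smul, sub_zero]
  have hr' := hr
  obtain ⟨w, l, hw⟩ := hr
  have h2 := h1 (w * cs.simple l * w⁻¹)
  rw [hw, map_mul, map_mul, Module.End.mul_apply, Module.End.mul_apply, rep_inv_apply, rep_simple_sr, map_neg, ← hw]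
    at h2
  exact hr'.ne_zero (self_eq_neg.1 h2.symm)

theorem two_mk [Finite W] {ρ σ : I → ℤ} {i j : I} (rρ : ρ ∈ Star cs h (RGD.Pos cs h)) (rσ : σ ∈ Star cs h (RGD.Pos cs h))
    (dom : Star cs h (RGD.Pos cs h) ⊆ {ρ, σ}) (ne : ρ ≠ σ) (ij : i ≠ j) (fixρ : ∀ k, k ≠ i → pairing A k ρ = 0)
    (fixσ : ∀ k, k ≠ j → pairing A k σ = 0) (nρ : ρ ≠ sr i) (nσ : σ ≠ sr j) : Two cs h ρ σ i j where
  rρ := rρ
  rσ := rσ
  dom := dom
  ne := ne
  ij := ij
  fixρ := fixρ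
  fixσ := fixσ
  posρ := ⟨rρ.1.act _, rρ.1.simple_nonneg (star_pos rρ).2 i nρ⟩
  posσ := ⟨rσ.1.act _, rσ.1.simple_nonneg (star_pos rσ).2 j nσ⟩
  movρ := mov_of_fix rρ.1 fixρ
  movσ := mov_of_fix rσ.1 fixσ
  movρσ := by
    intro h0
    apply ne
    have h1 : rep cs h (cs.simple i) σ = ρ := by
      have h2 := rep_inv_apply cs h (cs.simple i) ρ
      rwa [cs.inv_simple, h0] at h2
    rw [rep_simple_eq, fixσ i ij, zero_smul, sub_zero] at h1
    exact h1.symm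
  movσρ := by
    intro h0
    apply ne
    have h1 : rep cs h (cs.simple j) ρ = σ := by
      have h2 := rep_inv_apply cs h (cs.simple j) σ
      rwa [cs.inv_simple, h0] at h2
    rw [rep_simple_eq, fixρ j ij.symm, zero_smul, sub_zero] at h1
    exact h1

end Cfsg.Agent.Omega.HOneEnd.TwoInst

end
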