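import Cfsg.Agent.TitsThree.CnModel
import Cfsg.Agent.TitsThree.KInstSp
import Cfsg.Agent.Mrg.Omega.HOneEnd.SysID
import Cfsg.Agent.TitsThree.SolvedCN
import Cfsg.Agent.TitsThree.EndCN
import Cfsg.Agent.TitsThree.SolvedSL

section


/-!
# S1143 with the family list, type `C_n`: models and identification (copy of `TitsThree.CharCN` with `Fam`)
-/

set_option autoImplicit false

namespace Cfsg.Agent.Omega.HOneEnd.FamCN

open Cfsg Cfsg.Agent.TitsThree
open Cfsg.Agent.Tits.Core Cfsg.Agent.Tits.Core.Bldg Cfsg.Agent.Tits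
open Cfsg.Agent.LieRecognition.BNCox
open Cfsg.Agent.TitsThree.B2Pkg Cfsg.Agent.TitsThree.Pack Cfsg.Agent.TitsThree.StdData
  Cfsg.Agent.TitsThree.Top Cfsg.Agent.TitsThree.CnModel Cfsg.Agent.TitsThree.KSideO
  Cfsg.Agent.TitsThree.KInstU Cfsg.Agent.TitsThree.KInstSp Cfsg.Agent.Omega.HOneEnd.FamBase
  Cfsg.Agent.TitsThree.KSideUDesc Cfsg.Agent.TitsThree.KSideU

universe u v

/-- There is a simple group of Lie type in the characteristic of `F` with a K side package over `D`. -/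
def HasModelF {F : Type u} [Field F] {V : Type v} [AddCommGroup V] [Module F V] (D : PQDatum F V)
    (n : ℕ) : Prop :=
  ∃ (K : Type) (_ : Group K), IsSimpleGroup K ∧ (∀ p : ℕ, CharP F p → Cfsg.Agent.Omega.HOneEnd.Fam p K) ∧
    Nonempty (KCN K D (n + 1))

theorem hasModelF_Sp {F : Type} [Field F] [Fintype F] (n : ℕ) : HasModelF (stdSp F) (n + 1) :=
  ⟨PSp (n + 3) F, inferInstance,
    Cfsg.Agent.S0270.result (n + 3) (by omega) fun h2 => by omega,
    fun _ hp => Or.inr (Or.inl ⟨F, inferInstance, inferInstance, hp, n + 3, by omega, ⟨MulEquiv.refl _⟩⟩),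
    ⟨kcnSp F (n + 1)⟩⟩

/-- Odd dimensional orthogonal groups, odd characteristic. -/
theorem hasModelF_O1 {F : Type} [Field F] [Fintype F] (h2 : (2 : F) ≠ 0) (n : ℕ) :
    HasModelF (stdO1 F) (n + 1) := by
  have hodd := odd_card_of_two_ne h2
  exact ⟨Cfsg.POmega F (Cfsg.quadFormOdd (n + 3) F), inferInstance,
      Cfsg.Agent.S0295.result hodd (n + 3) (by omega),
      fun _ hp => Or.inr (Or.inr (Or.inr (Or.inl ⟨F, inferInstance, inferInstance, hp, n + 3,
        by omega, h2, ⟨MulEquiv.refl _⟩⟩))),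
      exists_KCN_odd F h2 (n + 1)⟩

/-- Even dimensional orthogonal groups of minus type. -/
theorem hasModelF_O2 {F : Type} [Field F] [Fintype F] (a b : F)
    (hab : ∀ z₁ z₂ : F, z₁ ^ 2 + a * z₁ * z₂ + b * z₂ ^ 2 = 0 → z₁ = 0 ∧ z₂ = 0) (n : ℕ) :
    HasModelF (stdO2 F a b hab) (n + 1) :=
  ⟨Cfsg.POmega F (Cfsg.quadFormMinus (n + 3) F a b), inferInstance,
      Cfsg.Agent.S0297.result (n + 4) (by omega) a b hab,
      fun _ hp => Or.inr (Or.inr (Or.inr (Or.inr (Or.inr (Or.inl ⟨F, inferInstance, inferInstance,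
        hp, n + 3, a, b, by omega, hab, ⟨MulEquiv.refl _⟩⟩))))),
      exists_KCN_minus F a b hab (n + 1)⟩

/-- Even dimensional unitary groups. -/
theorem hasModelF_U0 {F : Type} [Field F] [Fintype F] (σ : F ≃+* F) (hσ : ∀ x, σ (σ x) = x)
    (hne : ∃ x, σ x ≠ x) (n : ℕ) : HasModelF (stdU0 F σ hσ) (n + 1) := by
  obtain ⟨q, hF, rfl⟩ := exists_conj σ hσ hne
  obtain ⟨W, hW⟩ := exists_wframe_even (N := 2 * (n + 1 + 2)) hF rfl
  exact ⟨PSU (2 * (n + 1 + 2)) F q, inferInstance, KSideUDesc.isSimple hF (by omega),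
    fun _ hp => Or.inr (Or.inr (Or.inl ⟨F, inferInstance, inferInstance, hp, 2 * (n + 1 + 2), q, hF,
      by omega, ⟨MulEquiv.refl _⟩⟩)),
    ⟨FrameCN.kcn (KInstU.model hF (by omega) W) (emb0 hF W hσ) (emb0_surj hF W hσ hW)⟩⟩

/-- Odd dimensional unitary groups. -/
theorem hasModelF_U1 {F : Type} [Field F] [Fintype F] (σ : F ≃+* F) (hσ : ∀ x, σ (σ x) = x)
    (hne : ∃ x, σ x ≠ x) (n : ℕ) : HasModelF (stdU1 F σ hσ) (n + 1) := by
  obtain ⟨q, hF, rfl⟩ := exists_conj σ hσ hne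
  obtain ⟨W, d, hd, hW⟩ := exists_wframe_odd (N := 2 * (n + 1 + 2) + 1) hF rfl
  exact ⟨PSU (2 * (n + 1 + 2) + 1) F q, inferInstance, KSideUDesc.isSimple hF (by omega),
    fun _ hp => Or.inr (Or.inr (Or.inl ⟨F, inferInstance, inferInstance, hp, 2 * (n + 1 + 2) + 1, q, hF,
      by omega, ⟨MulEquiv.refl _⟩⟩)),
    ⟨FrameCN.kcn (KInstU.model hF (by omega) W) (emb1 hF W hσ d hd hW)
      (emb1_surj hF W hσ d hd hW)⟩⟩

/-- **Identification** with the characteristic. -/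
theorem charConcl_of_gcn {W : Type*} [Group W] [Finite W] {C : Type*} {n : ℕ} (hn : 1 ≤ n)
    {cs : CoxeterSystem (cC (n + 2)) W} {Δ : Bldg cs C} (hth : Δ.Thick) {G : Type*} [Group G]
    [MulAction G C] (hA : Δ.StrongAct G) {F : Type*} [Field F] {V : Type*} [AddCommGroup V]
    [Module F V] {D : PQDatum F V} (ex : ∃ p : D.T, p.c ≠ 0) (g : GCN (n := n + 1) Δ G D)
    (h : HasModelF D n) {p : ℕ} (hp : CharP F p) : Cfsg.Agent.Omega.HOneEnd.Fam p G := by
  obtain ⟨K, i1, i2, h1, ⟨k⟩⟩ := h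
  obtain ⟨e⟩ := AssembleCN.nonempty_mulEquiv' hth hA (SolvedCN.conn_cC (n + 2)) (by omega) ex g k
  exact Cfsg.Agent.Omega.HOneEnd.Fam.of_equiv e (h1 p hp)

open Cfsg.Agent.Tits.MouOut Cfsg.Agent.TitsThree.GCNOfSys
open Cfsg.Agent.Tits.MouDefs (rt Aut Chart)
open Cfsg.Agent.TitsThree.SolvedCN (ex_sp ex_o1 ex_o2 ex_u0 ex_u1)

open Cfsg.Agent.TitsThree.EndII in
/-- `SolvedF Δ` from the G side over a good datum with a model. -/
theorem solvedF_of_out {W : Type*} [Group W] [Finite W] {C : Type*} [Finite C] {k : ℕ}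
    {cs : CoxeterSystem (cC (k + 3)) W} {Δ : Bldg cs C} (hth : Δ.Thick) {σ : W → C}
    (H : Sys Δ (Aut Δ) σ (UU Δ σ)) {F : Type*} [Field F] [Finite F] {V : Type*} [AddCommGroup V]
    [Module F V] [Finite V] {D : PQDatum F V} (good : Good D) (ex : ∃ p : D.T, p.c ≠ 0)
    (h : Out (k := k + 1) Δ σ D) (hm : HasModelF D (k + 1)) : SolvedF Δ := by
  obtain ⟨P, -, -, r, rT, sl, injT⟩ := id h
  obtain ⟨p, hp⟩ := CharP.exists F
  have : Fact p.Prime := ⟨CharP.char_is_prime F p⟩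
  have : Finite (Aut Δ) := by
    refine Finite.of_injective (fun a : Aut Δ => (MulAction.toPerm a : Equiv.Perm C)) fun a b hab => ?_
    have h1 : b⁻¹ * a = 1 := H.faith _ fun x => by
      rw [mul_smul, inv_smul_eq_iff]
      exact congrFun (congrArg DFunLike.coe hab) x
    exact (inv_mul_eq_one.1 h1).symm
  have R : EndCN.RangesCN P.toCN := ⟨r, rT, sl, injT⟩
  exact FamBase.solvedF H (p := p) (EndCN.isPGroup R) (EndCN.solvable H (by omega) R good ex)
    (EndCN.coprime H (by omega) R good ex)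
    fun _ => charConcl_of_gcn (n := k + 1) (by omega) hth H.Gg_strongAct ex P hm hp

open Cfsg.Agent.TitsThree.EndII in
/-- Every finite thick building of type `C_{k+3}` is solved. -/
theorem solvedF {W : Type*} [Group W] [Finite W] {C : Type*} [Finite C] [Nonempty C] {k : ℕ}
    {cs : CoxeterSystem (cC (k + 3)) W} {Δ : Bldg cs C} (hth : Δ.Thick) : SolvedF Δ := by
  obtain ⟨x⟩ := (inferInstance : Nonempty C)
  obtain ⟨y, hxy⟩ : ∃ y, Δ.Opp x y := Δ.exists_δ x (w0 cs)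
  obtain ⟨σ, hσ, -⟩ := MouDefs.exists_chart hxy (1 : W)
  have H := MouAll.sys (MouAll.lab_C (k + 3)) (CombInst.diag_C (by omega)) hth hσ
  obtain ⟨F, i1, i2, h⟩ := GCNMain.exists_out hth hσ
  have : Fintype F := Fintype.ofFinite F
  rcases h with h | ⟨h2, h⟩ | ⟨a, b, hab, h⟩ | ⟨τ, hτ, hne, h⟩ | ⟨τ, hτ, hne, h⟩
  · exact solvedF_of_out hth H good_sp (ex_sp F) h (hasModelF_Sp k)
  · exact solvedF_of_out hth H good_o1 (ex_o1 F) h (hasModelF_O1 h2 k)
  · exact solvedF_of_out hth H (good_o2 hab) (ex_o2 F a b hab) h (hasModelF_O2 a b hab k)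
  · exact solvedF_of_out hth H (good_u0 τ hτ hne) (ex_u0 τ hτ hne) h (hasModelF_U0 τ hτ hne k)
  · exact solvedF_of_out hth H (good_u1 τ hτ hne) (ex_u1 τ hτ hne) h (hasModelF_U1 τ hτ hne k)

/-- **Type `C_n`, `n ≥ 3`.** -/
theorem allSolvedF (n : ℕ) (hn : 3 ≤ n) : AllSolvedF.{u} (cC n) := by
  obtain ⟨k, rfl⟩ : ∃ k, n = k + 3 := ⟨n - 3, by omega⟩
  intro W C _ _ _ _ cs Δ hth
  exact solvedF hth

end Cfsg.Agent.Omega.HOneEnd.FamCN

end

section

/-!
S1143 with the family list: the simply laced types (copy of `TitsThree.CharSL` with `Fam`).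
-/

set_option autoImplicit false

namespace Cfsg.Agent.Omega.HOneEnd.FamSL

open Cfsg.Agent.Tits.Core Cfsg.Agent.Tits.Core.Bldg Cfsg.Agent.Tits.Exchange
open Cfsg.Agent.Tits
open Cfsg.Agent.Tits.MouDefs (rt Chart Aut)
open Cfsg.Agent.Tits.MouOut Cfsg.Agent.Tits.MouAll Cfsg.Agent.Tits.RGOut
open Cfsg.Agent.Tits.RootComb (Diag)
open Cfsg.Agent.TitsThree Cfsg.Agent.TitsThree.Hua Cfsg.Agent.TitsThree.Pack
open Cfsg.Agent.TitsThree.KSideDefs
open Cfsg.Agent.TitsThree.Tree Cfsg.Agent.AGraded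
open Cfsg.Agent.TitsThree.SolvedSL Cfsg.Agent.Omega.HOneEnd.FamBase
open Cfsg.Agent.LieRecognition.BNCox Cfsg.Agent.LieRecognition.CoxClass
open MulAction

universe u

/-- There is a model over every finite field, in the characteristic of the field. -/
def HasModelF {n : ℕ} (M : CoxeterMatrix (Fin n)) : Prop :=
  ∀ (F : Type) [Field F] [Finite F], ∃ (K : Type) (_ : Group K), IsSimpleGroup K ∧
    (∀ p : ℕ, CharP F p → Cfsg.Agent.Omega.HOneEnd.Fam p K) ∧ Nonempty (SLData K F n (adj M))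

/-- **Simply laced types are solved.** -/
theorem allSolvedF {n : ℕ} {M : CoxeterMatrix (Fin n)} (hM : Lab234 M) (hD : Diag M)
    (hsl : ∀ i j, i ≠ j → M i j = 2 ∨ M i j = 3) {r : Fin n} (T : Rooted (adj M) r)
    (hK : HasModelF M) : AllSolvedF.{u} M := by
  intro W C _ _ _ _ cs Δ hth
  obtain ⟨c⟩ := (inferInstance : Nonempty C)
  obtain ⟨d, hd⟩ := Opp.exists_opp Δ c
  obtain ⟨σ, hσ, -, -⟩ := MouDefs.exists_chart hd 1
  have H := MouAll.sys hM hD hth hσ
  obtain ⟨F, i1, i2, P, hpar, hp, hm⟩ := exists_par hM hD hsl T hth hσ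
  have hnb : ∀ i, ∃ j, adj M i j ∨ adj M j i := fun i => by
    obtain ⟨j, hj⟩ := exists_adj hD hsl i
    exact ⟨j, Or.inl hj⟩
  have hpr : Fact (ringChar F).Prime := ⟨CharP.char_is_prime F (ringChar F)⟩
  obtain ⟨h1, h2, h3⟩ := EndSL.main H (mapSL (Gg cs (UU Δ σ)).subtype P)
    (fun i => SL2Par.map _ (Subgroup.subtype_injective _) (hpar i))
    (fun i => range_coe (H.rt_le 1 i) (hp i)) (fun i => range_coe (H.rt_le _ i) (hm i))
    (p := ringChar F) hnb
  refine solvedF H (p := ringChar F) h3 h1 h2 fun _ => ?_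
  obtain ⟨K, i3, i4, hK1, ⟨Q⟩⟩ := hK F
  obtain ⟨e⟩ := AssembleSL.nonempty_mulEquiv hth H.Gg_strongAct (conn_of_diag hD) hnb
    (gsl H P hp hm) Q
  exact Cfsg.Agent.Omega.HOneEnd.Fam.of_equiv e (hK1 _ inferInstance)

/-! ### The models -/

theorem model_A {n : ℕ} (hn : 3 ≤ n) : HasModelF (cA n) := by
  intro F _ _
  have := Fintype.ofFinite F
  refine ⟨Matrix.ProjectiveSpecialLinearGroup (Fin (n + 1)) F, inferInstance,
    Cfsg.Agent.S0249.result (n + 1) (by omega),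
    fun p hp => Or.inl ⟨F, inferInstance, inferInstance, hp, n + 1, by omega, ⟨MulEquiv.refl _⟩⟩,
    ⟨relabel (KSideInstA.data n (by omega) F) (Equiv.refl _) (fun i j h => ?_) (fun i j h => ?_)⟩⟩
  · have h1 : mA i j = 3 := h
    unfold mA at h1
    unfold KSideInstA.adjA
    simp only [Equiv.refl_apply]
    split_ifs at h1 with h2 h3
    · omega
    · exact h3
    · omega
  · have h1 : (i : ℕ) + 1 = j := h
    left
    change mA i j = 3
    unfold mA
    rw [if_neg (by omega), if_pos (Or.inl h1)]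

theorem model_D {n : ℕ} (hn : 4 ≤ n) : HasModelF (cD n) := by
  intro F _ _
  have := Fintype.ofFinite F
  refine ⟨Cfsg.POmega F (Cfsg.quadFormPlus n F), inferInstance,
    Cfsg.Agent.S0296.result n hn,
    fun p hp => Or.inr (Or.inr (Or.inr (Or.inr (Or.inl ⟨F, inferInstance, inferInstance, hp, n, hn,
      ⟨MulEquiv.refl _⟩⟩)))),
    ⟨relabel (KSideInstD.data (by omega) F) (Equiv.refl _) (fun i j h => ?_) (fun i j h => ?_)⟩⟩
  · have h1 : mD n i j = 3 := h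
    unfold mD at h1
    unfold KSideInstD.adjD
    simp only [Equiv.refl_apply]
    split_ifs at h1 with h2 h3 <;> omega
  · have h1 : ((i : ℕ) + 1 = j ∧ (j : ℕ) + 1 < n) ∨ ((i : ℕ) + 3 = n ∧ (j : ℕ) + 1 = n) := h
    left
    change mD n i j = 3
    unfold mD
    rw [if_neg (by omega), if_pos (by omega)]

/-- Type `A_n`. -/
theorem allSolvedF_A {n : ℕ} (hn : 3 ≤ n) : AllSolvedF.{u} (cA n) := by
  obtain ⟨r, ⟨T⟩⟩ := rooted_A hn
  exact allSolvedF (lab_A n) (CombInst.diag_A hn) (sl_A n) T (model_A hn)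

/-- Type `D_n`. -/
theorem allSolvedF_D {n : ℕ} (hn : 4 ≤ n) : AllSolvedF.{u} (cD n) := by
  obtain ⟨r, ⟨T⟩⟩ := rooted_D hn
  exact allSolvedF (lab_D n) (CombInst.diag_D hn) (sl_D n) T (model_D hn)

/-! ### The exceptional types -/

open Cfsg.Agent.TitsThree.KExcBase (adjE dataE6 dataE7 dataE8 simpleE6 simpleE7 simpleE8)

theorem model_E6 : HasModelF (cE 6) := by
  intro F _ _
  have := Fintype.ofFinite F
  exact ⟨↥(Cfsg.Lie.chevE6.group F), inferInstance, simpleE6 F,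
    fun p hp => Or.inr (Or.inr (Or.inr (Or.inr (Or.inr (Or.inr (Or.inr (Or.inl
      ⟨F, inferInstance, inferInstance, hp, ⟨MulEquiv.refl _⟩⟩))))))),
    ⟨relabel (dataE6 F) e6 (fun i j h => (adj_e6 i j).1 h)
      (fun i j h => Or.inl ((adj_e6 i j).2 h))⟩⟩

theorem model_E7 : HasModelF (cE 7) := by
  intro F _ _
  have := Fintype.ofFinite F
  exact ⟨↥(Cfsg.Lie.chevE7.group F), inferInstance, simpleE7 F,
    fun p hp => Or.inr (Or.inr (Or.inr (Or.inr (Or.inr (Or.inr (Or.inr (Or.inr (Or.inl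
      ⟨F, inferInstance, inferInstance, hp, ⟨MulEquiv.refl _⟩⟩)))))))),
    ⟨relabel (dataE7 F) e7 (fun i j h => (adj_e7 i j).1 h)
      (fun i j h => Or.inl ((adj_e7 i j).2 h))⟩⟩

theorem model_E8 : HasModelF (cE 8) := by
  intro F _ _
  have := Fintype.ofFinite F
  exact ⟨↥(Cfsg.Lie.chevE8.group F), inferInstance, simpleE8 F,
    fun p hp => Or.inr (Or.inr (Or.inr (Or.inr (Or.inr (Or.inr (Or.inr (Or.inr (Or.inr (Or.inl
      ⟨F, inferInstance, inferInstance, hp, ⟨MulEquiv.refl _⟩⟩))))))))),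
    ⟨relabel (dataE8 F) e8 (fun i j h => (adj_e8 i j).1 h)
      (fun i j h => Or.inl ((adj_e8 i j).2 h))⟩⟩

/-- Type `E₆`. -/
theorem allSolvedF_E6 : AllSolvedF.{u} (cE 6) := by
  obtain ⟨r, ⟨T⟩⟩ := rooted_E (n := 6) (by omega)
  exact allSolvedF (lab_E 6) (CombInst.diag_E (by omega)) (sl_E 6) T model_E6

/-- Type `E₇`. -/
theorem allSolvedF_E7 : AllSolvedF.{u} (cE 7) := by
  obtain ⟨r, ⟨T⟩⟩ := rooted_E (n := 7) (by omega)
  exact allSolvedF (lab_E 7) (CombInst.diag_E (by omega)) (sl_E 7) T model_E7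

/-- Type `E₈`. -/
theorem allSolvedF_E8 : AllSolvedF.{u} (cE 8) := by
  obtain ⟨r, ⟨T⟩⟩ := rooted_E (n := 8) (by omega)
  exact allSolvedF (lab_E 8) (CombInst.diag_E (by omega)) (sl_E 8) T model_E8

end Cfsg.Agent.Omega.HOneEnd.FamSL

end
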