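import Cfsg.Agent.Mrg.Omega.HOneEnd.FamFF
import Cfsg.Agent.Mrg.Omega.HOneEnd.FamCN
import Cfsg.Agent.Mrg.Omega.HOneEnd.SysID
import Mathlib
import Cfsg.Agent.OddHalf.Orth.KFr
import Cfsg.Agent.OddHalf.Orth.KPl

section


/-!
# S1143 with the family list of rank at least three

`main`: a finite simple group with an irreducible (B,N)-pair of rank at least 3 satisfies `Fam p`, and all the indices `|B : B ∩ sBs⁻¹|` are powers of `p`.
`main_char`: if moreover `B = U (B ∩ N)` with `U` a `p`-group, then `Fam p G`.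
-/

set_option autoImplicit false

namespace Cfsg.Agent.Omega.HOneEnd.FamExport

open Cfsg.Agent.Omega.HOneEnd.FamBase

universe u

variable {G : Type u} [Group G] [Finite G] [IsSimpleGroup G]

/-- **S1143 with the characteristic.** -/
theorem main (P : Cfsg.BNPair G) (h3 : 3 ≤ P.rank) (hirr : P.Irreducible) :
    ∃ p : ℕ, p.Prime ∧ Cfsg.Agent.Omega.HOneEnd.Fam p G ∧
      ∀ s ∈ P.S, ∃ a : ℕ, (P.B.map (MulAut.conj s).toMonoidHom).relIndex P.B = p ^ a :=
  main_of (fun _ h => FamSL.allSolvedF_A h) (fun n h => FamCN.allSolvedF n h)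
    (fun _ h => FamSL.allSolvedF_D h) FamSL.allSolvedF_E6 FamSL.allSolvedF_E7
    FamSL.allSolvedF_E8 FamFF.allSolvedF_F P h3 hirr

theorem nonempty_S {G : Type*} [Group G] (P : Cfsg.BNPair G) (h3 : 3 ≤ P.rank) :
    P.S.Nonempty := by
  by_contra h
  rw [Set.not_nonempty_iff_eq_empty] at h
  unfold Cfsg.BNPair.rank at h3
  rw [h] at h3
  simp at h3

/-- **The characteristic is the prime of `U`**, if `B = U (B ∩ N)`. -/
theorem main_char (P : Cfsg.BNPair G) (h3 : 3 ≤ P.rank) (hirr : P.Irreducible) {p : ℕ}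
    (hp : p.Prime) (U : Subgroup G) (hU : IsPGroup p U) (hUB : U ≤ P.B)
    (hB : ∀ b ∈ P.B, ∃ u ∈ U, ∃ t ∈ P.B ⊓ P.N, b = u * t) : Cfsg.Agent.Omega.HOneEnd.Fam p G :=
  char_of_split P (nonempty_S P h3) (main P h3 hirr) hp U hU hB hUB

end Cfsg.Agent.Omega.HOneEnd.FamExport

end

section


/-!
# LeafH1, END: the characteristic is two (helper368)

**`fam_two`** : a finite simple group with an irreducible (B,N)-pair of rank at least 3 such that `B` contains a subgroup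
of odd index satisfies `Fam 2`.
-/

set_option autoImplicit false

namespace Cfsg.Agent.Omega.HOneEnd.Parity

universe u

theorem fam_two {L : Type u} [Group L] [Finite L] [IsSimpleGroup L] (Q : Cfsg.BNPair L) (h3 : 3 ≤ Q.rank)
    (hirr : Q.Irreducible) {U : Subgroup L} (hU : U ≤ Q.B) (hodd : Odd U.index) :
    Cfsg.Agent.Omega.HOneEnd.Fam 2 L := by
  obtain ⟨p, hp, hF, hpar⟩ := FamExport.main Q h3 hirr
  obtain ⟨s, hs⟩ := FamExport.nonempty_S Q h3
  obtain ⟨a, ha⟩ := hpar s hs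
  rwa [two_of_odd Q hs hU hodd hp ha] at hF

end Cfsg.Agent.Omega.HOneEnd.Parity

end

section


/-!
# LeafH1, END, THEOREM ID: the types `T2` (helper368)

`T2 L`: for a Sylow 2-subgroup `U` of `L` and `1 ≠ R ≤ Z(U)` with `N(U) ≤ N(R)` maximal in `L`, `C(v) ≤ N(R)` for every
`1 ≠ v ∈ Z(U)`.

* `T2.of_ti` : `Z(U) ≤ Z₀`, `Z₀` a TI-subgroup, `N(Z₀) ≠ L`;
* `T2.of_aut` : the same, `Z(U) ≤ Z₀` from a fact about automorphisms trivial on `U`;
* `T2.of_equiv` : transport.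
-/

set_option autoImplicit false
set_option linter.unusedSectionVars false

namespace Cfsg.Agent.Omega.HOneEnd.TTwo

open Subgroup

universe u v

/-- the property of the types with `Z(U)` a TI root group -/
def T2 (L : Type u) [Group L] : Prop :=
  ∀ U : Sylow 2 L, ∀ R : Subgroup L, R ≤ (U : Subgroup L) → R ≤ centralizer ((U : Subgroup L) : Set L) → R ≠ ⊥ →
    normalizer ((U : Subgroup L) : Set L) ≤ normalizer (R : Set L) → IsCoatom (normalizer (R : Set L)) →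
    ∀ v ∈ (U : Subgroup L), v ∈ centralizer ((U : Subgroup L) : Set L) → v ≠ 1 →
      centralizer {v} ≤ normalizer (R : Set L)

section gen

variable {L : Type u} [Group L]

/-- a TI-subgroup -/
def TI (Z : Subgroup L) : Prop := ∀ z ∈ Z, z ≠ 1 → ∀ g : L, g * z * g⁻¹ ∈ Z → g ∈ normalizer (Z : Set L)

theorem mem_map_conj {Z : Subgroup L} {g x : L} : x ∈ Z.map (MulAut.conj g).toMonoidHom ↔ g⁻¹ * x * g ∈ Z := by
  constructor
  · rintro ⟨y, hy, rfl⟩
    have e : g⁻¹ * (MulAut.conj g).toMonoidHom y * g = y := by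
      show g⁻¹ * (g * y * g⁻¹) * g = y
      group
    rw [e]
    exact hy
  · intro h
    refine ⟨_, h, ?_⟩
    show g * (g⁻¹ * x * g) * g⁻¹ = x
    group

theorem normalizer_map_conj {Z : Subgroup L} {g x : L} :
    x ∈ normalizer ((Z.map (MulAut.conj g).toMonoidHom : Subgroup L) : Set L) ↔ g⁻¹ * x * g ∈ normalizer (Z : Set L) := by
  rw [mem_normalizer_iff, mem_normalizer_iff]
  constructor
  · intro h y
    have h1 := h (g * y * g⁻¹)
    rw [mem_map_conj, mem_map_conj] at h1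
    have e1 : g⁻¹ * (g * y * g⁻¹) * g = y := by group
    have e2 : g⁻¹ * (x * (g * y * g⁻¹) * x⁻¹) * g = g⁻¹ * x * g * y * (g⁻¹ * x * g)⁻¹ := by group
    rwa [e1, e2] at h1
  · intro h y
    rw [mem_map_conj, mem_map_conj, h (g⁻¹ * y * g)]
    have e2 : g⁻¹ * (x * y * x⁻¹) * g = g⁻¹ * x * g * (g⁻¹ * y * g) * (g⁻¹ * x * g)⁻¹ := by group
    rw [e2]

theorem TI.map {Z : Subgroup L} (h : TI Z) (g : L) : TI (Z.map (MulAut.conj g).toMonoidHom) := by
  intro z hz hz1 x hx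
  rw [mem_map_conj] at hz hx
  rw [normalizer_map_conj]
  refine h _ hz (fun h0 => hz1 ?_) _ ?_
  · have e : z = g * (g⁻¹ * z * g) * g⁻¹ := by group
    rw [e, h0]; group
  · have e : g⁻¹ * x * g * (g⁻¹ * z * g) * (g⁻¹ * x * g)⁻¹ = g⁻¹ * (x * z * x⁻¹) * g := by group
    rw [e]
    exact hx

/-- **The criterion.** -/
theorem T2.of_ti [Finite L] (U₀ : Sylow 2 L) (Z₀ : Subgroup L)
    (hZ : ∀ c ∈ (U₀ : Subgroup L), c ∈ centralizer ((U₀ : Subgroup L) : Set L) → c ∈ Z₀) (ti : TI Z₀)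
    (hN : normalizer (Z₀ : Set L) ≠ ⊤) : T2 L := by
  have : Fact (Nat.Prime 2) := ⟨Nat.prime_two⟩
  intro U R hRU hRC hR1 _ hco v hv hvC hv1
  obtain ⟨g, rfl⟩ := MulAction.exists_smul_eq L U₀ U
  have hmem : ∀ {x : L}, x ∈ ((g • U₀ : Sylow 2 L) : Subgroup L) ↔ g⁻¹ * x * g ∈ (U₀ : Subgroup L) := fun {x} => by
    rw [show ((g • U₀ : Sylow 2 L) : Subgroup L) = (U₀ : Subgroup L).map (MulAut.conj g).toMonoidHom from rfl,
      mem_map_conj]
  set Z := Z₀.map (MulAut.conj g).toMonoidHom with hZdef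
  have hZ' : ∀ c ∈ ((g • U₀ : Sylow 2 L) : Subgroup L), c ∈ centralizer (((g • U₀ : Sylow 2 L) : Subgroup L) : Set L) →
      c ∈ Z := by
    intro c hc hcC
    rw [hZdef, mem_map_conj]
    refine hZ _ (hmem.1 hc) (mem_centralizer_iff.2 fun y hy => ?_)
    have h1 := mem_centralizer_iff.1 hcC (g * y * g⁻¹) (hmem.2 (by
      have e : g⁻¹ * (g * y * g⁻¹) * g = y := by group
      rw [e]; exact hy))
    have e1 : y * (g⁻¹ * c * g) = g⁻¹ * (g * y * g⁻¹ * c) * g := by group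
    rw [e1, h1]
    group
  have ti' : TI Z := ti.map g
  have hN' : normalizer (Z : Set L) ≠ ⊤ := by
    intro h0
    apply hN
    rw [eq_top_iff]
    intro x _
    have h1 : g * x * g⁻¹ ∈ normalizer (Z : Set L) := h0 ▸ mem_top _
    rw [hZdef, normalizer_map_conj] at h1
    have e : g⁻¹ * (g * x * g⁻¹) * g = x := by group
    rwa [e] at h1
  have hRZ : R ≤ Z := fun r hr => hZ' r (hRU hr) (hRC hr)
  obtain ⟨r, hr1⟩ := Subgroup.ne_bot_iff_exists_ne_one.1 hR1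
  have hle : normalizer (R : Set L) ≤ normalizer (Z : Set L) := fun x hx =>
    ti' r (hRZ r.2) (fun h0 => hr1 (Subtype.ext h0)) x (hRZ ((mem_normalizer_iff.1 hx _).1 r.2))
  have heq : normalizer (R : Set L) = normalizer (Z : Set L) := by
    rcases hle.eq_or_lt with h | h
    · exact h
    · exact absurd (hco.2 _ h) hN'
  intro x hx
  rw [heq]
  rw [mem_centralizer_singleton_iff] at hx
  refine ti' v (hZ' v hv hvC) hv1 x ?_
  have e : x * v * x⁻¹ = v := by rw [hx]; group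
  rw [e]
  exact hZ' v hv hvC

/-- the same with a maximal 2-subgroup -/
theorem T2.of_ti' [Finite L] {U₀ : Subgroup L} (h2 : IsPGroup 2 ↥U₀)
    (hmax : ∀ Q : Subgroup L, IsPGroup 2 ↥Q → U₀ ≤ Q → Q ≤ U₀) {Z₀ : Subgroup L}
    (hZ : ∀ c ∈ U₀, (∀ u ∈ U₀, u * c = c * u) → c ∈ Z₀) (ti : TI Z₀)
    (hN : normalizer (Z₀ : Set L) ≠ ⊤) : T2 L :=
  T2.of_ti ⟨U₀, h2, fun {Q} hQ hle => le_antisymm (hmax Q hQ hle) hle⟩ Z₀
    (fun c hc hcC => hZ c hc fun u hu => mem_centralizer_iff.1 hcC u hu) ti hN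

/-- transport -/
theorem T2.of_equiv [Finite L] {L' : Type v} [Group L'] (e : L' ≃* L) (h : T2 L) : T2 L' := by
  have : Fact (Nat.Prime 2) := ⟨Nat.prime_two⟩
  intro U R hRU hRC hR1 hUR hco v hv hvC hv1
  have hn : ∀ {H : Subgroup L'} {x : L'}, e x ∈ normalizer ((H.map e.toMonoidHom : Subgroup L) : Set L) ↔
      x ∈ normalizer (H : Set L') := fun {H x} => by
    rw [mem_normalizer_iff, mem_normalizer_iff]
    have hm : ∀ y : L', e y ∈ H.map e.toMonoidHom ↔ y ∈ H := fun y =>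
      ⟨fun ⟨z, hz, hzy⟩ => by have := e.injective hzy; rwa [← this], fun hy => ⟨y, hy, rfl⟩⟩
    constructor
    · intro h1 y
      have h2 := h1 (e y)
      rw [hm, ← map_mul, ← map_inv, ← map_mul, hm] at h2
      exact h2
    · intro h1 y
      obtain ⟨y, rfl⟩ := e.surjective y
      rw [hm, ← map_mul, ← map_inv, ← map_mul, hm]
      exact h1 y
  have h1 : IsPGroup 2 ↥((U : Subgroup L').map e.toMonoidHom) := U.2.map _
  let U' : Sylow 2 L := ⟨(U : Subgroup L').map e.toMonoidHom, h1, by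
    intro Q hQ hle
    have h2 : IsPGroup 2 ↥(Q.comap e.toMonoidHom) := hQ.comap_of_injective _ e.injective
    have h3 : (U : Subgroup L') ≤ Q.comap e.toMonoidHom := fun s hs => hle ⟨s, hs, rfl⟩
    have h4 := U.3 h2 h3
    rw [← h4, Subgroup.map_comap_eq_self_of_surjective e.surjective]⟩
  have hc : ∀ {x : L'}, x ∈ centralizer ((U : Subgroup L') : Set L') →
      e x ∈ centralizer ((U' : Subgroup L) : Set L) := fun {x} hx => by
    rw [mem_centralizer_iff]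
    rintro _ ⟨y, hy, rfl⟩
    show e y * e x = e x * e y
    rw [← map_mul, ← map_mul, mem_centralizer_iff.1 hx y hy]
  have hnorm : ∀ {H : Subgroup L'}, normalizer ((H.map e.toMonoidHom : Subgroup L) : Set L) =
      (normalizer (H : Set L')).map e.toMonoidHom := fun {H} => by
    ext y
    obtain ⟨y, rfl⟩ := e.surjective y
    rw [hn]
    exact ⟨fun hy => ⟨y, hy, rfl⟩, fun ⟨z, hz, hzy⟩ => by have := e.injective hzy; rwa [← this]⟩
  have key := h U' (R.map e.toMonoidHom) (Subgroup.map_mono hRU)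
    (by rintro _ ⟨r, hr, rfl⟩; exact hc (hRC hr))
    (by rw [Ne, Subgroup.map_eq_bot_iff_of_injective _ e.injective]; exact hR1)
    (by
      rw [show ((U' : Subgroup L) : Set L) = (((U : Subgroup L').map e.toMonoidHom : Subgroup L) : Set L) from rfl,
        hnorm, hnorm]
      exact Subgroup.map_mono hUR)
    (by
      rw [hnorm]
      refine ⟨?_, fun K hK => ?_⟩
      · intro h0
        apply hco.1
        rw [eq_top_iff]
        intro x _
        have h2 : e x ∈ (normalizer (R : Set L')).map e.toMonoidHom := h0 ▸ mem_top _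
        obtain ⟨z, hz, hzx⟩ := h2
        have := e.injective hzx
        rwa [← this]
      · have h2 : normalizer (R : Set L') < K.comap e.toMonoidHom := by
          refine lt_of_le_of_ne (fun x hx => hK.le ⟨x, hx, rfl⟩) ?_
          intro h3
          apply hK.ne
          rw [h3, Subgroup.map_comap_eq_self_of_surjective e.surjective]
        have h3 := hco.2 _ h2
        rw [eq_top_iff]
        intro y _
        obtain ⟨y, rfl⟩ := e.surjective y
        have h4 : y ∈ K.comap e.toMonoidHom := h3 ▸ mem_top _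
        exact h4)
    (e v) ⟨v, hv, rfl⟩ (hc hvC) (fun h0 => hv1 (by
      apply e.injective
      rw [h0, map_one]))
  intro x hx
  rw [← hn]
  refine key ?_
  rw [mem_centralizer_singleton_iff] at hx ⊢
  rw [← map_mul, ← map_mul, hx]

/-- The centre of `U` from a statement on automorphisms trivial on `U`. -/
theorem T2.of_aut [Finite L] {U₀ : Subgroup L} (h2 : IsPGroup 2 ↥U₀)
    (hmax : ∀ Q : Subgroup L, IsPGroup 2 ↥Q → U₀ ≤ Q → Q ≤ U₀) {Z₀ : Subgroup L}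
    (aut : ∀ α : MulAut L, (∃ n : ℕ, α ^ 2 ^ n = 1) → (∀ u ∈ U₀, α u = u) → ∃ z ∈ Z₀, ∀ x, α x = z * x * z⁻¹)
    (hc : Subgroup.center L = ⊥) (ti : TI Z₀) (hN : normalizer (Z₀ : Set L) ≠ ⊤) : T2 L := by
  refine T2.of_ti' h2 hmax ?_ ti hN
  intro c hcU hcC
  obtain ⟨k, hk⟩ := h2 ⟨c, hcU⟩
  have hk' : c ^ 2 ^ k = 1 := congrArg Subtype.val hk
  obtain ⟨z, hz, h1⟩ := aut (MulAut.conj c) ⟨k, by rw [← map_pow, hk', map_one]⟩ (fun u hu => by
    rw [MulAut.conj_apply, ← hcC u hu]; group)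
  have h2 : z⁻¹ * c ∈ Subgroup.center L := by
    rw [Subgroup.mem_center_iff]
    intro x
    have h3 := h1 x
    rw [MulAut.conj_apply] at h3
    have h4 : z⁻¹ * (c * x * c⁻¹) * c = x * (z⁻¹ * c) := by rw [h3]; group
    rw [← h4]; group
  rw [hc, Subgroup.mem_bot, inv_mul_eq_one] at h2
  rw [← h2]
  exact hz

/-- In a simple group `N(Z₀) = L` is impossible under the hypotheses of `T2`. -/
theorem T2.of_simple [Finite L] [IsSimpleGroup L] {U₀ : Subgroup L} (h2 : IsPGroup 2 ↥U₀)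
    (hmax : ∀ Q : Subgroup L, IsPGroup 2 ↥Q → U₀ ≤ Q → Q ≤ U₀) {Z₀ : Subgroup L}
    (hZ : ∀ c ∈ U₀, (∀ u ∈ U₀, u * c = c * u) → c ∈ Z₀) (ti : TI Z₀) (hZ1 : Z₀ ≠ ⊥) (hZU : Z₀ ≤ U₀)
    (hZc : ∀ z ∈ Z₀, ∀ u ∈ U₀, u * z = z * u) (hna : ∃ a b : L, a * b ≠ b * a) : T2 L := by
  refine T2.of_ti' h2 hmax hZ ti fun h0 => ?_
  have h1 : Z₀.Normal := normalizer_eq_top_iff.mp h0
  rcases h1.eq_bot_or_eq_top with h3 | h3
  · exact hZ1 h3
  · obtain ⟨a, b, hab⟩ := hna
    have ha : a ∈ Z₀ := h3 ▸ mem_top a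
    have hb : b ∈ Z₀ := h3 ▸ mem_top b
    exact hab (hZc b hb a (hZU ha))

end gen

end Cfsg.Agent.Omega.HOneEnd.TTwo

end

section


/-!
# LeafH1, END, THEOREM ID: the types `T2`, `Ω⁻` (helper368)

* `NL_of_mem` : `X Q u v` is a TI-subgroup with normaliser `NL Q u v`;
* `t2_OMinus` : `PΩ⁻_{2m+2}(q)`, `q` even, `m ≥ 3`.
-/

set_option autoImplicit false
set_option linter.unusedSectionVars false

namespace Cfsg.Agent.Omega.HOneEnd.TTwo

open Subgroup QuadraticMap Cfsg.Agent.LieClassical.OrthCore Cfsg.Agent.LieClassical.OrthTrans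
  Cfsg.Agent.LieClassical.OrthSimple Cfsg.Agent.ClassicalGeometry.OrthAutBasic
  Cfsg.Agent.ClassicalGeometry.OrthAutRoot Cfsg.Agent.OddHalf.Orth Cfsg.Agent.OddHalf.Orth.FlagDef
  Cfsg.Agent.LieClassical Cfsg.Agent.LieClassical.OrthForms Cfsg.Agent.TitsThree.KSideO
  Cfsg.Agent.OddHalf.Orth.KFlag Cfsg.Agent.OddHalf.Orth.KFlagMain

section

variable {F V : Type*} [Field F] [AddCommGroup V] [Module F V] {Q : QuadraticForm F V} [CharP F 2] {u v u' v' : V}

/-- the line of `c v` -/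
theorem ln_smul (h : LF Q u v u' v') {c : F} (hc : c ≠ 0) : Ln Q u (c • v) where
  qu := h.ln.qu
  qw := by rw [QuadraticMap.map_smul, h.ln.qw, smul_zero]
  perp := by rw [polar_smul_right, h.ln.perp, smul_zero]
  ne := h.ln.ne
  ind := fun d hd => h.ln.ind (c⁻¹ * d) (by rw [mul_smul, ← hd, smul_smul, inv_mul_cancel₀ hc, one_smul])

theorem L_smul {c : F} (hc : c ≠ 0) : L F u (c • v) = L F u v := by
  ext x
  rw [mem_L, mem_L]
  constructor
  · rintro ⟨s, t, rfl⟩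
    exact ⟨s, t * c, by rw [mul_smul]⟩
  · rintro ⟨s, t, rfl⟩
    exact ⟨s, t * c⁻¹, by rw [smul_smul, inv_mul_cancel_right₀ hc]⟩

/-- `X Q u v` is a TI-subgroup with normaliser in `NL Q u v`. -/
theorem NL_of_mem (hQ : Nondeg Q) (h : LF Q u v u' v') {z : ↥(E Q)} (hz : z ∈ X Q u v h.qu h.uv) (hz1 : z ≠ 1)
    {g : ↥(E Q)} (hg : g * z * g⁻¹ ∈ X Q u v h.qu h.uv) : g ∈ NL Q u v := by
  obtain ⟨c, rfl⟩ := mem_X.1 hz
  obtain ⟨c', h1⟩ := mem_X.1 hg
  have hc : c ≠ 0 := by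
    rintro rfl
    exact hz1 (by rw [zero_smul, tE_zero_right])
  have hc' : c' ≠ 0 := by
    rintro rfl
    rw [zero_smul, tE_zero_right, mul_inv_eq_one, mul_eq_left] at h1
    exact hz1 h1
  rw [tE_conj] at h1
  have e1 : D (T Q ((g : V ≃ₗ[F] V) u) ((g : V ≃ₗ[F] V) (c • v))) = D (T Q u (c' • v)) := by
    have := congrArg Subtype.val h1
    rw [coe_tE, coe_tE] at this
    rw [this]
  rw [D_T hQ ((ln_smul h hc).map (mem_O' g)), D_T hQ (ln_smul h hc'), map_smul, L_smul hc, L_smul hc'] at e1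
  apply mem_NL_of h.ln
  · rw [← e1]; exact left_mem_L _ _
  · rw [← e1]; exact right_mem_L _ _

theorem NL_le (h : LF Q u v u' v') : NL Q u v ≤ normalizer (X Q u v h.qu h.uv : Set ↥(E Q)) := by
  intro g hg
  rw [mem_normalizer_iff]
  intro y
  refine ⟨fun hy => X_conj h hg hy, fun hy => ?_⟩
  have h1 := X_conj h (inv_mem hg) hy
  have e : g⁻¹ * (g * y * g⁻¹) * g⁻¹⁻¹ = y := by group
  rwa [e] at h1

theorem X_TI (hQ : Nondeg Q) (h : LF Q u v u' v') : TI (X Q u v h.qu h.uv) :=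
  fun _ hz hz1 _ hg => NL_le h (NL_of_mem hQ h hz hz1 hg)

theorem normalizer_X_ne_top (hQ : Nondeg Q) (h : LF Q u v u' v') :
    normalizer (X Q u v h.qu h.uv : Set ↥(E Q)) ≠ ⊤ := by
  intro h0
  have hz : tE Q u ((1 : F) • v) ∈ X Q u v h.qu h.uv := mem_X.2 ⟨1, rfl⟩
  have hz1 : tE Q u ((1 : F) • v) ≠ 1 := fun h1 => one_ne_zero ((tE_smul_eq_one_iff h hQ).1 h1)
  have hg : tE Q u' v' ∈ normalizer (X Q u v h.qu h.uv : Set ↥(E Q)) := h0 ▸ mem_top _
  have h1 := NL_of_mem hQ h hz hz1 ((mem_normalizer_iff.1 hg _).1 hz)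
  have h2 := (mem_NL.1 h1 u).2 (left_mem_L _ _)
  rw [coe_tE, T_apply2 h.h1.right h.u'v', h.h1.pair', one_smul, polar_zero_of_comm h.uv'] at h2
  have h3 := perp_L (F := F) h.uv (by rw [polar_self2]) h2
  rw [polar_add_left, polar_add_left, h.uv, h.h2.pair'] at h3
  simp [h.u'v, polar_smul_left] at h3

end

section fin

variable {F : Type*} [Field F] [Finite F] [CharP F 2]

theorem t2_EMinus {m : ℕ} (hm : 3 ≤ m) (a b : F)
    (hab : ∀ z₁ z₂ : F, z₁ ^ 2 + a * z₁ * z₂ + b * z₂ ^ 2 = 0 → z₁ = 0 ∧ z₂ = 0) :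
    T2 ↥(E (minusForm m F a b)) := by
  have hfl := (flag_minus hm a b hab).1
  have h : LF (minusForm m F a b) (em m a b hab 0) (em m a b hab 1) (fm m a b hab 0) (fm m a b hab 1) :=
    { h1 := hfl.hyp 0 (by omega)
      h2 := hfl.hyp 1 (by omega)
      uv := hfl.ee 0 1 (by omega) (by omega) (by omega)
      uv' := hfl.ef 0 1 (by omega) (by omega) (by omega)
      u'v := polar_zero_of_comm (hfl.ef 1 0 (by omega) (by omega) (by omega))
      u'v' := hfl.ff 0 1 (by omega) (by omega) (by omega) }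
  have hfin : Finite ((((Fin m ⊕ Fin m) ⊕ Fin 2) → F) ≃ₗ[F] (((Fin m ⊕ Fin m) ⊕ Fin 2) → F)) :=
    Finite.of_injective (fun g : ((((Fin m ⊕ Fin m) ⊕ Fin 2) → F) ≃ₗ[F] (((Fin m ⊕ Fin m) ⊕ Fin 2) → F)) =>
      (g : (((Fin m ⊕ Fin m) ⊕ Fin 2) → F) → (((Fin m ⊕ Fin m) ⊕ Fin 2) → F))) DFunLike.coe_injective
  have k := Cfsg.Agent.OddHalf.Orth.KFr.kf_minus hm a b hab h.qu h.uv
  have hQ : Nondeg (minusForm m F a b) := nondeg_minusForm m F a b hab
  refine T2.of_aut k.pU k.maxU k.aut ?_ (X_TI hQ h) (normalizer_X_ne_top hQ h)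
  rw [Subgroup.eq_bot_iff_forall]
  exact fun g hg => SitOf.center_E (SitOf.good_minus (by omega) hab) hg

/-- **`PΩ⁻`.** -/
theorem t2_OMinus {m : ℕ} (hm : 3 ≤ m) (a b : F)
    (hab : ∀ z₁ z₂ : F, z₁ ^ 2 + a * z₁ * z₂ + b * z₂ ^ 2 = 0 → z₁ = 0 ∧ z₂ = 0) :
    T2 (Cfsg.POmega F (Cfsg.quadFormMinus m F a b)) := by
  have hfin : Finite ((((Fin m ⊕ Fin m) ⊕ Fin 2) → F) ≃ₗ[F] (((Fin m ⊕ Fin m) ⊕ Fin 2) → F)) :=
    Finite.of_injective (fun g : ((((Fin m ⊕ Fin m) ⊕ Fin 2) → F) ≃ₗ[F] (((Fin m ⊕ Fin m) ⊕ Fin 2) → F)) =>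
      (g : (((Fin m ⊕ Fin m) ⊕ Fin 2) → F) → (((Fin m ⊕ Fin m) ⊕ Fin 2) → F))) DFunLike.coe_injective
  have e : ↥(E (minusForm m F a b)) ≃* Cfsg.POmega F (Cfsg.quadFormMinus m F a b) := by
    rw [← coe_minusForm]
    exact SitOf.equivE (SitOf.good_minus (by omega) hab)
  exact T2.of_equiv e.symm (t2_EMinus hm a b hab)

end fin

end Cfsg.Agent.Omega.HOneEnd.TTwo

end
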