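import Cfsg.Agent.Mrg.Omega.HOne.Cut
import Cfsg.Agent.Mrg.ParSys.RootEpsBD
import Cfsg.Agent.Mrg.ParSys.FreeTrans
import Cfsg.Agent.Mrg.ParSys.Main
import Cfsg.Agent.Mrg.ParSys.Restrict


/-!
# II.0h1, `q = 2`: from a parabolic system to the interface `EndIn` (THEOREM FREE)

* `gpp_subgroupOf` : the rank two condition `GPp` for a subgroup `X ≥ P i`;
* `exists_bnPair` : a system `S ≤ PP i` with three chambers in each panel, of spherical type, `|S| = 2^N`, without normal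
  2-subgroup: the subgroup `X = ⨆ PP i` has a BN-pair with Borel subgroup `S`;
* `ends_of_sys` : over `Pos`: `Ends S V (R o)`.
-/

set_option autoImplicit false

namespace Cfsg.Agent.Omega.HOneEnd.OfSys

open Subgroup Cfsg Cfsg.Agent.ParSys Cfsg.Agent.ParSys.Free Cfsg.Agent.ParSys.FreeCount Cfsg.Agent.ParSys.RankTwo

section transfer

variable {G : Type*} [Group G] {I : Type*} {X B : Subgroup G} {P : I → Subgroup G}

/-- `X / B → G / B` -/
def qm (X B : Subgroup G) : (↥X ⧸ B.subgroupOf X) → G ⧸ B :=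
  fun c => Quotient.liftOn' c (fun y => ((y : G) : G ⧸ B)) fun a b h => by
    rw [QuotientGroup.leftRel_apply] at h
    exact QuotientGroup.eq.2 (Subgroup.mem_subgroupOf.1 h)

theorem qm_mk (y : ↥X) : qm X B (y : ↥X ⧸ B.subgroupOf X) = ((y : G) : G ⧸ B) := rfl

theorem qm_inj : Function.Injective (qm X B) := by
  intro a b h
  induction a using QuotientGroup.induction_on with
  | _ a =>
  induction b using QuotientGroup.induction_on with
  | _ b =>
  rw [qm_mk, qm_mk, QuotientGroup.eq] at h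
  exact QuotientGroup.eq.2 (Subgroup.mem_subgroupOf.2 h)

theorem map_chm (x : ↥X) (k : List ↥X) :
    (chm (B.subgroupOf X) x k).map (qm X B) = chm B (x : G) (k.map (Subtype.val : ↥X → G)) := by
  induction k generalizing x with
  | nil => rfl
  | cons y k ih =>
    rw [chm, List.map_cons, ih, List.map_cons, chm]
    rfl

/-- the rank two condition for a subgroup -/
theorem gpp_subgroupOf (hP : ∀ i, P i ≤ X) (hBP : ∀ i, B ≤ P i) {i j : I} {m : ℕ} (h : GPp B P i j m) :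
    GPp (B.subgroupOf X) (fun i => (P i).subgroupOf X) i j m := by
  have hBP' : ∀ i, B.subgroupOf X ≤ (P i).subgroupOf X := fun i x hx => hBP i hx
  intro c l hl
  induction c using QuotientGroup.induction_on with
  | _ x =>
  obtain ⟨k, hk, rfl⟩ := exists_chm hBP' hl
  have h1 := isGal_chm (x := (x : G)) hBP (galE_subgroupOf.1 hk)
  obtain ⟨l', ⟨h2, h3⟩, h4⟩ := h _ _ h1
  obtain ⟨k', hk', rfl⟩ := exists_chm hBP h2
  obtain ⟨k₀, rfl⟩ := exists_lift hP hk'
  have hk₀ : GalE (B.subgroupOf X) (fun i => (P i).subgroupOf X) (alt j i m) k₀ := galE_subgroupOf.2 hk'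
  refine ⟨chm (B.subgroupOf X) x k₀, ⟨isGal_chm hBP' hk₀, ?_⟩, ?_⟩
  · rw [chm_last, chm_last] at h3 ⊢
    rw [QuotientGroup.eq] at h3 ⊢
    rw [Subgroup.mem_subgroupOf]
    have e : (((x * k₀.prod)⁻¹ * (x * k.prod) : ↥X) : G) =
        ((x : G) * (k₀.map (Subtype.val : ↥X → G)).prod)⁻¹ * ((x : G) * (k.map (Subtype.val : ↥X → G)).prod) := by
      rw [← ParSys.coe_prod, ← ParSys.coe_prod]
      rfl
    rw [e]
    exact h3
  · rintro l₂ ⟨h5, h6⟩
    obtain ⟨k₂, hk₂, rfl⟩ := exists_chm hBP' h5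
    have h7 := h4 (chm B (x : G) (k₂.map (Subtype.val : ↥X → G)))
      ⟨isGal_chm hBP (galE_subgroupOf.1 hk₂), ?_⟩
    · rw [← map_chm, ← map_chm] at h7
      exact (List.map_injective_iff.2 qm_inj) h7
    · rw [chm_last, chm_last] at h6 ⊢
      rw [QuotientGroup.eq] at h6 ⊢
      rw [Subgroup.mem_subgroupOf] at h6
      have e : (((x * k₂.prod)⁻¹ * (x * k.prod) : ↥X) : G) =
          ((x : G) * (k₂.map (Subtype.val : ↥X → G)).prod)⁻¹ * ((x : G) * (k.map (Subtype.val : ↥X → G)).prod) := by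
        rw [← ParSys.coe_prod, ← ParSys.coe_prod]
        rfl
      rw [e] at h6
      exact h6

end transfer

section bn

variable {G : Type*} [Group G] {I : Type*}

/-- no normal 2-subgroup: the core of `S` is trivial -/
theorem core_bot {S X : Subgroup G} (hloc : ∀ K ≤ S, X ≤ normalizer (K : Set G) → K = ⊥) :
    (S.subgroupOf X).normalCore = ⊥ := by
  have h3 : ((S.subgroupOf X).normalCore).map X.subtype = ⊥ := by
    apply hloc
    · rintro _ ⟨y, hy, rfl⟩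
      exact mem_subgroupOf.1 ((S.subgroupOf X).normalCore_le hy)
    · intro g hg
      have h4 : (S.subgroupOf X).normalCore.Normal := inferInstance
      rw [Subgroup.mem_normalizer_iff]
      intro y
      constructor
      · rintro ⟨y', hy', rfl⟩
        exact ⟨⟨g, hg⟩ * y' * ⟨g, hg⟩⁻¹, h4.conj_mem _ hy' _, rfl⟩
      · rintro ⟨y', hy', he⟩
        refine ⟨⟨g, hg⟩⁻¹ * y' * ⟨g, hg⟩, ?_, ?_⟩
        · have := h4.conj_mem _ hy' (⟨g, hg⟩⁻¹)
          rwa [inv_inv] at this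
        · change g⁻¹ * (y' : G) * g = y
          rw [show (y' : G) = g * y * g⁻¹ from he]
          group
  rw [eq_bot_iff]
  intro y hy
  have h5 : (y : G) ∈ ((S.subgroupOf X).normalCore).map X.subtype := ⟨y, hy, rfl⟩
  rw [h3, mem_bot] at h5
  exact mem_bot.2 (Subtype.ext h5)

/-- **THEOREM FREE in a subgroup**, `q = 2` -/
theorem exists_bnPair [Finite G] [Finite I] [Nonempty I] {M : CoxeterMatrix I} {N : ℕ} (hM : HasQ M (fun _ => 2) N)
    {S : Subgroup G} {PP : I → Subgroup G} (hle : ∀ i, S ≤ PP i) (h3 : ∀ i, S.relIndex (PP i) = 3)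
    (hgp : ∀ i j, i ≠ j → GPp S PP i j (M i j)) (hcard : N ≤ Nat.card S) {X : Subgroup G} (hX : ⨆ i, PP i = X)
    (hloc : ∀ K ≤ S, X ≤ normalizer (K : Set G) → K = ⊥) :
    Nat.card S = N ∧ ∃ Q : Cfsg.BNPair ↥X, Q.B = S.subgroupOf X ∧ Q.rank = Nat.card I ∧
      (∃ e : I ≃ Q.S, ∀ i, ((e i : ↥X) : G) ∈ PP i) ∧
      ((∀ J : Set I, J.Nonempty → Jᶜ.Nonempty → ∃ i ∈ J, ∃ j ∈ Jᶜ, M i j ≠ 2) → Q.Irreducible) := by
  have hP : ∀ i, PP i ≤ X := fun i => hX ▸ le_iSup PP i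
  obtain ⟨i₀⟩ := (inferInstance : Nonempty I)
  have hSX : S ≤ X := (hle i₀).trans (hP i₀)
  have hcore := core_bot hloc
  have hsys : Free.Sys M.toCoxeterSystem (S.subgroupOf X) (fun i => (PP i).subgroupOf X) (S.subgroupOf X)
      (fun _ => 2) := {
    le := fun i x hx => hle i hx
    gen := by
      have : Nonempty I := ⟨i₀⟩
      exact iSup_subgroupOf hX
    gp := fun i j hij => gpp_subgroupOf hP hle (hgp i j hij)
    card := fun i => by
      rw [Subgroup.relIndex_subgroupOf (hP i)]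
      exact h3 i
    two := fun _ => le_rfl
    U_le := le_rfl
    pan := fun i g hg x hx hxB hgx y hy =>
      pan_of_three (B := S.subgroupOf X) (P := (PP i).subgroupOf X) (fun x hx => hle i hx)
        (by rw [Subgroup.relIndex_subgroupOf (hP i)]; exact h3 i) g hg x hx hxB hgx y hy
    clo := fun _ _ _ h => h
    core := fun g _ h => by
      have h1 : g ∈ (S.subgroupOf X).normalCore := by
        intro b
        have := h b⁻¹
        rwa [inv_inv] at this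
      rw [hcore, mem_bot] at h1
      exact h1 }
  have hc0 : Nat.card (S.subgroupOf X) = Nat.card S := Nat.card_congr (subgroupOfEquivOfLe hSX).toEquiv
  have hc1 : Nat.card S = N := le_antisymm (hc0 ▸ hM.card_le hsys) hcard
  obtain ⟨Q, h1, h2, ⟨e, he⟩, h4⟩ := hM.exists_bnPair hsys (hc0.trans hc1)
  exact ⟨hc1, Q, h1, h2, ⟨e, fun i => mem_subgroupOf.1 (he i)⟩, h4⟩

end bn

section pos

open Cfsg.Agent.ZN Cfsg.Agent.Omega.MinPar Cfsg.Agent.Omega.BTwo Cfsg.Agent.Omega.HOneTwo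
open Cfsg.Agent.Omega.HTwo.Entry (Pos)
open Cfsg.Agent.Omega.HTwo.AlphaP (MP)
open Cfsg.Agent.Omega.HOneTwo.Trans (gn gen)
open Cfsg.Agent.Omega.HOne.Cut (Ends TSz)

universe u

variable {G : Type u} [Group G] [Finite G] {S : Sylow 2 G} {P V : Subgroup G} {ι : Type*} {R : ι → Subgroup G}
  {o : ι} {r z : G}

/-- **the end of the chains for `q = 2`, from a parabolic system** `PP i`, `i ∈ I`, over `S`: all panels have three
chambers, the residues of rank two are generalised polygons (`GPp`), `|S| ≥ 2^{l(w₀)}` (`HasQ`), `PP i ≤ C(r)` for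
`i ≠ o'`, `C(r)` and `X` lie in `⟨PP i⟩`, and some `T ≤ [⟨PP i⟩, ⟨PP i⟩]`, `T ≤ S` has order at least `2^{l(w₀)}`. -/
theorem ends_of_sys (p : Pos S P V R o r z) {I : Type*} [Finite I] {M : CoxeterMatrix I} {N : ℕ}
    (hM : HasQ M (fun _ => 2) N) {PP : I → Subgroup G} (hle : ∀ i, (S : Subgroup G) ≤ PP i)
    (h3 : ∀ i, (S : Subgroup G).relIndex (PP i) = 3)
    (hgp : ∀ i j, i ≠ j → GPp (S : Subgroup G) PP i j (M i j)) (hcard : N ≤ Nat.card (S : Subgroup G))
    (hI : 3 ≤ Nat.card I)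
    (hconn : ∀ J : Set I, J.Nonempty → Jᶜ.Nonempty → ∃ i ∈ J, ∃ j ∈ Jᶜ, M i j ≠ 2)
    {o' : I} (hpar : ∀ i, i ≠ o' → PP i ≤ centralizer {r}) (hr : centralizer {r} ≤ ⨆ i, PP i)
    (hX : XX V R ≤ ⨆ i, PP i) {T : Subgroup G} (hT : T ≤ ⁅⨆ i, PP i, ⨆ i, PP i⁆) (hTS : T ≤ (S : Subgroup G))
    (hTc : N ≤ Nat.card T) : Ends (S : Subgroup G) V (R o) := by
  have hne : Nonempty I := ⟨o'⟩
  have hloc : ∀ K ≤ (S : Subgroup G), (⨆ i, PP i) ≤ normalizer (K : Set G) → K = ⊥ := by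
    intro K hK hG
    refine p.toHT.nonloc_o (A := XX V R) (fun i => p.toBT.trans_X_one o i) (S.2.to_le hK) (hX.trans hG) ?_
    rw [p.normalizer_eq]
    exact hr.trans hG
  obtain ⟨hSN, Q, hB, hrk, ⟨e, he⟩, hirr⟩ := exists_bnPair hM hle h3 hgp hcard rfl hloc
  have hTS' : T = (S : Subgroup G) := by
    apply Subgroup.eq_of_le_of_card_ge hTS
    rw [hSN]
    exact hTc
  rw [hTS'] at hT
  refine OfTwo.ends_of p Q hB (hrk ▸ hI) (hirr hconn) (Subgroup.card_dvd_of_le hT) hr hX ?_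
  refine ⟨(e o' : ↥(⨆ i, PP i)), fun s hs hne' => ?_⟩
  have h1 : s = (e (e.symm ⟨s, hs⟩) : ↥(⨆ i, PP i)) := by rw [Equiv.apply_symm_apply]
  have h2 : e.symm ⟨s, hs⟩ ≠ o' := by
    intro h
    apply hne'
    rw [h1, h]
  rw [h1]
  exact hpar _ h2 (he _)

/-- the same with `MP ≤ ⟨PP i⟩` and `T ≤ ⟨r^M, z^{C(p)}⟩` -/
theorem ends_of_sys' (p : Pos S P V R o r z) (t : TSz V R o r z) {I : Type*} [Finite I] {M : CoxeterMatrix I} {N : ℕ}
    (hM : HasQ M (fun _ => 2) N) {PP : I → Subgroup G} (hle : ∀ i, (S : Subgroup G) ≤ PP i)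
    (h3 : ∀ i, (S : Subgroup G).relIndex (PP i) = 3)
    (hgp : ∀ i j, i ≠ j → GPp (S : Subgroup G) PP i j (M i j)) (hcard : N ≤ Nat.card (S : Subgroup G))
    (hI : 3 ≤ Nat.card I)
    (hconn : ∀ J : Set I, J.Nonempty → Jᶜ.Nonempty → ∃ i ∈ J, ∃ j ∈ Jᶜ, M i j ≠ 2)
    {o' : I} (hpar : ∀ i, i ≠ o' → PP i ≤ centralizer {r}) (hr : centralizer {r} ≤ ⨆ i, PP i)
    (hMP : MP V R o z ≤ ⨆ i, PP i) {T : Subgroup G}
    (hT : T ≤ gn (MP V R o z) r ⊔ closure {x | ∃ m ∈ MP V R o z, ∃ y ∈ gen r z, x = m * y * m⁻¹})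
    (hTS : T ≤ (S : Subgroup G)) (hTc : N ≤ Nat.card T) : Ends (S : Subgroup G) V (R o) := by
  have hX : XX V R ≤ ⨆ i, PP i := (le_sup_right : XX V R ≤ MP V R o z).trans hMP
  refine ends_of_sys p hM hle h3 hgp hcard hI hconn hpar hr hX (hT.trans ?_) hTS hTc
  refine sup_le (OfTwo.gn_le_comm p hr hX) ((closure_le _).2 ?_)
  rintro _ ⟨m, hm, y, hy, rfl⟩
  exact OfTwo.comm_conj (hMP hm) (OfTwo.gen_le_comm p t hr hX hy)

end pos

end Cfsg.Agent.Omega.HOneEnd.OfSys
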