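import Cfsg.Agent.Mrg.Omega.HOneEnd.FFourDat


/-!
# `F₄(q)`, `q` even: the centraliser of `ab`, `1 ≠ a ∈ X_{44}`, `1 ≠ b ∈ X_{47}`

* `comm_of_ab` : an element of `F₄(K)` commuting with `ab` commutes with `a` and `b`;
* `aut_ab` : an automorphism of `F₄(K)` fixing `ab` fixes or exchanges `X_{44}`, `X_{47}` on `a`, `b`;
* `fix_X` : an automorphism fixing `1 ≠ a ∈ X_r` normalises `X_r`.
-/

set_option autoImplicit false
set_option Elab.async false
set_option linter.unusedSectionVars false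

namespace Cfsg.Agent.Omega.HOneEnd.FFour

open CoxeterSystem Cfsg.Agent.ChevalleyStructure.CoxeterGeom Cfsg.Agent.Tits.Roots Cfsg.Agent.Tits.Core
  Cfsg.Agent.Tits.Exchange
open Cfsg.Lie Cfsg.Agent.ChevalleyStructure Cfsg.Agent.ChevalleyStructure.Elts
  Cfsg.Agent.ChevalleyStructure.RootVec Cfsg.Agent.ChevalleyStructure.CoxeterGeomTypes
open Cfsg.Agent.Nodes Cfsg.Agent.Nodes.Reps Cfsg.Agent.Nodes.BNOf Cfsg.Agent.Nodes.RGDChev Cfsg.Agent.Nodes.Coroot
  Cfsg.Agent.Nodes.KindF Cfsg.Agent.Nodes.Bruhat Cfsg.Agent.Nodes.OppDec Cfsg.Agent.Nodes.LeviDec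
  Cfsg.Agent.Nodes.StabComb
  Cfsg.Agent.KFacts.ChevTwo Cfsg.Agent.KFacts.ChevTwoTab
  Cfsg.Agent.KFacts.ChevTwoInst Cfsg.Agent.KFacts.RgdTI Cfsg.Agent.KFacts.RgdOdd Cfsg.Agent.KFacts.RgdEx
  Cfsg.Agent.KFacts.RgdPar Cfsg.Agent.KFacts.RgdAut Cfsg.Agent.KFacts.RgdDiag
  Cfsg.Agent.KFacts.F4Star Cfsg.Agent.KFacts.F4Cent Cfsg.Agent.KFacts.F4Pair Cfsg.Agent.KFacts.F4Torus
  Cfsg.Agent.KFacts.F4Perf Cfsg.Agent.KFacts.F4Aut Cfsg.Agent.KFacts.F4AutPair

universe u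

/-! ### Dominant roots -/

/-- a dominant root is `v 47` or `v 44` -/
theorem dom_of_nonneg {x : Fin 4 → ℤ} (hx : IsRoot cF isType.isCartan x)
    (h : ∀ i, 0 ≤ cpr cF isType.isCartan (sr i) x) : Dom x := by
  obtain ⟨r, hr, rfl⟩ := exists_v cF hx
  have h1 : (starM (2 ^ 33 + 2 ^ 27 + 2 ^ 25 + 2 ^ 24)).testBit r = true := by
    rw [testBit_starM]
    refine ⟨hr, fun s hs hs' => ?_⟩
    rw [testBit_nn cF hs hr]
    have h2 : s = 33 ∨ s = 27 ∨ s = 25 ∨ s = 24 := by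
      revert s
      decide +kernel
    obtain ⟨s0, s1, s2, s3, -⟩ := simples_ok
    have h3 : ∃ i : Fin 4, v s = sr i := by
      rcases h2 with rfl | rfl | rfl | rfl
      · exact ⟨0, by rw [← s0]; exact v_simple 0⟩
      · exact ⟨1, by rw [← s1]; exact v_simple 1⟩
      · exact ⟨2, by rw [← s2]; exact v_simple 2⟩
      · exact ⟨3, by rw [← s3]; exact v_simple 3⟩
    obtain ⟨i, hi⟩ := h3
    rw [hi, cpr_nonneg_comm cF (isRoot_v cF hr) (isRoot_sr cF _ i)]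
    exact h i
  rw [Cfsg.Agent.KFacts.F4Perf.domChk] at h1
  have h2 : r = 47 ∨ r = 44 := by
    clear h hx
    revert r
    decide +kernel
  rcases h2 with rfl | rfl
  · exact Or.inl rfl
  · exact Or.inr rfl

theorem neg_not_ge {r : Fin 4 → ℤ} (hr : IsRoot cF isType.isCartan r) {i : Fin 4}
    (hi : pairing (cartanOf chevF4 4) i r = 1) : ¬ 0 ≤ cpr cF isType.isCartan (-sr i) r := by
  intro h
  have h1 : cpr cF isType.isCartan r (sr i) = 1 := by rw [cpr_sr, hi]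
  have h2 : 0 ≤ cpr cF isType.isCartan r (-sr i) :=
    (cpr_nonneg_comm cF (isRoot_sr cF _ i).neg hr).1 h
  rw [cpr_neg_right cF _ _ (isRoot_sr cF _ i), h1] at h2
  norm_num at h2

variable {K : Type u} [Field K] [Finite K] [CharP K 2]

/-- `X_x ≤ P_r` implies `0 ≤ ⟨x,r⟩`. -/
theorem nonneg_of_le {r : Fin 4 → ℤ} (hr : IsRoot cF isType.isCartan r) {x : Fin 4 → ℤ}
    (hx : IsRoot cF isType.isCartan x) (h : XF K x ≤ RGD.Sup (XF K) (Ge cF isType.isCartan r)) :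
    0 ≤ cpr cF isType.isCartan x r := by
  have h1 : XF K x ≤ PS (TF K) (XF K) (Half cF isType.isCartan (ell cF isType.isCartan hr)) := by
    rw [half_ell]
    exact h.trans Sup_le_PS
  exact (X_le_half_iff (rgd (K := K) isType cF 2) (ell cF isType.isCartan hr) hx).1 h1

/-- `X_x` commuting with `1 ≠ a ∈ X_r` implies `0 ≤ ⟨x,r⟩`. -/
theorem nonneg_of_comm {r : Fin 4 → ℤ} (hr : IsRoot cF isType.isCartan r) {x : Fin 4 → ℤ}
    (hx : IsRoot cF isType.isCartan x) {a : ↥(chevF4.group K)} (ha : a ∈ XF K r) (ha1 : a ≠ 1)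
    (h : ∀ z ∈ XF K x, z * a = a * z) : 0 ≤ cpr cF isType.isCartan x r :=
  nonneg_of_le hr hx fun z hz => cent_X cF hr ha ha1 (h z hz)

/-! ### The centraliser of `ab` -/

variable (K) in
/-- the elements `ab`, `1 ≠ a ∈ X_{44}`, `1 ≠ b ∈ X_{47}` -/
def ZZ (z : ↥(chevF4.group K)) : Prop :=
  ∃ a ∈ XF K (v 44), ∃ b ∈ XF K (v 47), a ≠ 1 ∧ b ≠ 1 ∧ z = a * b

theorem ZZ.conj {z g : ↥(chevF4.group K)} (hz : ZZ K z) (h44 : ∀ a ∈ XF K (v 44), g * a * g⁻¹ ∈ XF K (v 44))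
    (h47 : ∀ a ∈ XF K (v 47), g * a * g⁻¹ ∈ XF K (v 47)) : ZZ K (g * z * g⁻¹) := by
  obtain ⟨a, ha, b, hb, ha1, hb1, rfl⟩ := hz
  refine ⟨g * a * g⁻¹, h44 a ha, g * b * g⁻¹, h47 b hb, ?_, ?_, by group⟩
  · intro h
    exact ha1 (by simpa using h)
  · intro h
    exact hb1 (by simpa using h)

theorem not_comm_ZZ {z : ↥(chevF4.group K)} (hz : ZZ K z) {i : Fin 4} (hi : i ∉ JJ)
    (h : ∀ x ∈ XF K (-sr i), x * z = z * x) : False := by
  obtain ⟨a, ha, b, hb, ha1, hb1, rfl⟩ := hz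
  have h44 : IsRoot cF isType.isCartan (v 44) := isRoot_v cF (by norm_num)
  have h47 : IsRoot cF isType.isCartan (v 47) := isRoot_v cF (by norm_num)
  have hsr := (isRoot_sr cF isType.isCartan i).neg
  have hi' : i = 0 ∨ i = 3 := by
    have h5 : ¬ (i = 1 ∨ i = 2) := hi
    revert h5
    fin_cases i <;> simp
  rcases hi' with rfl | rfl
  · have h1 : (-sr 0 : Fin 4 → ℤ) ∈ Ge cF isType.isCartan (v 47) :=
      (ge_of_pairing cF h47 (i := 0) (by rw [pair47, if_neg (by decide)])).2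
    refine neg_not_ge h44 (i := 0) (by rw [pair44, if_pos rfl]) (nonneg_of_comm h44 hsr ha ha1 fun x hx => ?_)
    have h2 : x * b = b * x := ((sysF (K := K) cF).lr h47).comm' (RGD.le_Sup h1 hx) hb
    have h3 := h x hx
    have h4 : x * a * b = a * x * b := by
      calc x * a * b = x * (a * b) := by group
        _ = a * (b * x) := by rw [h3]; group
        _ = a * x * b := by rw [← h2]; group
    exact mul_right_cancel h4
  · have h1 : (-sr 3 : Fin 4 → ℤ) ∈ Ge cF isType.isCartan (v 44) :=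
      (ge_of_pairing cF h44 (i := 3) (by rw [pair44, if_neg (by decide)])).2
    refine neg_not_ge h47 (i := 3) (by rw [pair47, if_pos rfl]) (nonneg_of_comm h47 hsr hb hb1 fun x hx => ?_)
    have h2 : x * a = a * x := ((sysF (K := K) cF).lr h44).comm' (RGD.le_Sup h1 hx) ha
    have h3 := h x hx
    have h4 : a * (x * b) = a * (b * x) := by
      calc a * (x * b) = a * x * b := by group
        _ = x * a * b := by rw [h2]
        _ = x * (a * b) := by group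
        _ = a * (b * x) := by rw [h3]; group
    exact mul_left_cancel h4

theorem XX_comm' {z y : ↥(chevF4.group K)} (hz : ZZ K z)
    (hy : y ∈ RGD.Sup (XF K) (Ge cF isType.isCartan (v 47) ∩ Ge cF isType.isCartan (v 44))) : y * z = z * y := by
  obtain ⟨a, ha, b, hb, -, -, rfl⟩ := hz
  have h1 : y * a = a * y := ((sysF (K := K) cF).lr (isRoot_v cF (by norm_num))).comm'
    (RGD.Sup_mono Set.inter_subset_right hy) ha
  have h2 : y * b = b * y := ((sysF (K := K) cF).lr (isRoot_v cF (by norm_num))).comm'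
    (RGD.Sup_mono Set.inter_subset_left hy) hb
  calc y * (a * b) = y * a * b := by group
    _ = a * (y * b) := by rw [h1]; group
    _ = a * b * y := by rw [h2]; group

/-- an element of `N` over `w` carrying some `ab` to some `a'b'` lies over `W_J` -/
theorem mem_WJ_of_ZZ : ∀ {w : CoxeterMatrix.F₄.Group} {k : ↥(chevF4.group K)},
    Rp cF (rgd (K := K) isType cF 2).nsys w k → ∀ {z₁ z₂ : ↥(chevF4.group K)}, ZZ K z₁ → ZZ K z₂ →
    k * z₂ * k⁻¹ = z₁ → w ∈ WJ cF JJ := by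
  obtain ⟨R, hR⟩ : ∃ R, R = rgd (K := K) isType cF 2 := ⟨_, rfl⟩
  rw [← hR]
  intro w
  induction hn : cF.length w using Nat.strong_induction_on generalizing w with
  | _ N ih =>
  intro k hk z₁ z₂ h₁ h₂ e
  by_cases hw1 : w = 1
  · rw [hw1]; exact one_mem _
  obtain ⟨i, hi⟩ := cF.exists_leftDescent_of_ne_one hw1
  have hi' : cF.length (cF.simple i * w) < cF.length w := hi
  have hneg : rep cF isType.isCartan w⁻¹ (sr i) ≤ 0 := by
    refine nonpos_of_lt cF isType.isCartan w⁻¹ i ?_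
    rw [← cF.length_inv w, ← cF.length_inv (cF.simple i * w), mul_inv_rev, inv_simple] at hi'
    exact hi'
  -- `X_{-α_i}` commutes with `z₁`
  have hc : ∀ x ∈ XF K (-sr i), x * z₁ = z₁ * x := by
    intro x hx
    have h3 : k⁻¹ * x * k ∈ XF K (-rep cF isType.isCartan w⁻¹ (sr i)) := by
      have := R.conj_mem' hk (isRoot_sr cF isType.isCartan i).neg hx
      rwa [map_neg] at this
    have hpos : (-rep cF isType.isCartan w⁻¹ (sr i) : Fin 4 → ℤ) ∈ RGD.Pos cF isType.isCartan :=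
      ⟨((isRoot_sr cF isType.isCartan i).act w⁻¹).neg, neg_nonneg.2 hneg⟩
    have h4 : k⁻¹ * x * k ∈ RGD.Sup (XF K) (Ge cF isType.isCartan (v 47) ∩ Ge cF isType.isCartan (v 44)) :=
      RGD.le_Sup (S := Ge cF isType.isCartan (v 47) ∩ Ge cF isType.isCartan (v 44))
        ⟨Dom.pos_sub (Or.inl rfl) hpos, Dom.pos_sub (Or.inr rfl) hpos⟩ h3
    have h5 := XX_comm' h₂ h4
    rw [← e]
    calc x * (k * z₂ * k⁻¹) = k * (k⁻¹ * x * k * z₂) * k⁻¹ := by group
      _ = k * z₂ * k⁻¹ * x := by rw [h5]; group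
  by_cases hiJ : i ∈ JJ
  · obtain ⟨m, hm, hmr⟩ := exists_rp_in R (simple_mem_WJ cF hiJ)
    have h6 := XX_comm' h₁ (RGD.Sup_mono rootsJ_sub hm)
    have hk2 : Rp cF R.nsys (cF.simple i * w) (m⁻¹ * k) := by
      have := hmr.inv.mul hk
      rwa [inv_simple] at this
    have e2 : m⁻¹ * k * z₂ * (m⁻¹ * k)⁻¹ = z₁ := by
      calc m⁻¹ * k * z₂ * (m⁻¹ * k)⁻¹ = m⁻¹ * (k * z₂ * k⁻¹) * m := by group
        _ = m⁻¹ * (z₁ * m) := by rw [e]; group
        _ = z₁ := by rw [← h6]; group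
    have h7 := ih (cF.length (cF.simple i * w)) (by omega) rfl hk2 h₁ h₂ e2
    have h8 : w = cF.simple i * (cF.simple i * w) := by rw [← mul_assoc, simple_mul_simple_self, one_mul]
    rw [h8]
    exact mul_mem (simple_mem_WJ cF hiJ) h7
  · exact (not_comm_ZZ h₁ hiJ hc).elim

theorem B_le_PS {r : Fin 4 → ℤ} (hr : Dom r) :
    RGD.B cF isType.isCartan (TF K) (XF K) ≤ PS (TF K) (XF K) (Ge cF isType.isCartan r) :=
  sup_le T_le_PS ((RGD.Sup_mono hr.pos_sub).trans Sup_le_PS)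

theorem LJ_le_PS {r : Fin 4 → ℤ} (hr : Dom r) :
    LJ cF isType.isCartan (TF K) (XF K) JJ ≤ PS (TF K) (XF K) (Ge cF isType.isCartan r) := by
  refine sup_le T_le_PS ((RGD.Sup_mono fun x hx => ?_).trans Sup_le_PS)
  have h1 := rootsJ_sub hx
  rcases hr with rfl | rfl
  · exact h1.1
  · exact h1.2

/-- an element of `F₄(K)` commuting with `ab` commutes with `a` and `b` -/
theorem comm_of_ab {a b g : ↥(chevF4.group K)} (ha : a ∈ XF K (v 44)) (hb : b ∈ XF K (v 47)) (ha1 : a ≠ 1)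
    (hb1 : b ≠ 1) (hg : g * (a * b) = a * b * g) : g * a = a * g ∧ g * b = b * g := by
  obtain ⟨R, hR⟩ : ∃ R, R = rgd (K := K) isType cF 2 := ⟨_, rfl⟩
  have h44 : IsRoot cF isType.isCartan (v 44) := isRoot_v cF (by norm_num)
  have h47 : IsRoot cF isType.isCartan (v 47) := isRoot_v cF (by norm_num)
  have hGG : g ∈ GG cF isType.isCartan (TF K) (XF K) := by rw [GG_top cF]; exact Subgroup.mem_top g
  obtain ⟨w, b₁, hb₁, k, hk, b₂, hb₂, e⟩ := (mem_GG R).1 hGG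
  have hn : ∀ {r : Fin 4 → ℤ}, Dom r → ∀ {y}, y ∈ PS (TF K) (XF K) (Ge cF isType.isCartan r) → ∀ x ∈ XF K r,
      y * x * y⁻¹ ∈ XF K r := by
    intro r hr y hy x hx
    have h1 : PS (TF K) (XF K) (Ge cF isType.isCartan r) ≤ Subgroup.normalizer (XF K r : Set ↥(chevF4.group K)) :=
      ((sysF (K := K) cF).lr hr.root).PS_le_normalizer
    exact (Subgroup.mem_normalizer_iff.1 (h1 hy) x).1 hx
  have hz : ZZ K (a * b) := ⟨a, ha, b, hb, ha1, hb1, rfl⟩
  have hz2 := hz.conj (hn (Or.inr rfl) (B_le_PS (Or.inr rfl) hb₂)) (hn (Or.inl rfl) (B_le_PS (Or.inl rfl) hb₂))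
  have hz1 := hz.conj (hn (Or.inr rfl) (B_le_PS (Or.inr rfl) (inv_mem hb₁)))
    (hn (Or.inl rfl) (B_le_PS (Or.inl rfl) (inv_mem hb₁)))
  have e1 : k * (b₂ * (a * b) * b₂⁻¹) * k⁻¹ = b₁⁻¹ * (a * b) * b₁⁻¹⁻¹ := by
    have e2 : g * (a * b) * g⁻¹ = a * b := by rw [hg]; group
    calc k * (b₂ * (a * b) * b₂⁻¹) * k⁻¹ = b₁⁻¹ * (b₁ * k * b₂ * (a * b) * (b₁ * k * b₂)⁻¹) * b₁⁻¹⁻¹ := by group
      _ = b₁⁻¹ * (a * b) * b₁⁻¹⁻¹ := by rw [← e, e2]
  have hwJ : w ∈ WJ cF JJ := by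
    subst hR
    exact mem_WJ_of_ZZ hk hz1 hz2 e1
  have hgP : ∀ {r : Fin 4 → ℤ}, Dom r → g ∈ PS (TF K) (XF K) (Ge cF isType.isCartan r) := by
    intro r hr
    rw [e]
    exact mul_mem (mul_mem (B_le_PS hr hb₁) (LJ_le_PS hr (rp_mem_LJ R hwJ hk))) (B_le_PS hr hb₂)
  have h1 := hn (Or.inr rfl) (hgP (Or.inr rfl)) a ha
  have h2 := hn (Or.inl rfl) (hgP (Or.inl rfl)) b hb
  have h3 : g * a * g⁻¹ * (g * b * g⁻¹) = a * b := by
    calc g * a * g⁻¹ * (g * b * g⁻¹) = g * (a * b) * g⁻¹ := by group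
      _ = a * b := by rw [hg]; group
  have h4 : a⁻¹ * (g * a * g⁻¹) = b * (g * b * g⁻¹)⁻¹ := by
    calc a⁻¹ * (g * a * g⁻¹) = a⁻¹ * (g * a * g⁻¹ * (g * b * g⁻¹)) * (g * b * g⁻¹)⁻¹ := by group
      _ = b * (g * b * g⁻¹)⁻¹ := by rw [h3]; group
  have h5 := X_inf_X R h44 h47 fun h => absurd (v_inj (by norm_num) (by norm_num) h) (by norm_num)
  rw [Subgroup.eq_bot_iff_forall] at h5
  have h6 := h5 (a⁻¹ * (g * a * g⁻¹)) (Subgroup.mem_inf.2 ⟨mul_mem (inv_mem ha) h1, by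
    rw [h4]; exact mul_mem hb (inv_mem h2)⟩)
  have h7 : g * a * g⁻¹ = a := (inv_mul_eq_one.1 h6).symm
  have h8 : g * b * g⁻¹ = b := by
    rw [h4] at h6
    exact (mul_inv_eq_one.1 h6).symm
  exact ⟨by calc g * a = g * a * g⁻¹ * g := by group
      _ = a * g := by rw [h7], by calc g * b = g * b * g⁻¹ * g := by group
      _ = b * g := by rw [h8]⟩

/-! ### Automorphisms -/

/-- an automorphism fixing `1 ≠ z ∈ X_r` normalises `X_r` -/
theorem fix_X {r : Fin 4 → ℤ} (hr : IsRoot cF isType.isCartan r) {z : ↥(chevF4.group K)} (hz : z ∈ XF K r)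
    (hz1 : z ≠ 1) {α : MulAut ↥(chevF4.group K)} (hα : α z = z) : Fix α (XF K r) := by
  have key : ∀ {α : MulAut ↥(chevF4.group K)}, α z = z → ∀ x ∈ XF K r, α x ∈ XF K r := by
    intro α hα x hx
    refine cent_P cF hr (cm_of_comm (fun c hc => hc.1) fun p hp => ?_)
    have h1 : p * z = z * p := (cent_X_iff cF hr hz hz1).2 hp
    have h2 : α⁻¹ z = z := by
      have h3 : α⁻¹ (α z) = z := MulAut.inv_apply_self _ α z
      rwa [hα] at h3
    have h3 : α⁻¹ p ∈ RGD.Sup (XF K) (Ge cF isType.isCartan r) := by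
      refine (cent_X_iff cF hr hz hz1).1 ?_
      calc α⁻¹ p * z = α⁻¹ (p * z) := by rw [map_mul, h2]
        _ = z * α⁻¹ p := by rw [h1, map_mul, h2]
    have h4 := ((sysF (K := K) cF).lr hr).comm' h3 hx
    have h5 : α (α⁻¹ p) = p := MulAut.apply_inv_self _ α p
    calc α x * p = α x * α (α⁻¹ p) := by rw [h5]
      _ = p * α x := by rw [← map_mul, ← h4, map_mul, h5]
  intro x
  refine ⟨fun hx => ?_, key hα x⟩
  have h2 : α⁻¹ z = z := by
    have h3 : α⁻¹ (α z) = z := MulAut.inv_apply_self _ α z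
    rwa [hα] at h3
  have h4 := key h2 _ hx
  rwa [MulAut.inv_apply_self] at h4

/-- Sylow's theorem in an overgroup of `U` -/
theorem exists_fix_U {α : MulAut ↥(chevF4.group K)} {E : Subgroup ↥(chevF4.group K)}
    (hUE : RGD.Sup (XF K) (RGD.Pos cF isType.isCartan) ≤ E) (hα : ∀ x ∈ E, α x ∈ E) :
    ∃ e ∈ E, Fix (MulAut.conj e * α) (RGD.Sup (XF K) (RGD.Pos cF isType.isCartan)) := by
  have hf : Fact (Nat.Prime 2) := ⟨Nat.prime_two⟩
  obtain ⟨R, hR⟩ : ∃ R, R = rgd (K := K) isType cF 2 := ⟨_, rfl⟩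
  obtain ⟨U, hU⟩ : ∃ U, U = RGD.Sup (XF K) (RGD.Pos cF isType.isCartan) := ⟨_, rfl⟩
  have hU2 : IsPGroup 2 U := by rw [hU]; exact R.isPGroup_Upos
  have hmax : ∀ P : Subgroup ↥(chevF4.group K), U ≤ P → IsPGroup 2 P → P = U := by
    intro P hP hP2
    rw [hU] at hP ⊢
    exact eq_U R hP (by rw [GG_top cF]; exact le_top) hP2
  rw [← hU] at hUE ⊢
  obtain ⟨Q₁, hQ₁⟩ := (hU2.comap_of_injective E.subtype E.subtype_injective).exists_le_sylow
  have hU' : IsPGroup 2 (U.map α.toMonoidHom) := hU2.map _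
  obtain ⟨Q₂, hQ₂⟩ := (hU'.comap_of_injective E.subtype E.subtype_injective).exists_le_sylow
  obtain ⟨e, he⟩ := MulAction.exists_smul_eq ↥E Q₂ Q₁
  have h1 : (Q₁ : Subgroup ↥E).map E.subtype = U := by
    refine hmax _ (fun x hx => ⟨⟨x, hUE hx⟩, hQ₁ hx, rfl⟩) (Q₁.isPGroup'.map _)
  have h2 : ∀ x ∈ U, (e : ↥(chevF4.group K)) * α x * (e : ↥(chevF4.group K))⁻¹ ∈ U := by
    intro x hx
    have h3 : (⟨α x, hα x (hUE hx)⟩ : ↥E) ∈ (Q₂ : Subgroup ↥E) := hQ₂ (show α x ∈ U.map α.toMonoidHom from ⟨x, hx, rfl⟩)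
    have h4 : e * ⟨α x, hα x (hUE hx)⟩ * e⁻¹ ∈ (Q₁ : Subgroup ↥E) := by
      rw [← he]
      exact Subgroup.smul_mem_pointwise_smul _ (MulAut.conj e) (Q₂ : Subgroup ↥E) h3
    rw [← h1]
    exact ⟨_, h4, rfl⟩
  refine ⟨e, e.2, fix_iff.2 ?_⟩
  apply Subgroup.eq_of_le_of_card_ge
  · rintro _ ⟨x, hx, rfl⟩
    exact h2 x hx
  · rw [Nat.card_congr (U.equivMapOfInjective _ (MulAut.conj (e : ↥(chevF4.group K)) * α).injective).toEquiv.symm]

/-- **An automorphism fixing `ab` fixes or exchanges `X_{44}` and `X_{47}` (on `a`, `b`).** -/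
theorem aut_ab {a b : ↥(chevF4.group K)} (ha : a ∈ XF K (v 44)) (hb : b ∈ XF K (v 47)) (ha1 : a ≠ 1)
    (hb1 : b ≠ 1) {α : MulAut ↥(chevF4.group K)} (hα : α (a * b) = a * b) :
    (α a ∈ XF K (v 44) ∧ α b ∈ XF K (v 47)) ∨ (α a ∈ XF K (v 47) ∧ α b ∈ XF K (v 44)) := by
  obtain ⟨R, hR⟩ : ∃ R, R = rgd (K := K) isType cF 2 := ⟨_, rfl⟩
  have hG := GG_top (K := K) cF
  have h44 : IsRoot cF isType.isCartan (v 44) := isRoot_v cF (by norm_num)
  have h47 : IsRoot cF isType.isCartan (v 47) := isRoot_v cF (by norm_num)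
  have hUE : RGD.Sup (XF K) (RGD.Pos cF isType.isCartan) ≤ Subgroup.centralizer {a * b} := by
    intro u hu
    rw [Subgroup.mem_centralizer_singleton_iff]
    have h1 := pos_comm (Or.inr rfl) hu ha
    have h2 := pos_comm (Or.inl rfl) hu hb
    calc u * (a * b) = u * a * b := by group
      _ = a * (u * b) := by rw [h1]; group
      _ = a * b * u := by rw [h2]; group
  obtain ⟨e, he, hU⟩ := exists_fix_U (E := Subgroup.centralizer {a * b}) hUE (α := α) (by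
    intro x hx
    rw [Subgroup.mem_centralizer_singleton_iff] at hx ⊢
    rw [← hα, ← map_mul, hx, map_mul])
  rw [Subgroup.mem_centralizer_singleton_iff] at he
  obtain ⟨he44, he47⟩ := comm_of_ab ha hb ha1 hb1 he
  have he' : ∀ {r : Fin 4 → ℤ}, Dom r → e ∈ RGD.Sup (XF K) (Ge cF isType.isCartan r) := by
    intro r hr
    rcases hr with rfl | rfl
    · exact cent_X cF h47 hb hb1 he47
    · exact cent_X cF h44 ha ha1 he44
  obtain ⟨u, hu, hU', hB, hUN, hBN, hT⟩ := Cfsg.Agent.KFacts.RgdAut.exists_frame R hG hU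
  obtain ⟨β, hβ⟩ : ∃ β, β = MulAut.conj u * (MulAut.conj e * α) := ⟨_, rfl⟩
  rw [← hβ] at hU' hB hUN hBN hT
  obtain ⟨σ, D⟩ := exists_diag R hG hU' hUN
  obtain ⟨ρ, hρ, -, -⟩ := D.exists_rootMap R (D.matrix R)
  -- `ρ` preserves the dominant roots
  have hdom : ∀ {r : Fin 4 → ℤ}, Dom r → Dom (ρ r) := by
    intro r hr
    obtain ⟨h1, h2⟩ := hρ r hr.root
    obtain ⟨z, hz, hz1⟩ := X_ne (K := K) hr.root
    have h3 : β z ∈ XF K (ρ r) := (h2 z).2 hz
    have h4 : β z ≠ 1 := fun h => hz1 (by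
      have := congrArg β.symm h
      rwa [MulEquiv.symm_apply_apply, map_one] at this)
    refine dom_of_nonneg h1 fun i => nonneg_of_comm h1 (isRoot_sr cF _ i) h3 h4 fun x hx => ?_
    have h5 : x ∈ RGD.Sup (XF K) (RGD.Pos cF isType.isCartan) :=
      RGD.le_Sup (S := RGD.Pos cF isType.isCartan) ⟨isRoot_sr cF _ i, sr_nonneg i⟩ hx
    obtain ⟨y, rfl⟩ : ∃ y, β y = x := ⟨β.symm x, β.apply_symm_apply x⟩
    have h6 : y ∈ RGD.Sup (XF K) (RGD.Pos cF isType.isCartan) := (hU' y).1 h5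
    rw [← map_mul, pos_comm hr h6 hz, map_mul]
  have hne : ρ (v 44) ≠ ρ (v 47) := by
    intro h
    have h1 := (hρ _ h44).2
    rw [h] at h1
    have h2 : XF K (v 44) = XF K (v 47) := by
      ext y
      rw [← h1 y, (hρ _ h47).2 y]
    exact absurd (v_inj (by norm_num) (by norm_num) (X_injective R h44 h47 h2)) (by norm_num)
  -- back to `α`
  have hback : ∀ {r : Fin 4 → ℤ}, Dom r → ∀ x ∈ XF K r, α x ∈ XF K (ρ r) := by
    intro r hr x hx
    have h1 : β x ∈ XF K (ρ r) := ((hρ r hr.root).2 x).2 hx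
    have h2 : α x = (u * e)⁻¹ * β x * (u * e) := by
      rw [hβ]
      show α x = (u * e)⁻¹ * (u * (e * α x * e⁻¹) * u⁻¹) * (u * e)
      group
    have h3 : u * e * β x = β x * (u * e) := by
      have h4 := pos_comm (hdom hr) hu h1
      have h5 := ((sysF (K := K) cF).lr (hdom hr).root).comm' (he' (hdom hr)) h1
      calc u * e * β x = u * (e * β x) := by group
        _ = u * β x * e := by rw [h5]; group
        _ = β x * (u * e) := by rw [h4]; group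
    have h4 : α x = β x := by
      rw [h2]
      calc (u * e)⁻¹ * β x * (u * e) = (u * e)⁻¹ * (β x * (u * e)) := by group
        _ = β x := by rw [← h3]; group
    rw [h4]; exact h1
  have h1 := hback (Or.inr rfl) a ha
  have h2 := hback (Or.inl rfl) b hb
  rcases hdom (Or.inr rfl : Dom (v 44)) with h3 | h3 <;> rcases hdom (Or.inl rfl : Dom (v 47)) with h4 | h4
  · exact absurd (h3.trans h4.symm) hne
  · rw [h3] at h1; rw [h4] at h2; exact Or.inr ⟨h1, h2⟩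
  · rw [h3] at h1; rw [h4] at h2; exact Or.inl ⟨h1, h2⟩
  · exact absurd (h3.trans h4.symm) hne

end Cfsg.Agent.Omega.HOneEnd.FFour
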