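import Cfsg.Agent.Mrg.Omega.All.Basic
import Cfsg.Agent.KFacts.F4AutPair
import Cfsg.Agent.KFacts.RgdVJ


/-!
# `FFourDat` for `F₄(q)`, `q` even: definitions, root combinatorics

`j : F₄(K) →* G` injective; `r` one of the two dominant roots `v 47 = 2342` (long), `v 44 = 1232` (short);

* `XG j r` : the root group; `CG j r = ⟨X_c : 0 ≤ ⟨c,r⟩⟩` (`= C_{G₀}(X_r)`), `QG j r = ⟨X_c : 1 ≤ ⟨c,r⟩⟩`,
  `UG j r = ⟨X_c : c ∈ V7 r⟩`;
* `Emb j S Y` : the hypotheses: `G₀ = j(F₄(K)) ≤ Y ≤ N_G(G₀)`, `S ≤ Y` a 2-group, `S ∩ G₀ = j(U)`, `C_G(G₀) = 1`,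
  `S` normalises `X_r` for one of the two roots (no graph automorphisms).
-/

set_option autoImplicit false
set_option Elab.async false

namespace Cfsg.Agent.Omega.HOneEnd.FFour

open CoxeterSystem Cfsg.Agent.ChevalleyStructure.CoxeterGeom Cfsg.Agent.Tits.Roots Cfsg.Agent.Tits.Core
open Cfsg.Lie Cfsg.Agent.ChevalleyStructure Cfsg.Agent.ChevalleyStructure.Elts
  Cfsg.Agent.ChevalleyStructure.RootVec Cfsg.Agent.ChevalleyStructure.CoxeterGeomTypes
open Cfsg.Agent.Nodes Cfsg.Agent.Nodes.Reps Cfsg.Agent.Nodes.BNOf Cfsg.Agent.Nodes.RGDChev Cfsg.Agent.Nodes.Coroot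
  Cfsg.Agent.Nodes.KindF Cfsg.Agent.Nodes.Bruhat Cfsg.Agent.Nodes.OppDec Cfsg.Agent.Nodes.LeviDec
  Cfsg.Agent.KFacts.ChevTwo Cfsg.Agent.KFacts.ChevTwoTab
  Cfsg.Agent.KFacts.ChevTwoInst Cfsg.Agent.KFacts.RgdTI Cfsg.Agent.KFacts.RgdOdd
  Cfsg.Agent.KFacts.F4Star Cfsg.Agent.KFacts.F4Cent Cfsg.Agent.KFacts.F4Pair Cfsg.Agent.KFacts.F4Torus
  Cfsg.Agent.KFacts.F4Perf Cfsg.Agent.KFacts.F4Aut Cfsg.Agent.KFacts.F4AutPair

/-- the Coxeter system used -/
abbrev cF : CoxeterSystem CoxeterMatrix.F₄ CoxeterMatrix.F₄.Group := CoxeterMatrix.F₄.toCoxeterSystem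

theorem finW : Finite CoxeterMatrix.F₄.Group := finite_W isType cF

/-- the dominant roots -/
def Dom (r : Fin 4 → ℤ) : Prop := r = v 47 ∨ r = v 44

/-! ### Root combinatorics -/

theorem Dom.exists_idx {r : Fin 4 → ℤ} (hr : Dom r) : ∃ a : ℕ, a ∈ [47, 44] ∧ a < 48 ∧ v a = r := by
  rcases hr with rfl | rfl
  · exact ⟨47, by simp, by norm_num, rfl⟩
  · exact ⟨44, by simp, by norm_num, rfl⟩

theorem Dom.root {r : Fin 4 → ℤ} (hr : Dom r) : IsRoot cF isType.isCartan r := by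
  obtain ⟨a, -, ha, rfl⟩ := hr.exists_idx
  exact isRoot_v cF ha

theorem domChk : ([47, 44].all fun a => (List.range 48).all fun c =>
    decide (c < 24) || (nn a).testBit c) = true := by decide +kernel

theorem Dom.pos_sub {r : Fin 4 → ℤ} (hr : Dom r) : RGD.Pos cF isType.isCartan ⊆ Ge cF isType.isCartan r := by
  obtain ⟨a, ha', ha, rfl⟩ := hr.exists_idx
  intro x hx
  obtain ⟨c, hc, rfl⟩ := exists_v cF hx.1
  have h1 := List.all_eq_true.1 (List.all_eq_true.1 domChk a ha') c (List.mem_range.2 hc)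
  have h2 := (mem_pos_iff cF hc).1 hx
  rw [Bool.or_eq_true, decide_eq_true_eq] at h1
  exact (mem_Ge_v cF ha hc).2 (h1.resolve_left (by omega))

theorem radChk : ([47, 44].all fun a => (List.range 48).all fun c =>
    !(pp a).testBit c || decide (24 ≤ c)) = true := by decide +kernel

theorem mem_rad_v {a c : ℕ} (ha : a < 48) (hc : c < 48) :
    v c ∈ Rad cF isType.isCartan (v a) ↔ (pp a).testBit c = true := by
  rw [testBit_pp cF ha hc]
  exact ⟨fun h => h.2, fun h => ⟨isRoot_v cF hc, h⟩⟩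

theorem Dom.rad_sub {r : Fin 4 → ℤ} (hr : Dom r) : Rad cF isType.isCartan r ⊆ RGD.Pos cF isType.isCartan := by
  obtain ⟨a, ha', ha, rfl⟩ := hr.exists_idx
  intro x hx
  obtain ⟨c, hc, rfl⟩ := exists_v cF hx.1
  have h1 := List.all_eq_true.1 (List.all_eq_true.1 radChk a ha') c (List.mem_range.2 hc)
  rw [(mem_rad_v ha hc).1 hx, Bool.not_true, Bool.false_or, decide_eq_true_eq] at h1
  exact (mem_pos_iff cF hc).2 h1

theorem rad_sub_ge {r : Fin 4 → ℤ} : Rad cF isType.isCartan r ⊆ Ge cF isType.isCartan r :=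
  fun _ hx => ⟨hx.1, le_trans (by norm_num) hx.2⟩

theorem self_mem_rad {r : Fin 4 → ℤ} (hr : IsRoot cF isType.isCartan r) : r ∈ Rad cF isType.isCartan r := by
  have := finW
  exact ⟨hr, by rw [cpr_self cF _ hr]; norm_num⟩

theorem v7_sub_rad {r : Fin 4 → ℤ} (hr : IsRoot cF isType.isCartan r) : V7 cF r ⊆ Rad cF isType.isCartan r := by
  rintro x ⟨hx, rfl | h⟩
  · exact self_mem_rad hr
  · exact ⟨hx, h.2⟩

/-- the mask of `V7` -/
def v7M (a : ℕ) : ℕ := 2 ^ a ||| (pp a &&& (if longM.testBit a then shortM else longM))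

theorem mem_v7_v {a c : ℕ} (ha : a < 48) (hc : c < 48) : v c ∈ V7 cF (v a) ↔ (v7M a).testBit c = true := by
  have e1 : (v7M a).testBit c = true ↔ a = c ∨ ((pp a).testBit c = true ∧
      (if longM.testBit a then shortM else longM).testBit c = true) := by
    unfold v7M
    rw [Nat.testBit_lor, Nat.testBit_land, Bool.or_eq_true, Bool.and_eq_true, Nat.testBit_two_pow,
      decide_eq_true_iff]
  rw [e1]
  have h1 : (Lg cF (v c) ↔ Sh cF (v a)) ↔ (if longM.testBit a then shortM else longM).testBit c = true := by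
    by_cases hl : longM.testBit a = true
    · rw [if_pos hl, testBit_short cF hc]
      have h2 := (testBit_long cF ha).1 hl
      exact ⟨fun h => ⟨isRoot_v cF hc, fun h3 => (h.1 h3).2 h2⟩, fun h => ⟨fun h3 => absurd h3 h.2,
        fun h3 => absurd h2 h3.2⟩⟩
    · rw [if_neg hl, testBit_long cF hc]
      have h2 : Sh cF (v a) := (testBit_long_false cF ha).1 (Bool.eq_false_iff.2 hl)
      exact ⟨fun h => h.2 h2, fun h => ⟨fun _ => h2, fun _ => h⟩⟩
  rw [← h1, testBit_pp cF ha hc]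
  constructor
  · rintro ⟨-, h | h⟩
    · exact Or.inl (v_inj hc ha h).symm
    · exact Or.inr ⟨h.2, h.1⟩
  · rintro (rfl | h)
    · exact ⟨isRoot_v cF hc, Or.inl rfl⟩
    · exact ⟨isRoot_v cF hc, Or.inr ⟨h.2, h.1⟩⟩

theorem v7Chk : ([47, 44].all fun a => (List.range 48).all fun c => !(v7M a).testBit c ||
    (List.range 48).all fun d => !(pp a).testBit d || (nn c).testBit d) = true := by decide +kernel

theorem Dom.v7_comm {r : Fin 4 → ℤ} (hr : Dom r) {x y : Fin 4 → ℤ} (hx : x ∈ V7 cF r)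
    (hy : y ∈ Rad cF isType.isCartan r) : 0 ≤ cpr cF isType.isCartan y x := by
  obtain ⟨a, ha', ha, rfl⟩ := hr.exists_idx
  obtain ⟨c, hc, rfl⟩ := exists_v cF hx.1
  obtain ⟨d, hd, rfl⟩ := exists_v cF hy.1
  have h1 := List.all_eq_true.1 (List.all_eq_true.1 v7Chk a ha') c (List.mem_range.2 hc)
  rw [(mem_v7_v ha hc).1 hx, Bool.not_true, Bool.false_or] at h1
  have h2 := List.all_eq_true.1 h1 d (List.mem_range.2 hd)
  rw [(mem_rad_v ha hd).1 hy, Bool.not_true, Bool.false_or] at h2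
  exact (testBit_nn cF hc hd).1 h2

/-! ### The positive root groups, the Levi factor of the middle nodes -/

/-- the middle nodes -/
def JJ : Set (Fin 4) := {1, 2}

theorem notChk : ((List.range 48).all fun c => decide (c < 24) ||
    (decide (0 < rt chevF4 c 0 ∨ 0 < rt chevF4 c 3) == ((pp 47).testBit c || (pp 44).testBit c))) = true := by
  decide +kernel

theorem notJ_eq : StabComb.NotJ cF isType.isCartan JJ =
    Rad cF isType.isCartan (v 47) ∪ Rad cF isType.isCartan (v 44) := by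
  ext x
  have key : ∀ c < 48, 24 ≤ c → ((∃ k, k ∉ JJ ∧ 0 < v c k) ↔
      ((pp 47).testBit c = true ∨ (pp 44).testBit c = true)) := by
    intro c hc hc'
    have h1 := List.all_eq_true.1 notChk c (List.mem_range.2 hc)
    rw [Bool.or_eq_true, decide_eq_true_eq, beq_iff_eq] at h1
    have h2 := h1.resolve_left (by omega)
    rw [← Bool.or_eq_true, ← h2, decide_eq_true_eq]
    constructor
    · rintro ⟨k, hk, h3⟩
      have h4 : k = 0 ∨ k = 3 := by
        have h5 : ¬ (k = 1 ∨ k = 2) := hk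
        revert h5
        fin_cases k <;> simp
      rcases h4 with rfl | rfl
      · exact Or.inl h3
      · exact Or.inr h3
    · rintro (h3 | h3)
      · exact ⟨0, by unfold JJ; simp, h3⟩
      · exact ⟨3, by unfold JJ; decide, h3⟩
  constructor
  · rintro ⟨hx, h0, h1⟩
    obtain ⟨c, hc, rfl⟩ := exists_v cF hx
    have h2 := (mem_pos_iff cF hc).1 ⟨hx, h0⟩
    rcases (key c hc h2).1 h1 with h3 | h3
    · exact Or.inl ((mem_rad_v (by norm_num) hc).2 h3)
    · exact Or.inr ((mem_rad_v (by norm_num) hc).2 h3)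
  · intro hx
    have hp : x ∈ RGD.Pos cF isType.isCartan := by
      rcases hx with hx | hx
      · exact Dom.rad_sub (Or.inl rfl) hx
      · exact Dom.rad_sub (Or.inr rfl) hx
    obtain ⟨c, hc, rfl⟩ := exists_v cF hp.1
    refine ⟨hp.1, hp.2, (key c hc ((mem_pos_iff cF hc).1 hp)).2 ?_⟩
    rcases hx with hx | hx
    · exact Or.inl ((mem_rad_v (by norm_num) hc).1 hx)
    · exact Or.inr ((mem_rad_v (by norm_num) hc).1 hx)

theorem levChk : ((List.range 48).all fun c =>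
    !(decide (rt chevF4 c 0 = 0 ∧ rt chevF4 c 3 = 0)) || ((nn 47).testBit c && (nn 44).testBit c)) = true := by
  decide +kernel

theorem rootsJ_sub : StabComb.RootsJ cF isType.isCartan JJ ⊆
    Ge cF isType.isCartan (v 47) ∩ Ge cF isType.isCartan (v 44) := by
  rintro x ⟨hx, h1⟩
  obtain ⟨c, hc, rfl⟩ := exists_v cF hx
  have h2 := List.all_eq_true.1 levChk c (List.mem_range.2 hc)
  have h3 : rt chevF4 c 0 = 0 ∧ rt chevF4 c 3 = 0 :=
    ⟨h1 0 (by unfold JJ; simp), h1 3 (by unfold JJ; decide)⟩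
  rw [Bool.or_eq_true, Bool.not_eq_true', decide_eq_false_iff_not, Bool.and_eq_true] at h2
  have h4 := h2.resolve_left (not_not.2 h3)
  exact ⟨(mem_Ge_v cF (by norm_num) hc).2 h4.1, (mem_Ge_v cF (by norm_num) hc).2 h4.2⟩

/-! ### Definitions -/

section Defs

variable {K : Type*} [Field K] [Finite K] [CharP K 2] {G : Type*} [Group G] (j : ↥(chevF4.group K) →* G)

/-- `⟨X_c : c ∈ A⟩` -/
def SG (A : Set (Fin 4 → ℤ)) : Subgroup G := (RGD.Sup (XF K) A).map j

/-- `X_r` -/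
def XG (r : Fin 4 → ℤ) : Subgroup G := (XF K r).map j

/-- `O₂(C_{G₀}(X_r))` -/
def QG (r : Fin 4 → ℤ) : Subgroup G := SG j (Rad cF isType.isCartan r)

/-- `Z(O₂(C_{G₀}(X_r)))` -/
def UG (r : Fin 4 → ℤ) : Subgroup G := SG j (V7 cF r)

/-- `C_{G₀}(X_r)` -/
def CG (r : Fin 4 → ℤ) : Subgroup G := SG j (Ge cF isType.isCartan r)

/-- `G₀ = j(F₄(K)) ≤ Y ≤ N_G(G₀)`, `S ≤ Y` a 2-group with `S ∩ G₀ = j(U)`. -/
structure Emb (S Y : Subgroup G) : Prop where
  inj : Function.Injective j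
  two : IsPGroup 2 S
  S_Y : S ≤ Y
  G_Y : j.range ≤ Y
  Y_G : Y ≤ Subgroup.normalizer (j.range : Set G)
  S₀ : S ⊓ j.range = SG j (RGD.Pos cF isType.isCartan)
  cent : ∀ g : G, (∀ x, g * j x = j x * g) → g = 1
  /-- no graph automorphisms -/
  len : ∃ r, Dom r ∧ S ≤ Subgroup.normalizer (XG j r : Set G)

end Defs

end Cfsg.Agent.Omega.HOneEnd.FFour
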