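import Cfsg.Agent.Mrg.Omega.HOneEnd.FFourDefs
import Cfsg.Agent.Mrg.Omega.All.F4K.Both


/-!
# `FFourDat` for `F₄(q)`, `q` even: `irr`, `comm`, `typ`, `mix`, the torus (helper866)

`j : F₄(K) →* G` injective, `r` dominant (`Dom r`).

* `tor_mem_CG`   : the elements of the torus which centralise `X_r` lie in `CG j r`;
* `UG_eq`, `comm_QG`, `irr_QG`, `typ_UG`, `mix_s`, `mix_l`, `torus_pair_conj`.
-/

set_option autoImplicit false
set_option Elab.async false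

namespace Cfsg.Agent.Omega.HOneEnd.FFour

open CoxeterSystem Cfsg.Agent.ChevalleyStructure.CoxeterGeom Cfsg.Agent.Tits.Roots Cfsg.Agent.Tits.Core
open Cfsg.Lie Cfsg.Agent.ChevalleyStructure Cfsg.Agent.ChevalleyStructure.Elts
  Cfsg.Agent.ChevalleyStructure.RootVec Cfsg.Agent.ChevalleyStructure.CoxeterGeomTypes
open Cfsg.Agent.Nodes Cfsg.Agent.Nodes.Reps Cfsg.Agent.Nodes.BNOf Cfsg.Agent.Nodes.RGDChev Cfsg.Agent.Nodes.Coroot
  Cfsg.Agent.Nodes.KindF Cfsg.Agent.Nodes.Bruhat Cfsg.Agent.Nodes.OppDec Cfsg.Agent.Nodes.LeviDec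
  Cfsg.Agent.KFacts.ChevTwo Cfsg.Agent.KFacts.ChevTwoTab
  Cfsg.Agent.KFacts.ChevTwoInst Cfsg.Agent.KFacts.RgdTI Cfsg.Agent.KFacts.RgdOdd
  Cfsg.Agent.KFacts.F4Star Cfsg.Agent.KFacts.F4Cent Cfsg.Agent.KFacts.F4Pair Cfsg.Agent.KFacts.F4Torus
open Cfsg.Agent.OddHalf.D7F4 (Model.rts)
open Cfsg.Agent.OddHalf.D7F4Ex (chd s0 s0_mem)
open Cfsg.Agent.KFacts.F4Chart (torH torH_mem torH_conj)
open Cfsg.Agent.KFacts.F4Model (phi_iff mem_X cpr_nonneg_iff cpr_pos_iff' lg_iff sh_iff)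
open Cfsg.Agent.Omega.All.F4K
open scoped commutatorElement

/-! ### Root combinatorics -/

theorem v47_rho : v 47 = rho := by decide +kernel
theorem v44_s0 : v 44 = s0 := by decide +kernel

theorem ge_iff {r : Fin 4 → ℤ} (hr : r ∈ Model.rts) {a : Fin 4 → ℤ} (ha : a ∈ Model.rts) :
    a ∈ AP r ↔ a ∈ Ge cF isType.isCartan r := by
  show 0 ≤ OddHalf.D7F4.Model.B r a ↔ IsRoot cF isType.isCartan a ∧ 0 ≤ cpr cF isType.isCartan a r
  rw [cpr_nonneg_iff cF ha hr, OddHalf.D7F4.Model.B_symm r a]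
  exact ⟨fun h => ⟨(phi_iff cF a).1 ha, h⟩, fun h => h.2⟩

theorem rad_iff {r : Fin 4 → ℤ} (hr : r ∈ Model.rts) {a : Fin 4 → ℤ} (ha : a ∈ Model.rts) :
    a ∈ AQ r ↔ a ∈ Rad cF isType.isCartan r := by
  show 0 < OddHalf.D7F4.Model.B r a ↔ IsRoot cF isType.isCartan a ∧ 1 ≤ cpr cF isType.isCartan a r
  rw [cpr_pos_iff' cF ha hr, OddHalf.D7F4.Model.B_symm r a]
  exact ⟨fun h => ⟨(phi_iff cF a).1 ha, h⟩, fun h => h.2⟩

theorem v7_iff {r : Fin 4 → ℤ} (hr : r ∈ Model.rts) {a : Fin 4 → ℤ} (ha : a ∈ Model.rts) :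
    a ∈ AU r ↔ a ∈ V7 cF r := by
  show a = r ∨ (OddHalf.D7F4.Model.B a a ≠ OddHalf.D7F4.Model.B r r ∧ 0 < OddHalf.D7F4.Model.B r a) ↔
    IsRoot cF isType.isCartan a ∧ (a = r ∨ ((Lg cF a ↔ Sh cF r) ∧ 1 ≤ cpr cF isType.isCartan a r))
  rw [cpr_pos_iff' cF ha hr, OddHalf.D7F4.Model.B_symm r a, lg_iff cF ha, sh_iff cF hr]
  have h1 := OddHalf.D7F4.Model.norm a ha
  have h2 := OddHalf.D7F4.Model.norm r hr
  have h3 : (OddHalf.D7F4.Model.B a a ≠ OddHalf.D7F4.Model.B r r) ↔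
      (OddHalf.D7F4.Model.B a a = 4 ↔ OddHalf.D7F4.Model.B r r = 2) := by
    rcases h1 with h1 | h1 <;> rcases h2 with h2 | h2 <;> rw [h1, h2] <;> norm_num
  rw [h3]
  exact ⟨fun h => ⟨(phi_iff cF a).1 ha, h⟩, fun h => h.2⟩

theorem Dom.mem {r : Fin 4 → ℤ} (hr : Dom r) : r ∈ Model.rts := (phi_iff cF r).2 hr.root

section

variable {K : Type*} [Field K] [Finite K] [CharP K 2] {G : Type*} [Group G] (j : ↥(chevF4.group K) →* G)

/-- the root elements in `G` -/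
noncomputable abbrev EG (a : Fin 4 → ℤ) (u : K) : G := j (eF K a u)

theorem SE_eq {A A' : Set (Fin 4 → ℤ)} (h : ∀ a ∈ Model.rts, a ∈ A ↔ a ∈ A')
    (h' : ∀ a ∈ A', IsRoot cF isType.isCartan a) : SE (EG j) A = SG j A' := by
  apply le_antisymm
  · refine SE_le _ fun a ha hA u => ?_
    exact ⟨_, RGD.le_Sup ((h a ha).1 hA) ((mem_X ha).2 ⟨u, rfl⟩), rfl⟩
  · unfold SG
    rw [Subgroup.map_le_iff_le_comap]
    refine RGD.Sup_le fun a ha x hx => ?_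
    have ha' := (phi_iff cF a).2 (h' a ha)
    obtain ⟨u, rfl⟩ := (mem_X ha').1 hx
    exact E_mem (EG j) ha' ((h a ha').2 ha) u

omit [Finite K] [CharP K 2] in
theorem SG_singleton (r : Fin 4 → ℤ) : SG j {r} = XG j r := by
  unfold SG XG
  congr 1
  exact le_antisymm (RGD.Sup_le fun z hz => by rw [Set.mem_singleton_iff.1 hz]) (RGD.le_Sup rfl)

theorem SE_X {r : Fin 4 → ℤ} (hr : Dom r) : SE (EG j) {r} = XG j r := by
  rw [← SG_singleton]
  exact SE_eq j (fun _ _ => Iff.rfl) fun a ha => by rw [Set.mem_singleton_iff.1 ha]; exact hr.root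

theorem SE_Q {r : Fin 4 → ℤ} (hr : Dom r) : SE (EG j) (AQ r) = QG j r :=
  SE_eq j (fun _ ha => rad_iff hr.mem ha) fun _ ha => ha.1

theorem SE_U {r : Fin 4 → ℤ} (hr : Dom r) : SE (EG j) (AU r) = UG j r :=
  SE_eq j (fun _ ha => v7_iff hr.mem ha) fun _ ha => ha.1

theorem SE_C {r : Fin 4 → ℤ} (hr : Dom r) : SE (EG j) (AP r) = CG j r :=
  SE_eq j (fun _ ha => ge_iff hr.mem ha) fun _ ha => ha.1

/-! ### The torus elements centralising `X_r` -/

theorem pairChk47 : ∀ i, pairing (cartanOf chevF4 4) i (v 47) = if i = 3 then 1 else 0 := by decide +kernel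

theorem pairChk44 : ∀ i, pairing (cartanOf chevF4 4) i (v 44) = if i = 0 then 1 else 0 := by decide +kernel

theorem hel_mem_Ge {r : Fin 4 → ℤ} (hr : IsRoot cF isType.isCartan r) {i : Fin 4}
    (hi : pairing (cartanOf chevF4 4) i r = 0) (c : K) :
    hel (eF K) (sr i) c ∈ RGD.Sup (XF K) (Ge cF isType.isCartan r) := by
  have hW := finW
  have hsr := isRoot_sr cF isType.isCartan i
  have h0 : cpr cF isType.isCartan (sr i) r = 0 := by
    rw [← cpr_zero_comm cF isType.isCartan hr hsr, cpr_sr]; exact hi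
  have hn : IsRoot cF isType.isCartan (-sr i) := hsr.neg
  have m1 : sr i ∈ Ge cF isType.isCartan r := ⟨hsr, h0.ge⟩
  have m2 : -sr i ∈ Ge cF isType.isCartan r := ⟨hn, by rw [cpr_neg cF isType.isCartan _ hr, h0, neg_zero]⟩
  have h1 : ∀ u, eF K (sr i) u ∈ RGD.Sup (XF K) (Ge cF isType.isCartan r) := fun u =>
    RGD.le_Sup m1 ((mem_X ((phi_iff cF _).2 hsr)).2 ⟨u, rfl⟩)
  have h2 : ∀ u, eF K (-sr i) u ∈ RGD.Sup (XF K) (Ge cF isType.isCartan r) := fun u =>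
    RGD.le_Sup m2 ((mem_X ((phi_iff cF _).2 hn)).2 ⟨u, rfl⟩)
  unfold hel nel nc
  exact mul_mem (mul_mem (mul_mem (h1 _) (h2 _)) (h1 _)) (mul_mem (mul_mem (h1 _) (h2 _)) (h1 _))

theorem hel_one (i : Fin 4) : hel (eF K) (sr i) 1 = 1 := by
  have hW := finW
  have D := (sysF (K := K) cF).data
  refine eq_one_of_comm cF fun x hx u => ?_
  have h1 := D.hel_conj hx (isRoot_sr cF isType.isCartan i) (one_ne_zero (α := K)) (t := u)
  rw [one_zpow, one_mul] at h1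
  exact mul_inv_eq_iff_eq_mul.1 h1

omit [Finite K] [CharP K 2] in
/-- the character of `hprod c` on a dominant root -/
theorem hchi_dom (c : Fin 4 → Kˣ) {r : Fin 4 → ℤ} {k : Fin 4}
    (h : ∀ i, pairing (cartanOf chevF4 4) i r = if i = k then 1 else 0) : (hchi c r).toMul = c k := by
  rw [hchi_apply, Finset.sum_eq_single k]
  · rw [h, if_pos rfl, one_smul]; rfl
  · intro i _ hi
    rw [h, if_neg hi, zero_smul]
  · intro h; exact absurd (Finset.mem_univ k) h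

theorem tor_mem_aux {r : Fin 4 → ℤ} (hr : IsRoot cF isType.isCartan r) {k : Fin 4}
    (h : ∀ i, pairing (cartanOf chevF4 4) i r = if i = k then 1 else 0) {t : ↥(chevF4.group K)} (ht : t ∈ TF K)
    (h1 : t * eF K r 1 * t⁻¹ = eF K r 1) : t ∈ RGD.Sup (XF K) (Ge cF isType.isCartan r) := by
  obtain ⟨c, rfl⟩ := exists_hel cF ht
  rw [hprod_conj cF c hr, mul_one, hchi_dom c h] at h1
  have h2 : c k = 1 := by
    have hW := finW
    have D := (sysF (K := K) cF).data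
    have h4 := D.inj r hr ((c k : K) + 1) (by
      rw [D.add r hr, h1, ← D.add r hr, D.two, D.zero hr])
    exact Units.ext ((CharTwo.add_eq_zero).1 h4)
  have h3 : ∀ i, hel (eF K) (sr i) (c i) ∈ RGD.Sup (XF K) (Ge cF isType.isCartan r) := by
    intro i
    by_cases hi : i = k
    · rw [hi, h2, Units.val_one, hel_one]; exact one_mem _
    · exact hel_mem_Ge hr (by rw [h, if_neg hi]) _
  unfold hprod
  exact mul_mem (mul_mem (mul_mem (h3 0) (h3 1)) (h3 2)) (h3 3)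

/-- **The elements of the torus which centralise `X_r`.** -/
theorem tor_mem {r : Fin 4 → ℤ} (hr : Dom r) {t : ↥(chevF4.group K)} (ht : t ∈ TF K)
    (h1 : t * eF K r 1 * t⁻¹ = eF K r 1) : t ∈ RGD.Sup (XF K) (Ge cF isType.isCartan r) := by
  rcases hr with rfl | rfl
  · exact tor_mem_aux (Dom.root (Or.inl rfl)) pairChk47 ht h1
  · exact tor_mem_aux (Dom.root (Or.inr rfl)) pairChk44 ht h1

theorem torH_mem_CG {r : Fin 4 → ℤ} (hr : Dom r) {ν : Fin 4 → Kˣ} (h : chd ν r = 1) :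
    (j.comp (torH K)) ν ∈ CG j r := by
  refine ⟨torH K ν, tor_mem hr (torH_mem ν) ?_, rfl⟩
  rw [torH_conj ν hr.mem, h, Units.val_one, one_mul]

theorem EG_mem_CG {r : Fin 4 → ℤ} (hr : Dom r) {a : Fin 4 → ℤ} (ha : a ∈ Model.rts)
    (h : 0 ≤ OddHalf.D7F4.Model.B r a) (u : K) : EG j a u ∈ CG j r := by
  rw [← SE_C j hr]
  exact E_mem _ ha h u

/-! ### The chart -/

variable {j} (hj : Function.Injective j)

/-- the inverse Frobenius -/
theorem exists_rt : ∃ rt : K ≃+* K, ∀ t, rt t ^ 2 = t := by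
  have h1 : Function.Bijective (frobenius K 2) :=
    ⟨frobenius_inj K 2, Finite.surjective_of_injective (frobenius_inj K 2)⟩
  refine ⟨(RingEquiv.ofBijective (frobenius K 2) h1).symm, fun t => ?_⟩
  exact (RingEquiv.ofBijective (frobenius K 2) h1).apply_symm_apply t

theorem parS : ChartA.ParS (EG j) (j.comp (torH K)) (CG j (v 44)) where
  E_mem a ha h u := EG_mem_CG j (Or.inr rfl) ha (by rw [v44_s0]; exact h) u
  T_mem ν h := torH_mem_CG j (Or.inr rfl) (by rw [v44_s0]; exact h)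

theorem parL : ChartA.ParL (EG j) (j.comp (torH K)) (CG j (v 47)) where
  E_mem a ha h u := EG_mem_CG j (Or.inl rfl) ha (by rw [v47_rho]; exact h) u
  T_mem ν h := torH_mem_CG j (Or.inl rfl) (by rw [v47_rho]; exact h)

include hj

theorem chA : ChartA (EG j) (j.comp (torH K)) := Cfsg.Agent.Omega.All.F4K.chart hj

/-! ### The fields -/

theorem comm_QG {r : Fin 4 → ℤ} (hr : Dom r) : ⁅QG j r, QG j r⁆ = XG j r := by
  rw [← SE_Q j hr, ← SE_X j hr]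
  rcases hr with rfl | rfl
  · obtain ⟨rt, hrt⟩ := exists_rt (K := K)
    rw [v47_rho]
    exact (chA hj).comm_l rt hrt
  · rw [v44_s0]
    exact (chA hj).comm_s

theorem UG_eq {r : Fin 4 → ℤ} (hr : Dom r) : UG j r = QG j r ⊓ Subgroup.centralizer (QG j r : Set G) := by
  rw [← SE_Q j hr, ← SE_U j hr]
  rcases hr with rfl | rfl
  · obtain ⟨rt, hrt⟩ := exists_rt (K := K)
    rw [v47_rho]
    exact (chA hj).V_eq_l rt hrt
  · rw [v44_s0]
    exact (chA hj).V_eq_s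

theorem irr_QG {r : Fin 4 → ℤ} (hr : Dom r) : ∀ T : Subgroup G, T ≤ QG j r →
    CG j r ≤ Subgroup.normalizer (T : Set G) → QG j r ⊓ Subgroup.centralizer (T : Set G) ≤ T → T = QG j r := by
  rw [← SE_Q j hr]
  rcases hr with rfl | rfl
  · obtain ⟨rt, hrt⟩ := exists_rt (K := K)
    have h := (chA hj).irr_l rt hrt parL
    rw [← v47_rho] at h
    exact h
  · have h := (chA hj).irr_s parS
    rw [← v44_s0] at h
    exact h

theorem typ_UG {Y Z : Subgroup G} (hY : j.range ≤ Y) (hZ : ∀ r, Dom r → ∃ z ∈ XG j r, z ∈ Z ∧ z ≠ 1)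
    {r : Fin 4 → ℤ} (hr : Dom r) : ∀ u ∈ UG j r, ∃ y ∈ Y, y * u * y⁻¹ ∈ Z := by
  obtain ⟨zs, hs, hsZ, hs1⟩ := hZ _ (Or.inr rfl)
  obtain ⟨zl, hl, hlZ, hl1⟩ := hZ _ (Or.inl rfl)
  rw [← SE_X j (Or.inr rfl), v44_s0] at hs
  rw [← SE_X j (Or.inl rfl), v47_rho] at hl
  have hT : ∀ ν, (j.comp (torH K)) ν ∈ Y := fun ν => hY ⟨torH K ν, rfl⟩
  rw [← SE_U j hr]
  rcases hr with rfl | rfl
  · obtain ⟨rt, hrt⟩ := exists_rt (K := K)
    have h := (chA hj).typ_l rt hrt parL ((Subgroup.map_le_range j _).trans hY) hT hs hsZ hs1 hl hlZ hl1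
    rw [← v47_rho] at h
    exact h
  · have h := (chA hj).typ_s parS ((Subgroup.map_le_range j _).trans hY) hT hs hsZ hs1 hl hlZ hl1
    rw [← v44_s0] at h
    exact h

theorem mix_G {r : Fin 4 → ℤ} (hr : Dom r) : ∀ v ∈ QG j r, v ∉ UG j r → ∀ x ∈ XG j r,
    ∃ y ∈ QG j r, y * v * y⁻¹ = v * x := by
  rw [← SE_Q j hr, ← SE_U j hr, ← SE_X j hr]
  rcases hr with rfl | rfl
  · obtain ⟨rt, hrt⟩ := exists_rt (K := K)
    rw [v47_rho]
    exact (chA hj).mix_l rt hrt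
  · rw [v44_s0]
    exact (chA hj).mix_s

/-- the torus acts transitively on the pairs `(x, y) ∈ X_s# × X_l#` and normalises every `SG j A` -/
theorem torus_G {x x' y y' : G} (hx : x ∈ XG j (v 44)) (hx' : x' ∈ XG j (v 44)) (hy : y ∈ XG j (v 47))
    (hy' : y' ∈ XG j (v 47)) (h1 : x ≠ 1) (h1' : x' ≠ 1) (h2 : y ≠ 1) (h2' : y' ≠ 1) :
    ∃ t ∈ TF K, j t * x * (j t)⁻¹ = x' ∧ j t * y * (j t)⁻¹ = y' := by
  have C := chA hj
  rw [← SE_X j (Or.inr rfl), v44_s0] at hx hx'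
  rw [← SE_X j (Or.inl rfl), v47_rho] at hy hy'
  obtain ⟨a, rfl⟩ := (C.mem_SE_singleton s0_mem).1 hx
  obtain ⟨a', rfl⟩ := (C.mem_SE_singleton s0_mem).1 hx'
  obtain ⟨b, rfl⟩ := (C.mem_SE_singleton rho_mem).1 hy
  obtain ⟨b', rfl⟩ := (C.mem_SE_singleton rho_mem).1 hy'
  obtain ⟨ν, h3, h4⟩ := C.torus (u := a) (u' := a') (w := b) (w' := b')
    (fun h => h1 (by rw [h, C.zero s0_mem])) (fun h => h1' (by rw [h, C.zero s0_mem]))
    (fun h => h2 (by rw [h, C.zero rho_mem])) (fun h => h2' (by rw [h, C.zero rho_mem]))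
  exact ⟨torH K ν, torH_mem ν, h3, h4⟩

theorem XG_ne {r : Fin 4 → ℤ} (hr : Dom r) : XG j r ≠ ⊥ := by
  rw [← SE_X j hr]
  intro h
  have h1 : EG j r 1 ∈ SE (EG j) {r} := E_mem _ hr.mem (Set.mem_singleton _) 1
  rw [h, Subgroup.mem_bot] at h1
  exact one_ne_zero ((chA hj).inj r hr.mem 1 h1)

theorem XG_sq {r : Fin 4 → ℤ} (hr : Dom r) : ∀ x ∈ XG j r, x * x = 1 := by
  intro x hx
  rw [← SE_X j hr] at hx
  obtain ⟨u, rfl⟩ := ((chA hj).mem_SE_singleton hr.mem).1 hx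
  have h1 := (chA hj).add r hr.mem u u
  rw [(chA hj).two, (chA hj).zero hr.mem] at h1
  exact h1.symm

/-- **The field `typ`.** -/
theorem typ_zc [Finite G] {S Y : Subgroup G} (hS : IsPGroup 2 S) (hY : j.range ≤ Y)
    (hXS : ∀ r, Dom r → XG j r ≤ S) (hSX : ∀ r, Dom r → S ≤ Subgroup.normalizer (XG j r : Set G))
    {r : Fin 4 → ℤ} (hr : Dom r) : ∀ u ∈ UG j r, ∃ y ∈ Y, y * u * y⁻¹ ∈ Cfsg.Agent.ZN.zc S := by
  refine typ_UG hj hY (fun r hr => ?_) hr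
  obtain ⟨z, h1, h2, h3⟩ := Cfsg.Agent.Omega.All.exists_zc_mem hS (hXS r hr) (hSX r hr) (XG_sq hj hr) (XG_ne hj hr)
  exact ⟨z, h2, h1, h3⟩

end

end Cfsg.Agent.Omega.HOneEnd.FFour
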