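import Cfsg.Agent.Mrg.Omega.HOneEnd.FFourSide
import Cfsg.Agent.Mrg.Omega.HOneEnd.FFourTyp
import Cfsg.Agent.Mrg.Omega.All.Basic


/-!
# `FFourG` for `F₄(q)`, `q` even, with graph elements: `perm`, `trans2`, `mixQ` (helper866)

`EmbG j S Y` : the hypotheses of `Emb` without `len`.

* `EmbG.emb` : `Emb j (S ⊓ N(X_s)) Y`;
* `EmbG.perm_X` : an element of `S` normalises `X_l`, `X_s` or exchanges them;
* `EmbG.perm`   : the field `perm`;
* `trans2_G`, `mixQ_G` : the fields `trans2`, `mixQ_s`, `mixQ_l`.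
-/

set_option autoImplicit false
set_option Elab.async false
set_option linter.unusedSectionVars false

namespace Cfsg.Agent.Omega.HOneEnd.FFour

open CoxeterSystem Cfsg.Agent.ChevalleyStructure.CoxeterGeom Cfsg.Agent.Tits.Roots Cfsg.Agent.Tits.Core
open Cfsg.Lie Cfsg.Agent.ChevalleyStructure Cfsg.Agent.ChevalleyStructure.Elts
  Cfsg.Agent.ChevalleyStructure.RootVec Cfsg.Agent.ChevalleyStructure.CoxeterGeomTypes
open Cfsg.Agent.Nodes Cfsg.Agent.Nodes.Reps Cfsg.Agent.Nodes.BNOf Cfsg.Agent.Nodes.RGDChev Cfsg.Agent.Nodes.Coroot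
  Cfsg.Agent.Nodes.KindF Cfsg.Agent.Nodes.Bruhat Cfsg.Agent.Nodes.OppDec Cfsg.Agent.Nodes.LeviDec
  Cfsg.Agent.Nodes.NormalForm Cfsg.Agent.KFacts.ChevTwo Cfsg.Agent.KFacts.ChevTwoTab
  Cfsg.Agent.KFacts.ChevTwoInst Cfsg.Agent.KFacts.RgdTI Cfsg.Agent.KFacts.RgdAut Cfsg.Agent.KFacts.RgdDiag
  Cfsg.Agent.KFacts.RgdRigid Cfsg.Agent.KFacts.RgdField Cfsg.Agent.KFacts.RgdTau Cfsg.Agent.KFacts.RgdSys
  Cfsg.Agent.KFacts.RgdAutFacts Cfsg.Agent.KFacts.RgdGraphF4 Cfsg.Agent.KFacts.RgdOver Cfsg.Agent.KFacts.RgdFixU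
  Cfsg.Agent.KFacts.F4Star Cfsg.Agent.KFacts.F4Cent Cfsg.Agent.KFacts.F4Pair Cfsg.Agent.KFacts.F4Torus
  Cfsg.Agent.KFacts.F4Perf Cfsg.Agent.KFacts.F4Aut
open Cfsg.Agent.OddHalf.D7F4 (Model.rts)
open Cfsg.Agent.KFacts.F4Model (phi_iff)

universe u v

/-! ### The roots `v 47`, `v 44` -/

theorem vA : v 47 = ![2, 4, 3, 2] := by decide +kernel
theorem vB : v 44 = ![2, 3, 2, 1] := by decide +kernel

theorem tabZ : ∀ z ∈ Model.rts, z 0 = 2 * (z 1 - z 2) → z 0 = 2 * (z 2 - z 3) → z 0 < 2 * z 3 → ¬ z 3 < z 0 := by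
  decide +kernel

theorem closedZ : Unique.Closed cF isType.isCartan {v 47, v 44} := by
  have hW := finW
  have key : ∀ z, IsRoot cF isType.isCartan z → ∀ m a b : ℤ, 0 < m → 0 < a → 0 < b →
      m • z = a • v 47 + b • v 44 → False := by
    intro z hz m a b hm ha hb he
    rw [vA, vB] at he
    have e0 : m * z 0 = a * 2 + b * 2 := congrFun he 0
    have e1 : m * z 1 = a * 4 + b * 3 := congrFun he 1
    have e2 : m * z 2 = a * 3 + b * 2 := congrFun he 2
    have e3 : m * z 3 = a * 2 + b * 1 := congrFun he 3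
    refine tabZ z ((phi_iff cF z).2 hz) ?_ ?_ ?_ ?_
    · exact mul_left_cancel₀ hm.ne' (by linear_combination e0 - 2 * e1 + 2 * e2)
    · exact mul_left_cancel₀ hm.ne' (by linear_combination e0 - 2 * e2 + 2 * e3)
    · exact lt_of_mul_lt_mul_left (a := m) (by nlinarith) hm.le
    · exact lt_of_mul_lt_mul_left (a := m) (by nlinarith) hm.le
  rintro x hx y hy z hz
  have hxx : ∀ w, IsRoot cF isType.isCartan w → Btwn cF isType.isCartan w w z → z = w := fun w hw h =>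
    KFacts.RgdInd.closed_singleton hw w rfl w rfl z h
  obtain ⟨hz', m, a, b, hm, ha, hb, he⟩ := hz
  rcases hx with rfl | hx <;> rcases hy with rfl | hy
  · exact Or.inl (hxx _ (Dom.root (Or.inl rfl)) ⟨hz', m, a, b, hm, ha, hb, he⟩)
  · rw [Set.mem_singleton_iff] at hy
    subst hy
    exact (key z hz' m a b hm ha hb he).elim
  · rw [Set.mem_singleton_iff] at hx
    subst hx
    exact (key z hz' m b a hm hb ha (by rw [he, add_comm])).elim
  · rw [Set.mem_singleton_iff] at hx hy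
    subst hx
    subst hy
    exact Or.inr (hxx _ (Dom.root (Or.inr rfl)) ⟨hz', m, a, b, hm, ha, hb, he⟩)

section K

variable {K : Type v} [Field K] [Finite K] [CharP K 2]

/-- the height -/
def hgt : (Fin 4 → ℤ) →+ ℤ where
  toFun x := x 0 + x 1 + x 2 + x 3
  map_zero' := rfl
  map_add' x y := by simp only [Pi.add_apply]; ring

theorem hgt_pos {x : Fin 4 → ℤ} (hx : x ∈ RGD.Pos cF isType.isCartan) : 0 < hgt x := by
  have h0 : ∀ i, 0 ≤ x i := fun i => hx.2 i
  by_contra hc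
  have h1 : x 0 + x 1 + x 2 + x 3 ≤ 0 := not_lt.1 hc
  have h2 : x = 0 := by
    funext i
    have := h0 0
    have := h0 1
    have := h0 2
    have := h0 3
    fin_cases i <;> simp <;> omega
  have hW := finW
  have h3 := Cfsg.Agent.OddHalf.D7F4.Model.norm x ((phi_iff cF x).2 hx.1)
  rw [h2] at h3
  revert h3
  decide

/-- a positive root group which meets `X₄₇ X₄₄` -/
theorem dom_of_mem {x : Fin 4 → ℤ} (hx : x ∈ RGD.Pos cF isType.isCartan) {z : ↥(chevF4.group K)} (hz : z ∈ XF K x)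
    (hz1 : z ≠ 1) (h : z ∈ RGD.Sup (XF K) {v 47, v 44}) : Dom x := by
  have hW := finW
  have : Fact (Nat.Prime 2) := ⟨Nat.prime_two⟩
  by_contra hD
  have h1 := Cfsg.Agent.KFacts.RgdInd.inf_eq_of_pos (rgd (K := K) isType cF 2) hgt (S := {x}) (S' := {v 47, v 44})
    (by intro w hw; rw [Set.mem_singleton_iff] at hw; rw [hw]; exact ⟨hx.1, hgt_pos hx⟩)
    (by
      intro w hw
      have hw' : Dom w := hw
      have h2 : w ∈ RGD.Pos cF isType.isCartan := hw'.rad_sub (self_mem_rad hw'.root)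
      exact ⟨h2.1, hgt_pos h2⟩)
    (Cfsg.Agent.KFacts.RgdInd.closed_singleton hx.1) closedZ
  have h2 : z ∈ RGD.Sup (XF K) {x} ⊓ RGD.Sup (XF K) {v 47, v 44} :=
    Subgroup.mem_inf.2 ⟨RGD.le_Sup (S := {x}) rfl hz, h⟩
  rw [h1] at h2
  have h3 : ({x} ∩ {v 47, v 44} : Set (Fin 4 → ℤ)) = ∅ := by
    ext w
    constructor
    · rintro ⟨hw, h4⟩
      rw [Set.mem_singleton_iff] at hw
      exact (hD (hw ▸ h4)).elim
    · intro h4; exact h4.elim
  rw [h3] at h2
  exact hz1 (Subgroup.mem_bot.1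
    ((RGD.Sup_le fun z hz => absurd hz (Set.notMem_empty z) : RGD.Sup (XF K) ∅ ≤ ⊥) h2))

/-- `X_x ≤ U` only for positive `x` -/
theorem pos_of_mem {x : Fin 4 → ℤ} (hx : IsRoot cF isType.isCartan x) {z : ↥(chevF4.group K)} (hz : z ∈ XF K x)
    (hz1 : z ≠ 1) (h : z ∈ RGD.Sup (XF K) (RGD.Pos cF isType.isCartan)) : x ∈ RGD.Pos cF isType.isCartan := by
  have hW := finW
  have : Fact (Nat.Prime 2) := ⟨Nat.prime_two⟩
  rcases hx.pos_or_neg with h1 | h1
  · exact ⟨hx, h1⟩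
  · exfalso
    have h2 := U_inf_UN (rgd (K := K) isType cF 2)
    have h3 : z ∈ UN cF isType.isCartan (XF K) := RGD.le_Sup (S := Neg cF isType.isCartan) ⟨hx, h1⟩ hz
    have h4 : z ∈ RGD.Sup (XF K) (RGD.Pos cF isType.isCartan) ⊓ UN cF isType.isCartan (XF K) := ⟨h, h3⟩
    rw [h2, Subgroup.mem_bot] at h4
    exact hz1 h4

/-- the images of the dominant root groups under an automorphism fixing `U` -/
theorem exists_image {α : MulAut ↥(chevF4.group K)} (hU : Fix α (RGD.Sup (XF K) (RGD.Pos cF isType.isCartan))) :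
    (∀ r, Dom r → ∀ z ∈ XF K r, α z ∈ XF K r) ∨
      ((∀ z ∈ XF K (v 47), α z ∈ XF K (v 44)) ∧ ∀ z ∈ XF K (v 44), α z ∈ XF K (v 47)) := by
  have hG1 := G1_eq_top (K := K) isType cF
  have hG := GG_top (K := K) cF
  obtain ⟨R, hR⟩ : ∃ R, R = rgd (K := K) isType cF 2 := ⟨_, rfl⟩
  obtain ⟨u, hu, hU', hB, hUN, hBN, hT⟩ := Cfsg.Agent.KFacts.RgdAut.exists_frame R hG hU
  obtain ⟨β, hβ⟩ : ∃ β, β = MulAut.conj u * α := ⟨_, rfl⟩
  rw [← hβ] at hU' hB hUN hBN hT
  obtain ⟨σ, D⟩ := exists_diag R hG hU' hUN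
  -- `β X_r = X_{r'}`
  have key : ∀ r, Dom r → ∃ r', Dom r' ∧ (∀ z ∈ XF K r, α z ∈ XF K r') ∧
      (σ = 1 → (Lg cF r' ↔ Lg cF r)) ∧ ((σ 0 = 3 ∧ σ 1 = 2 ∧ σ 2 = 1 ∧ σ 3 = 0) → (Lg cF r' ↔ ¬ Lg cF r)) := by
    intro r hr
    obtain ⟨w, i, hwi⟩ := hr.root
    have hW := finW
    obtain ⟨x', hx'⟩ : ∃ x', x' = rep cF isType.isCartan (hat cF σ (D.matrix R) w) (sr (σ i)) := ⟨_, rfl⟩
    have hroot : IsRoot cF isType.isCartan x' := ⟨_, _, hx'⟩
    have hm : ∀ z ∈ XF K r, β z ∈ XF K x' := by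
      intro z hz
      rw [hwi] at hz
      rw [hx']
      exact (D.root R (D.matrix R) w i z).2 hz
    -- `x'` is dominant
    obtain ⟨z, hz, hz1⟩ := X_ne (K := K) hr.root
    have hbz1 : β z ≠ 1 := fun h => hz1 (by
      have := congrArg β.symm h
      rwa [MulEquiv.symm_apply_apply, map_one] at this)
    have hzU : z ∈ RGD.Sup (XF K) (RGD.Pos cF isType.isCartan) :=
      RGD.le_Sup (hr.rad_sub (self_mem_rad hr.root)) hz
    have hpos := pos_of_mem hroot (hm z hz) hbz1 ((hU' z).2 hzU)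
    have hcen : β z ∈ RGD.Sup (XF K) {v 47, v 44} := by
      refine cent_rad2 fun y hy => ?_
      have hyU : y ∈ RGD.Sup (XF K) (RGD.Pos cF isType.isCartan) := RGD.Sup_mono (by
        rintro a (ha | ha)
        · exact Dom.rad_sub (Or.inl rfl) ha
        · exact Dom.rad_sub (Or.inr rfl) ha) hy
      have h1 : β.symm y ∈ RGD.Sup (XF K) (RGD.Pos cF isType.isCartan) := by
        have := hU' (β.symm y)
        rw [MulEquiv.apply_symm_apply] at this
        exact this.1 hyU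
      have h2 := congrArg β (pos_comm hr h1 hz)
      rw [map_mul, map_mul, MulEquiv.apply_symm_apply] at h2
      exact h2.symm
    have hD : Dom x' := dom_of_mem hpos (hm z hz) hbz1 hcen
    refine ⟨x', hD, fun y hy => ?_, ?_, ?_⟩
    · have h1 := hm y hy
      have h2 : α y = u⁻¹ * β y * u := by
        rw [hβ, MulAut.mul_apply, MulAut.conj_apply]; group
      rw [h2, pos_comm hD (inv_mem hu) h1, inv_mul_cancel_right]
      exact h1
    · intro h1
      rw [hx', lg_rep_iff cF, h1, hwi, lg_rep_iff cF]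
      rfl
    · intro h1
      rw [hx', lg_rep_iff cF, hwi, lg_rep_iff cF]
      exact lg_swap cF h1 i
  have hL : Lg cF (v 47) := (testBit_long cF (by norm_num)).1 (by decide +kernel)
  have hS : ¬ Lg cF (v 44) := fun h => by
    have := (testBit_long cF (by norm_num)).2 h
    revert this
    decide +kernel
  rcases perm_F4 σ (D.matrix R) with h1 | h1
  · left
    intro r hr z hz
    obtain ⟨r', hr', h2, h3, -⟩ := key r hr
    have h4 := h3 h1
    have h5 : r' = r := by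
      rcases hr with rfl | rfl <;> rcases hr' with rfl | rfl
      · rfl
      · exact absurd (h4.2 hL) hS
      · exact absurd (h4.1 hL) hS
      · rfl
    exact h5 ▸ h2 z hz
  · right
    constructor
    · intro z hz
      obtain ⟨r', hr', h2, -, h3⟩ := key _ (Or.inl rfl)
      have h4 := h3 h1
      rcases hr' with rfl | rfl
      · exact absurd hL (h4.1 hL)
      · exact h2 z hz
    · intro z hz
      obtain ⟨r', hr', h2, -, h3⟩ := key _ (Or.inr rfl)
      have h4 := h3 h1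
      rcases hr' with rfl | rfl
      · exact h2 z hz
      · exact absurd (h4.2 hS) hS

end K

section Over

open Subgroup Cfsg.Agent.Omega.All.HOne

variable {K : Type v} [Field K] [Finite K] [CharP K 2] {G : Type u} [Group G] {j : ↥(chevF4.group K) →* G}

variable (j) in
/-- The hypotheses of `Emb` without `len`: graph automorphisms are allowed. -/
structure EmbG (S Y : Subgroup G) : Prop where
  inj : Function.Injective j
  two : IsPGroup 2 S
  S_Y : S ≤ Y
  G_Y : j.range ≤ Y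
  Y_G : Y ≤ Subgroup.normalizer (j.range : Set G)
  S₀ : S ⊓ j.range = SG j (RGD.Pos cF isType.isCartan)
  cent : ∀ g : G, (∀ x, g * j x = j x * g) → g = 1

/-- `U` normalises the dominant root groups. -/
theorem U_le_norm {r : Fin 4 → ℤ} (hr : Dom r) :
    SG j (RGD.Pos cF isType.isCartan) ≤ normalizer (XG j r : Set G) := by
  refine le_normalizer_of ?_
  rintro _ ⟨u, hu, rfl⟩ _ ⟨z, hz, rfl⟩
  rw [← map_mul, pos_comm hr hu hz, ← map_inv, ← map_mul, mul_inv_cancel_right]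
  exact ⟨z, hz, rfl⟩

namespace EmbG

variable {S Y : Subgroup G} (E : EmbG j S Y)

include E

/-- `S₁ = N_S(X_r)` -/
theorem emb {r : Fin 4 → ℤ} (hr : Dom r) : Emb j (S ⊓ normalizer (XG j r : Set G)) Y where
  inj := E.inj
  two := E.two.to_le inf_le_left
  S_Y := inf_le_left.trans E.S_Y
  G_Y := E.G_Y
  Y_G := E.Y_G
  S₀ := by
    apply le_antisymm
    · rw [← E.S₀]
      exact inf_le_inf_right _ inf_le_left
    · have h1 : SG j (RGD.Pos cF isType.isCartan) ≤ S ⊓ j.range := E.S₀.ge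
      exact le_inf (le_inf (h1.trans inf_le_left) (U_le_norm hr)) (h1.trans inf_le_right)
  cent := E.cent
  len := ⟨r, hr, inf_le_right⟩

theorem S_G : S ≤ normalizer (j.range : Set G) := E.S_Y.trans E.Y_G

theorem S_U : S ≤ normalizer (SG j (RGD.Pos cF isType.isCartan) : Set G) := by
  refine le_normalizer_of fun t ht z hz => ?_
  rw [← E.S₀, Subgroup.mem_inf] at hz ⊢
  exact ⟨mul_mem (mul_mem ht hz.1) (inv_mem ht), (Subgroup.mem_normalizer_iff.1 (E.S_G ht) z).1 hz.2⟩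

theorem conj_aux {t : G} (ht : t ∈ S) :
    (∀ r, Dom r → ∀ z ∈ XG j r, t * z * t⁻¹ ∈ XG j r) ∨
      ((∀ z ∈ XG j (v 47), t * z * t⁻¹ ∈ XG j (v 44)) ∧ ∀ z ∈ XG j (v 44), t * z * t⁻¹ ∈ XG j (v 47)) := by
  rcases exists_image (fix_act j E.inj (g := ⟨t, E.S_G ht⟩) (E.S_U ht)) with h | ⟨h1, h2⟩
  · left
    rintro r hr _ ⟨z, hz, rfl⟩
    exact ⟨_, h r hr z hz, f_act j E.inj ⟨t, E.S_G ht⟩ z⟩
  · right
    constructor
    · rintro _ ⟨z, hz, rfl⟩
      exact ⟨_, h1 z hz, f_act j E.inj ⟨t, E.S_G ht⟩ z⟩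
    · rintro _ ⟨z, hz, rfl⟩
      exact ⟨_, h2 z hz, f_act j E.inj ⟨t, E.S_G ht⟩ z⟩

end EmbG

theorem XG_ne_XG (hj : Function.Injective j) {z : G} (h1 : z ∈ XG j (v 47)) (h2 : z ∈ XG j (v 44)) : z = 1 := by
  obtain ⟨x, hx, rfl⟩ := h1
  obtain ⟨y, hy, e⟩ := h2
  have h3 : y = x := hj e
  subst h3
  have h4 := Cfsg.Agent.KFacts.F4Model.ind (Dom.mem (Or.inl rfl)) (Dom.mem (Or.inr rfl))
    (by rw [v47_rho, v44_s0]; decide +kernel) y hx hy
  rw [h4, map_one]

namespace EmbG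

variable {S Y : Subgroup G} (E : EmbG j S Y)

include E

/-- **`S` permutes the two dominant root groups.** -/
theorem perm_X {t : G} (ht : t ∈ S) :
    (∀ r, Dom r → (XG j r).map (MulAut.conj t).toMonoidHom = XG j r) ∨
      ((XG j (v 47)).map (MulAut.conj t).toMonoidHom = XG j (v 44) ∧
        (XG j (v 44)).map (MulAut.conj t).toMonoidHom = XG j (v 47)) := by
  have hne : XG j (v 47) ≠ ⊥ := XG_ne E.inj (Or.inl rfl)
  rw [ne_eq, eq_bot_iff_forall] at hne
  push Not at hne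
  obtain ⟨z₀, hz₀, hz₁⟩ := hne
  have aux : ∀ (t z : G), t * (t⁻¹ * z * t⁻¹⁻¹) * t⁻¹ = z := fun t z => by group
  have hz1' : ∀ t : G, t⁻¹ * z₀ * t⁻¹⁻¹ ≠ 1 := fun t h => hz₁ (by
    have := aux t z₀
    rw [h, mul_one, mul_inv_cancel] at this
    exact this.symm)
  rcases E.conj_aux ht with h | ⟨h1, h2⟩
  · left
    rcases E.conj_aux (inv_mem ht) with h' | ⟨h1', -⟩
    · intro r hr
      apply le_antisymm
      · rintro _ ⟨z, hz, rfl⟩
        exact h r hr z hz
      · intro z hz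
        exact ⟨_, h' r hr z hz, aux t z⟩
    · exfalso
      have h3 := h _ (Or.inr rfl) _ (h1' z₀ hz₀)
      rw [aux] at h3
      exact hz₁ (XG_ne_XG E.inj hz₀ h3)
  · right
    rcases E.conj_aux (inv_mem ht) with h' | ⟨h1', h2'⟩
    · exfalso
      have h3 := h1 _ (h' _ (Or.inl rfl) _ hz₀)
      rw [aux] at h3
      exact hz₁ (XG_ne_XG E.inj hz₀ h3)
    · constructor
      · apply le_antisymm
        · rintro _ ⟨z, hz, rfl⟩
          exact h1 z hz
        · intro z hz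
          exact ⟨_, h2' z hz, aux t z⟩
      · apply le_antisymm
        · rintro _ ⟨z, hz, rfl⟩
          exact h2 z hz
        · intro z hz
          exact ⟨_, h1' z hz, aux t z⟩

omit E in
theorem map_centralizer (t : G) (X : Subgroup G) :
    (centralizer (X : Set G)).map (MulAut.conj t).toMonoidHom =
      centralizer ((X.map (MulAut.conj t).toMonoidHom : Subgroup G) : Set G) := by
  apply le_antisymm
  · rintro _ ⟨c, hc, rfl⟩
    rw [mem_centralizer_iff]
    rintro _ ⟨x, hx, rfl⟩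
    have h := mem_centralizer_iff.1 hc x hx
    show t * x * t⁻¹ * (t * c * t⁻¹) = t * c * t⁻¹ * (t * x * t⁻¹)
    calc t * x * t⁻¹ * (t * c * t⁻¹) = t * (x * c) * t⁻¹ := by group
      _ = t * (c * x) * t⁻¹ := by rw [h]
      _ = _ := by group
  · intro c hc
    refine ⟨t⁻¹ * c * t, mem_centralizer_iff.2 fun x hx => ?_, by
      show t * (t⁻¹ * c * t) * t⁻¹ = c
      group⟩
    have h := mem_centralizer_iff.1 hc (t * x * t⁻¹) ⟨x, hx, rfl⟩
    calc x * (t⁻¹ * c * t) = t⁻¹ * (t * x * t⁻¹ * c) * t := by group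
      _ = t⁻¹ * (c * (t * x * t⁻¹)) * t := by rw [h]
      _ = _ := by group

/-- `X_r^t = X_s ⟹ C_r^t = C_s`, `Q_r^t = Q_s`, `U_r^t = U_s` -/
theorem map_of_map [Finite G] {t : G} (ht : t ∈ S) {r s : Fin 4 → ℤ} (hr : Dom r) (hs : Dom s)
    (h : (XG j r).map (MulAut.conj t).toMonoidHom = XG j s) :
    (CG j r).map (MulAut.conj t).toMonoidHom = CG j s ∧ (QG j r).map (MulAut.conj t).toMonoidHom = QG j s ∧
      (UG j r).map (MulAut.conj t).toMonoidHom = UG j s := by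
  have E₁ := E.emb (Or.inr rfl : Dom (v 44))
  -- one inclusion is enough
  have hC : ∀ {t : G}, t ∈ S → ∀ {r s : Fin 4 → ℤ}, Dom r → Dom s →
      (XG j r).map (MulAut.conj t).toMonoidHom = XG j s → (CG j r).map (MulAut.conj t).toMonoidHom = CG j s := by
    intro t ht r s hr hs h
    rw [E₁.CG_eq hr, E₁.CG_eq hs, map_inf _ _ _ (MulAut.conj t).injective, map_centralizer, h]
    congr 1
    exact map_eq_of_mem_normalizer (E.S_G ht)
  have hinv : ∀ {A B : Subgroup G}, A.map (MulAut.conj t).toMonoidHom = B →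
      B.map (MulAut.conj t⁻¹).toMonoidHom = A := by
    rintro A _ rfl
    rw [map_map]
    convert A.map_id
    ext x
    show t⁻¹ * (t * x * t⁻¹) * t⁻¹⁻¹ = x
    group
  have hQ : ∀ {t : G}, t ∈ S → ∀ {r s : Fin 4 → ℤ}, Dom r → Dom s →
      (XG j r).map (MulAut.conj t).toMonoidHom = XG j s → (QG j r).map (MulAut.conj t).toMonoidHom ≤ QG j s := by
    intro t ht r s hr hs h
    have h1 := hC ht hr hs h
    refine E₁.Q_max hs.root ?_ ?_ ?_
    · exact (E.two.to_le ((SG_mono hr.rad_sub).trans (E.S₀.ge.trans inf_le_left))).map _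
    · exact (map_mono SG_le_range).trans (map_eq_of_mem_normalizer (E.S_G ht)).le
    · rw [← h1]
      rintro _ ⟨c, hc, rfl⟩
      have h2 : c ∈ normalizer (QG j r : Set G) := by
        obtain ⟨c', hc', rfl⟩ := hc
        have h3 := ge_le_normalizer (K := K) hr.root hc'
        exact map_mem_normalizer h3
      rw [mem_normalizer_iff]
      intro y
      have h4 : ∀ y, y ∈ (QG j r).map (MulAut.conj t).toMonoidHom ↔ t⁻¹ * y * t ∈ QG j r := by
        intro y
        constructor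
        · rintro ⟨w, hw, rfl⟩
          have e : t⁻¹ * ((MulAut.conj t).toMonoidHom w) * t = w := by
            show t⁻¹ * (t * w * t⁻¹) * t = w
            group
          rw [e]; exact hw
        · intro hy
          exact ⟨_, hy, by show t * (t⁻¹ * y * t) * t⁻¹ = y; group⟩
      rw [h4, h4, mem_normalizer_iff.1 h2]
      have e : c * (t⁻¹ * y * t) * c⁻¹ =
          t⁻¹ * ((MulAut.conj t).toMonoidHom c * y * ((MulAut.conj t).toMonoidHom c)⁻¹) * t := by
        show c * (t⁻¹ * y * t) * c⁻¹ = t⁻¹ * (t * c * t⁻¹ * y * (t * c * t⁻¹)⁻¹) * t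
        group
      rw [e]
  have hQ' : (QG j r).map (MulAut.conj t).toMonoidHom = QG j s := by
    refine le_antisymm (hQ ht hr hs h) ?_
    have h2 := hQ (inv_mem ht) hs hr (hinv h)
    intro y hy
    refine ⟨_, h2 ⟨y, hy, rfl⟩, ?_⟩
    show t * (t⁻¹ * y * t⁻¹⁻¹) * t⁻¹ = y
    group
  refine ⟨hC ht hr hs h, hQ', ?_⟩
  rw [UG_eq E.inj hr, UG_eq E.inj hs, map_inf _ _ _ (MulAut.conj t).injective, map_centralizer, hQ']

/-- **The field `perm`.** -/
theorem perm [Finite G] {r s : Fin 4 → ℤ} (hr : Dom r) (hs : Dom s) (hrs : r ≠ s) : ∀ t ∈ S,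
    (t ∈ normalizer (QG j s : Set G) ∧ t ∈ normalizer (QG j r : Set G)) ∨
    ((QG j s).map (MulAut.conj t).toMonoidHom = QG j r ∧ (QG j r).map (MulAut.conj t).toMonoidHom = QG j s) := by
  intro t ht
  rcases E.perm_X ht with h | ⟨h1, h2⟩
  · exact Or.inl ⟨mem_normalizer_of_map_eq (E.map_of_map ht hs hs (h s hs)).2.1,
      mem_normalizer_of_map_eq (E.map_of_map ht hr hr (h r hr)).2.1⟩
  · right
    have h3 := (E.map_of_map ht (Or.inl rfl) (Or.inr rfl) h1).2.1
    have h4 := (E.map_of_map ht (Or.inr rfl) (Or.inl rfl) h2).2.1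
    rcases hr with rfl | rfl <;> rcases hs with rfl | rfl
    · exact absurd rfl hrs
    · exact ⟨h4, h3⟩
    · exact ⟨h3, h4⟩
    · exact absurd rfl hrs

end EmbG

/-- **The field `trans2`.** -/
theorem trans2_G (hj : Function.Injective j) {Y : Subgroup G} (hY : j.range ≤ Y) {r s : Fin 4 → ℤ} (hr : Dom r)
    (hs : Dom s) (hrs : r ≠ s) : ∀ a ∈ XG j s, ∀ b ∈ XG j r, ∀ a' ∈ XG j s, ∀ b' ∈ XG j r, a ≠ 1 → b ≠ 1 → a' ≠ 1 →
    b' ≠ 1 → ∃ y ∈ Y, y * a * y⁻¹ = a' ∧ y * b * y⁻¹ = b' := by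
  intro a ha b hb a' ha' b' hb' h1 h2 h1' h2'
  rcases hr with rfl | rfl <;> rcases hs with rfl | rfl
  · exact absurd rfl hrs
  · obtain ⟨t, -, h3, h4⟩ := torus_G hj ha ha' hb hb' h1 h1' h2 h2'
    exact ⟨j t, hY ⟨t, rfl⟩, h3, h4⟩
  · obtain ⟨t, -, h3, h4⟩ := torus_G hj hb hb' ha ha' h2 h2' h1 h1'
    exact ⟨j t, hY ⟨t, rfl⟩, h4, h3⟩
  · exact absurd rfl hrs

/-- **The field `mixQ_s`** (and `mixQ_l`). -/
theorem mixQ_G (hj : Function.Injective j) {s : Fin 4 → ℤ} (hs : Dom s) {QQ Q' : Subgroup G} (hQ : QG j s ≤ QQ) :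
    ∀ w ∈ QG j s ⊓ Q', w ∉ UG j s → ∀ x ∈ XG j s, ∃ y ∈ QQ, y * w * y⁻¹ = w * x := by
  intro w hw hU x hx
  obtain ⟨y, hy, h⟩ := mix_G hj hs w hw.1 hU x hx
  exact ⟨y, hQ hy, h⟩

end Over

end Cfsg.Agent.Omega.HOneEnd.FFour
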