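import Cfsg.Agent.Mrg.Omega.HOneEnd.FFourGEmb


/-!
# `F₄(q)`, `q` even: `N(X_r)` is maximal, `C(xy)`, `Z(U)` (K-facts for WrMain4, `FK`)

* `max_G` : a subgroup of `G₀ = j(F₄(K))` properly containing `N_{G₀}(X_r)` is `G₀`;
* `mix_G2` : `C_{G₀}(xy) ≤ N(X_s)` for `1 ≠ x ∈ X_s`, `1 ≠ y ∈ X_r`;
* `zU_G` : `Z(U) ≤ X_s X_r`.
-/

set_option autoImplicit false
set_option Elab.async false
set_option linter.unusedSectionVars false

namespace Cfsg.Agent.Omega.HOneEnd.FFour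

open CoxeterSystem Cfsg.Agent.ChevalleyStructure.CoxeterGeom Cfsg.Agent.Tits.Roots Cfsg.Agent.Tits.Core
open Cfsg Cfsg.Lie Cfsg.Agent.ChevalleyStructure Cfsg.Agent.ChevalleyStructure.Elts
  Cfsg.Agent.ChevalleyStructure.RootVec Cfsg.Agent.ChevalleyStructure.CoxeterGeomTypes
open Cfsg.Agent.Nodes Cfsg.Agent.Nodes.Reps Cfsg.Agent.Nodes.BNOf Cfsg.Agent.Nodes.RGDChev Cfsg.Agent.Nodes.Coroot
  Cfsg.Agent.Nodes.KindF Cfsg.Agent.Nodes.Bruhat Cfsg.Agent.Nodes.OppDec Cfsg.Agent.Nodes.LeviDec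
  Cfsg.Agent.Nodes.StabComb Cfsg.Agent.KFacts.ChevTwo
  Cfsg.Agent.KFacts.ChevTwoTab Cfsg.Agent.KFacts.RgdAut Cfsg.Agent.KFacts.RgdPar
  Cfsg.Agent.KFacts.ChevTwoInst Cfsg.Agent.KFacts.RgdTI Cfsg.Agent.KFacts.RgdOdd
  Cfsg.Agent.KFacts.F4Star Cfsg.Agent.KFacts.F4Cent Cfsg.Agent.KFacts.F4Pair Cfsg.Agent.KFacts.F4Torus
  Cfsg.Agent.KFacts.F4Perf Cfsg.Agent.KFacts.F4Aut
open Subgroup Cfsg.Agent.Omega.All.HOne

universe u v

section gen

variable {I W Y : Type*} [Fintype I] [DecidableEq I] [Group W] [Group Y] {M : CoxeterMatrix I}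
variable {cs : CoxeterSystem M W} {A : I → I → ℤ} {h : IsCartan M A} {p : ℕ} {T : Subgroup Y} {n : I → Y}
  {X : (I → ℤ) → Subgroup Y}

/-- a parabolic subgroup of corank one is maximal -/
theorem max_of_corank (R : RGD cs h p T n X) [Finite W] (hG : GG cs h T X = ⊤) {P N : Subgroup Y}
    (hB : RGD.B cs h T X ≤ P) (hPN : P < N) {i : I} (hi : ∀ k ≠ i, n k ∈ P) : N = ⊤ := by
  have hN := inf_eq_PJ R (hB.trans hPN.le)
  have hP := inf_eq_PJ R hB
  rw [hG, inf_top_eq] at hN hP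
  by_cases h1 : n i ∈ N
  · have h2 : {k | n k ∈ N} = Set.univ := by
      ext k
      by_cases hk : k = i
      · subst hk; exact ⟨fun _ => trivial, fun _ => h1⟩
      · exact ⟨fun _ => trivial, fun _ => hPN.le (hi k hk)⟩
    rw [eq_top_iff, ← hG, ← LJ_univ, hN, h2]
    exact LJ_le_PJ
  · exfalso
    have h2 : {k | n k ∈ N} = {k | n k ∈ P} := by
      ext k
      by_cases hk : k = i
      · subst hk; exact ⟨fun h => absurd h h1, fun h => absurd (hPN.le h) h1⟩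
      · exact ⟨fun _ => hi k hk, fun _ => hPN.le (hi k hk)⟩
    rw [h2, ← hP] at hN
    exact hPN.ne hN.symm

/-- `N(X_a)`, `a` dominant and orthogonal to all simple roots except one, is maximal -/
theorem max_normalizer (R : RGD cs h p T n X) [Finite W] (hG : GG cs h T X = ⊤) {a : I → ℤ} (L : LR R a)
    (hB : RGD.Pos cs h ⊆ Ge cs h a) {i : I} (hi : ∀ k ≠ i, cpr cs h (sr k) a = 0) {N : Subgroup Y}
    (hN : normalizer (X a : Set Y) < N) : N = ⊤ :=
  max_of_corank R hG ((sup_le_sup_left (RGD.Sup_mono hB) T).trans L.PS_le_normalizer) hN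
    fun k hk => (L.mem_normalizer_iff (rp_simple cs R.nsys k)).2 (L.rep_eq_iff.2 (hi k hk))

end gen

variable {K : Type v} [Field K] [Finite K] [CharP K 2] {G : Type u} [Group G] {j : ↥(chevF4.group K) →* G}

/-- all simple roots except one are orthogonal to a dominant root -/
theorem Dom.exists_simple {r : Fin 4 → ℤ} (hr : Dom r) : ∃ i : Fin 4, ∀ k ≠ i, cpr cF isType.isCartan (sr k) r = 0 := by
  rcases hr with rfl | rfl
  · refine ⟨3, fun k hk => ?_⟩
    rw [cpr_zero_comm cF _ (isRoot_sr cF _ k) (isRoot_v cF (by norm_num)), cpr_sr, pair47, if_neg hk]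
  · refine ⟨0, fun k hk => ?_⟩
    rw [cpr_zero_comm cF _ (isRoot_sr cF _ k) (isRoot_v cF (by norm_num)), cpr_sr, pair44, if_neg hk]

/-- **`N(X_r)` is a maximal subgroup of `F₄(K)`.** -/
theorem max_K {r : Fin 4 → ℤ} (hr : Dom r) {M : Subgroup ↥(chevF4.group K)}
    (h : normalizer (XF K r : Set ↥(chevF4.group K)) < M) : M = ⊤ := by
  obtain ⟨i, hi⟩ := hr.exists_simple
  exact max_normalizer (rgd (K := K) isType cF 2) (GG_top cF) ((sysF (K := K) cF).lr hr.root) hr.pos_sub hi h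

/-- **`max_b`** -/
theorem max_G (hj : Function.Injective j) {r : Fin 4 → ℤ} (hr : Dom r) {M : Subgroup G} (hM : M ≤ j.range)
    (h : j.range ⊓ normalizer (XG j r : Set G) < M) : M = j.range := by
  have e : (normalizer (XF K r : Set ↥(chevF4.group K))).map j = j.range ⊓ normalizer (XG j r : Set G) := by
    apply le_antisymm
    · rintro _ ⟨x, hx, rfl⟩
      exact ⟨⟨x, rfl⟩, map_mem_normalizer hx⟩
    · rintro _ ⟨⟨x, rfl⟩, hx⟩
      refine ⟨x, ?_, rfl⟩
      rw [SetLike.mem_coe, mem_normalizer_iff]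
      intro y
      have key : ∀ {z}, j z ∈ XG j r ↔ z ∈ XF K r := fun {z} =>
        ⟨fun ⟨w, hw, e⟩ => hj e ▸ hw, fun hz => ⟨z, hz, rfl⟩⟩
      rw [← key, ← key, map_mul, map_mul, map_inv]
      exact mem_normalizer_iff.1 hx (j y)
  have hm : (M.comap j).map j = M := map_comap_eq_self hM
  rw [← e, ← hm] at h
  have h1 : M.comap j = ⊤ := max_K hr (lt_of_le_of_ne ((map_le_map_iff_of_injective hj).1 h.le)
    fun h2 => h.ne (by rw [h2]))
  rw [← hm, h1, ← MonoidHom.range_eq_map]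

/-- **`mix`** -/
theorem mix_G2 (hj : Function.Injective j) {r s : Fin 4 → ℤ} (hr : Dom r) (hs : Dom s) (hrs : r ≠ s) {x y : G}
    (hx : x ∈ XG j s) (hy : y ∈ XG j r) (hx1 : x ≠ 1) (hy1 : y ≠ 1) :
    j.range ⊓ centralizer ({x * y} : Set G) ≤ normalizer (XG j s : Set G) := by
  rintro _ ⟨⟨g, rfl⟩, hg⟩
  have hg : j g * (x * y) = x * y * j g := mem_centralizer_singleton_iff.1 hg
  obtain ⟨x, hx, rfl⟩ := hx
  obtain ⟨y, hy, rfl⟩ := hy
  have hx1' : x ≠ 1 := fun h => hx1 (by rw [h, map_one])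
  have hy1' : y ≠ 1 := fun h => hy1 (by rw [h, map_one])
  have h1 : g * (x * y) = x * y * g := hj (by rw [map_mul, map_mul, map_mul, map_mul]; exact hg)
  have h2 : g * x = x * g := by
    rcases hr with rfl | rfl <;> rcases hs with rfl | rfl
    · exact absurd rfl hrs
    · exact (comm_of_ab hx hy hx1' hy1' h1).1
    · have e : x * y = y * x := pos_comm (Or.inr rfl)
        (RGD.le_Sup (Dom.rad_sub (Or.inl rfl) (self_mem_rad (Dom.root (Or.inl rfl)))) hx) hy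
      rw [e] at h1
      exact (comm_of_ab hy hx hy1' hx1' h1).2
    · exact absurd rfl hrs
  exact norm_XG hj hs ⟨x, hx, rfl⟩ hx1 (le_normalizer ⟨g, rfl⟩) (by rw [← map_mul, ← map_mul, h2])

theorem XX_eq : XG j (v 47) ⊔ XG j (v 44) = SG j {v 47, v 44} := by
  unfold XG SG
  rw [← Subgroup.map_sup]
  congr 1
  apply le_antisymm
  · exact sup_le (RGD.le_Sup (Or.inl rfl)) (RGD.le_Sup (Or.inr rfl))
  · refine RGD.Sup_le fun z hz => ?_
    rcases hz with rfl | rfl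
    · exact le_sup_left
    · exact le_sup_right

/-- **`zU`** -/
theorem zU_G (hj : Function.Injective j) {r s : Fin 4 → ℤ} (hr : Dom r) (hs : Dom s) (hrs : r ≠ s) {z : G}
    (hz : z ∈ SG j (RGD.Pos cF isType.isCartan))
    (hc : SG j (RGD.Pos cF isType.isCartan) ≤ centralizer ({z} : Set G)) : ∃ x ∈ XG j s, ∃ y ∈ XG j r, z = x * y := by
  obtain ⟨z, hz, rfl⟩ := hz
  have h1 : z ∈ RGD.Sup (XF K) {v 47, v 44} := by
    refine cent_pos cF (cm_of_comm (fun x hx => hx.1) fun p hp => hj ?_)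
    rw [map_mul, map_mul]
    exact (mem_centralizer_singleton_iff.1 (hc ⟨p, hp, rfl⟩)).symm
  have h2 : j z ∈ XG j s ⊔ XG j r := by
    have h3 : j z ∈ XG j (v 47) ⊔ XG j (v 44) := by rw [XX_eq]; exact ⟨z, h1, rfl⟩
    rcases hr with rfl | rfl <;> rcases hs with rfl | rfl
    · exact absurd rfl hrs
    · rwa [_root_.sup_comm] at h3
    · exact h3
    · exact absurd rfl hrs
  have h4 : XG j s ≤ normalizer (XG j r : Set G) :=
    (XG_le_SG (hs.rad_sub (self_mem_rad hs.root))).trans (U_le_norm hr)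
  rw [← SetLike.mem_coe, coe_mul_of_left_le_normalizer_right _ _ h4] at h2
  obtain ⟨x, hx, y, hy, e⟩ := h2
  exact ⟨x, hx, y, hy, e.symm⟩

end Cfsg.Agent.Omega.HOneEnd.FFour
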