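import Cfsg.Agent.Mrg.Omega.HOneEnd.SysID
import Cfsg.Agent.TitsThree.SolvedFF
import Cfsg.Agent.TitsThree.KExcTwTop
import Cfsg.Agent.TitsThree.KExcF4


/-!
# S1143 with the family list: type `F₄` (copy of `TitsThree.CharFF` with `Fam`)
-/

set_option autoImplicit false

namespace Cfsg.Agent.Omega.HOneEnd.FamFF

open Cfsg.Lie
open Cfsg.Agent.Tits.Core Cfsg.Agent.Tits.Core.Bldg Cfsg.Agent.Tits Cfsg.Agent.Tits.MouOut
open Cfsg.Agent.Tits.MouDefs (rt Aut Chart)
open Cfsg.Agent.LieRecognition.BNCox Cfsg.Agent.LieRecognition.CoxClass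
open Cfsg.Agent.TitsThree Cfsg.Agent.TitsThree.Pack Cfsg.Agent.TitsThree.FFData
open Cfsg.Agent.TitsThree.F4Bond Cfsg.Agent.TitsThree.EndFF Cfsg.Agent.TitsThree.Reindex
open Cfsg.Agent.TitsThree.SolvedFF Cfsg.Agent.Omega.HOneEnd.FamBase
open Cfsg.Agent.Tits.RGOut (RX)

/-- A model, with the characteristic. -/
def HasModelF {F E : Type} [Field F] [Field E] [Algebra F E] (P : ConjPair F E) : Prop :=
  ∃ (K : Type) (_ : Group K), IsSimpleGroup K ∧ (∀ p : ℕ, CharP E p → Cfsg.Agent.Omega.HOneEnd.Fam p K) ∧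
    Nonempty (KFF K P.datum P.τ P.τ')

theorem hasModelF_triv (F : Type) [Field F] [Finite F] : HasModelF (ConjPair.triv F) := by
  have := Fintype.ofFinite F
  refine ⟨↥(chevF4.group F), inferInstance, KExcF4.simple F, fun p hp => ?_, ⟨KExcF4.kff F⟩⟩
  exact Or.inr (Or.inr (Or.inr (Or.inr (Or.inr (Or.inr (Or.inl
    ⟨F, inferInstance, inferInstance, hp, ⟨MulEquiv.refl _⟩⟩))))))

theorem hasModelF_tw {F E : Type} [Field F] [Finite F] [Field E] [Finite E] [Algebra F E]
    (P : ConjPair F E) (hc : ∃ t, P.conj t ≠ t) : HasModelF P := by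
  classical
  have : Fintype F := Fintype.ofFinite F
  have : Fintype E := Fintype.ofFinite E
  have h1 : ∀ t, P.conj t = t ^ Fintype.card F := fun t => by
    rw [← Nat.card_eq_fintype_card]; exact P.conj_eq_pow hc t
  have h2 : Fintype.card E = Fintype.card F ^ 2 := by
    rw [← Nat.card_eq_fintype_card, ← Nat.card_eq_fintype_card]; exact P.card_eq hc
  have h3 : IsPrimePow (Fintype.card F) := by
    rw [← Nat.card_eq_fintype_card]; exact ConjPair.isPrimePow_card
  refine ⟨↥(twistedE6 E (Fintype.card F)), inferInstance, (Cfsg.Agent.S1070.result h3 h2).1,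
    fun p hp => ?_, KExcTwE6.kff P h1⟩
  exact Or.inr (Or.inr (Or.inr (Or.inr (Or.inr (Or.inr (Or.inr (Or.inr (Or.inr (Or.inr
    ⟨E, inferInstance, inferInstance, hp, _, h3, h2, ⟨MulEquiv.refl _⟩⟩)))))))))

/-- `SolvedF Δ` from the G side and a model. -/
theorem solvedF_of_outP {W : Type*} [Group W] [Finite W] {C : Type*} [Finite C]
    {cs : CoxeterSystem cF W} {Δ : Bldg cs C} {σ : W → C} (hth : Δ.Thick) (hσ : Chart Δ σ)
    {F E : Type} [Field F] [Finite F] [Field E] [Finite E] [Algebra F E] {P : ConjPair F E}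
    (h : OutP Δ σ P) (hK : HasModelF P) : SolvedF Δ := by
  obtain ⟨Q, R⟩ := id h
  obtain ⟨K, i1, i2, hK1, ⟨k⟩⟩ := hK
  have H := MouAll.sys MouAll.lab_F CombInst.diag_F hth hσ
  obtain ⟨p, hp⟩ := CharP.exists F
  have : Fact p.Prime := ⟨CharP.char_is_prime F p⟩
  have hpE : CharP E p := charP_of_injective_algebraMap (algebraMap F E).injective p
  have : Finite (Aut Δ) := by
    refine Finite.of_injective (fun a : Aut Δ => (MulAction.toPerm a : Equiv.Perm C))
      fun a b hab => ?_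
    have h1 : b⁻¹ * a = 1 := H.faith _ fun x => by
      rw [mul_smul, inv_smul_eq_iff]
      exact congrFun (congrArg DFunLike.coe hab) x
    exact (inv_mul_eq_one.1 h1).symm
  refine solvedF H (p := p) (EndFF.isPGroup R) (EndFF.solvable H R)
    (EndFF.coprime H R P.τ_surj P.τ'_surj
      (EndFFTor.tor_inf_le_torusFF H R P.τ_surj P.τ'_surj)) fun _ => ?_
  obtain ⟨e⟩ := nonempty_mulEquiv hth hσ h k
  exact Cfsg.Agent.Omega.HOneEnd.Fam.of_equiv e (hK1 p hpE)

section re

variable {I I' W C : Type*} [Group W] {M : CoxeterMatrix I} {M' : CoxeterMatrix I'}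
  {cs : CoxeterSystem M W} {cs' : CoxeterSystem M' W} {e : I' ≃ I}
  (hs : ∀ i, cs'.simple i = cs.simple (e i)) {Δ : Bldg cs C}

/-- `SolvedC` does not depend on the names of the nodes. -/
theorem solvedF_of_re (h : SolvedF (re hs Δ)) : SolvedF Δ := by
  obtain ⟨p, hp, c, d, U, h1, h2, h3, h4, h5, h6, h7, h8, h9, hpar, h10⟩ := h.out
  refine ⟨p, hp, c, d, U, (re_opp hs c d).1 h1, h2, h3, h4,
    fun x hx => h5 x ((re_opp hs c x).2 hx), h6, h7, h8, h9, fun i => ?_, h10⟩
  obtain ⟨a, ha⟩ := hpar (e.symm i)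
  refine ⟨a, fun x => ?_⟩
  have := ha x
  rw [re_pan, e.apply_symm_apply] at this
  exact this

end re

/-- **It is enough to treat the oriented buildings.** -/
theorem solvedF_F {W C : Type*} [Group W] [Finite W] [Finite C] {σ : W → C}
    (h : ∀ (cs : CoxeterSystem cF W) (Δ : Bldg cs C), Δ.Thick → Chart Δ σ → Out Δ σ → SolvedF Δ)
    {cs : CoxeterSystem cF W} {Δ : Bldg cs C} (hth : Δ.Thick) (hσ : Chart Δ σ) : SolvedF Δ := by
  rcases orient hth hσ with h1 | h1
  · exact h cs Δ hth hσ (out_of_midStd hth hσ h1)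
  · have hs := revSys_simple cs
    refine solvedF_of_re hs (h _ _ (re_thick hs hth) (re_chart hs hσ) ?_)
    exact out_of_midStd (re_thick hs hth) (re_chart hs hσ) (mid_re hs rfl rfl h1)

universe u

/-- **Type `F₄` is solved, with the characteristic.** -/
theorem allSolvedF_F : AllSolvedF.{u} cF := by
  intro W C _ _ _ _ cs Δ hth
  obtain ⟨c⟩ := (inferInstance : Nonempty C)
  obtain ⟨d, hd⟩ := Opp.exists_opp Δ c
  obtain ⟨σ, hσ, -, -⟩ := MouDefs.exists_chart hd 1
  refine solvedF_F (fun cs Δ hth hσ h => ?_) hth hσ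
  rcases h with ⟨F, i1, i2, h⟩ | ⟨F, E, i1, i2, i3, i4, i5, P, hP, h⟩
  · exact solvedF_of_outP hth hσ h (hasModelF_triv F)
  · exact solvedF_of_outP hth hσ h (hasModelF_tw P hP)

end Cfsg.Agent.Omega.HOneEnd.FamFF
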