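import Cfsg.Agent.Mrg.Omega.HOneEnd.Known
import Cfsg.Agent.Mrg.Omega.HOne.Cut
import Cfsg.Agent.Mrg.Omega.FFBr.Final


/-!
# The END of LeafH1: the socket `Cut.EndL`
-/

set_option autoImplicit false

namespace Cfsg.Agent.Omega.HOneEnd

open Subgroup Cfsg Cfsg.Agent.Omega.Frame
open Cfsg.Agent.Omega.FrameLE (AllIn)

universe u

/-- **`Cut.EndL`** -/
theorem endL : Cfsg.Agent.Omega.HOne.Cut.EndL.{u} := by
  intro G _ _ hG S hF hA G₀ U R v h
  have := hG.simple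
  exact h.known FFBr.ffthm hG.char2 hF hA

/-- **`Cut.StEnd`** -/
theorem stEnd (K : Cls.{u}) : Cfsg.Agent.Omega.HOne.Cut.StEnd K := Cfsg.Agent.Omega.HOne.Cut.stEnd_of endL

end Cfsg.Agent.Omega.HOneEnd
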