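import Cfsg.Agent.Mrg.Omega.HOneEnd.TwoInst
import Cfsg.Agent.Mrg.Omega.HOneEnd.SysID
import Cfsg.Agent.Mrg.Omega.HOneEnd.TTwoE
import Cfsg.Agent.Mrg.Omega.HOneEnd.FFourDefs

section


/-!
# LeafH1, END: the radical of the long root of `C_m` is abelian

`rad_nonneg` : `⟨a, b^∨⟩ ≥ 0` for `a`, `b` with `⟨a, σ^∨⟩, ⟨b, σ^∨⟩ ≥ 1`, `σ = 2 ε₀`.
-/

set_option autoImplicit false
set_option linter.unusedSectionVars false

namespace Cfsg.Agent.Omega.HOneEnd.RadC

open CoxeterSystem Cfsg.Agent.ChevalleyStructure.CoxeterGeom Cfsg.Agent.Tits.Roots Cfsg.Agent.Tits.Core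
  Cfsg.Agent.Nodes.BNOf Cfsg.Agent.Nodes.Coroot Cfsg.Agent.KFacts.RgdCent Cfsg.Agent.KFacts.RgdOdd
  Cfsg.Agent.Nodes.KindBC Cfsg.Agent.Nodes.TypeC Cfsg.Agent.Nodes.TypeCForm Cfsg.Agent.Omega.HOneEnd.TwoInst

variable {m : ℕ} {W : Type*} [Group W] [Finite W] {cs : CoxeterSystem (CoxeterMatrix.B m) W}

theorem form (z : Fin m) {x : Fin m → ℤ} (hx : IsRoot cs (isCartan m) x) (h : 1 ≤ ee x z) :
    ∃ b : Fin m × Bool, x = rt (z, true) b ∧ (b.1 ≠ z ∨ b = (z, true)) := by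
  obtain ⟨⟨i, s⟩, ⟨j, t⟩, hab, rfl⟩ := exists_rt hx
  rw [ee_rt, Pi.add_apply, wt_apply, wt_apply] at h
  simp only at h
  by_cases hi : z = i
  · subst hi
    by_cases hj : z = j
    · subst hj
      rcases hab with hab | hab
      · exact absurd rfl hab
      · obtain ⟨-, rfl⟩ := Prod.mk.inj hab
        cases s
        · simp at h
        · exact ⟨(z, true), rfl, Or.inr rfl⟩
    · rw [if_pos rfl, if_neg hj, add_zero] at h
      cases s
      · simp at h
      · exact ⟨(j, t), rfl, Or.inl fun h' => hj h'.symm⟩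
  · by_cases hj : z = j
    · subst hj
      rw [if_neg hi, if_pos rfl, zero_add] at h
      cases t
      · simp at h
      · exact ⟨(i, s), rt_comm _ _, Or.inl fun h' => hi h'.symm⟩
    · rw [if_neg hi, if_neg hj] at h
      norm_num at h

theorem rad_nonneg (hm : 3 ≤ m) : ∀ a ∈ Rad cs (isCartan m) (sigC hm), ∀ b ∈ Rad cs (isCartan m) (sigC hm),
    0 ≤ cpr cs (isCartan m) a b := by
  intro a ha b hb
  set z : Fin m := ⟨0, by omega⟩ with hz
  have h1 : ∀ x, cpr cs (isCartan m) x (sigC hm) = ee x z := by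
    intro x
    have := cpr_rt_self (cs := cs) x (z, true)
    rw [sn, if_pos rfl, mul_one] at this
    exact this
  have ha1 : 1 ≤ ee a z := by rw [← h1]; exact ha.2
  have hb1 : 1 ≤ ee b z := by rw [← h1]; exact hb.2
  obtain ⟨c, hc, hc'⟩ := form z ha.1 ha1
  obtain ⟨d, hd, hd'⟩ := form z hb.1 hb1
  rcases hd' with hd' | rfl
  · rw [hd, cpr_rt (cs := cs) a (a := (z, true)) (b := d) (fun h => hd' h.symm)]
    have e1 : sn ((z, true) : Fin m × Bool) = 1 := by rw [sn, if_pos rfl]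
    have e2 : ee a d.1 = wt c d.1 := by
      rw [hc, ee_rt, Pi.add_apply, wt_apply (z, true), if_neg hd', zero_add]
    rw [e1, e2, mul_one]
    have e3 : -1 ≤ wt c d.1 * sn d := by
      rw [wt_apply, sn]
      split_ifs <;> norm_num
    simp only
    linarith
  · rw [hd, cpr_rt_self]
    have e1 : sn ((z, true) : Fin m × Bool) = 1 := by rw [sn, if_pos rfl]
    rw [e1, mul_one]
    simp only
    linarith

end Cfsg.Agent.Omega.HOneEnd.RadC

end

section


/-!
# The END of LeafH1: identification of the simple group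

* `LIn.id` : **THEOREM ID** : a group `L` with `Fam 2` and `LIn U R v` is `PSp_{2m}(q)`, `m ≥ 3`, with `R` a short root
  group, or `F₄(q)` with `U = ⟨X_a | a > 0⟩`, `R` the root group of a dominant root.
-/

set_option autoImplicit false

namespace Cfsg.Agent.Omega.HOneEnd

open Subgroup Cfsg Cfsg.Lie
open Cfsg.Agent.Nodes.BNOf Cfsg.Agent.Nodes.TypeC
open Cfsg.Agent.KFacts.SysSp (sys_PSp eSp)
open Cfsg.Agent.KFacts.F4Pair (XF eF sysF)
open Cfsg.Agent.Nodes.KindF (isType)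

universe u

section id

variable {L : Type u} [Group L] [Finite L] {U R : Subgroup L} {v : L}

theorem LIn.not_dvd (H : LIn U R v) : ¬ 2 ∣ U.index := fun h =>
  (Nat.not_even_iff_odd.2 H.odd) (even_iff_two_dvd.2 h)

/-- the types `T2` do not occur -/
theorem LIn.not_t2 (H : LIn U R v) (h : TTwo.T2 L) : False := by
  have : Fact (Nat.Prime 2) := ⟨Nat.prime_two⟩
  refine H.v_R (h (H.two.toSylow H.not_dvd) R H.R_U ?_ H.R_ne H.NU H.max v H.v_U ?_ H.v_ne)
  · intro r hr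
    rw [mem_centralizer_iff]
    intro u hu
    exact (mem_centralizer_iff.1 (H.U_R hu) r hr).symm
  · rw [mem_centralizer_iff]
    intro u hu
    exact mem_centralizer_singleton_iff.1 (H.U_v hu)

theorem exists_iso_F {F : Type} [Field F] [Fintype F] [CharP F 2] (ψ : L ≃* ↥(chevF4.group F)) (H : LIn U R v) :
    ∃ φ : L ≃* ↥(chevF4.group F), U.map φ.toMonoidHom = RGD.Sup (XF F) (RGD.Pos FFour.cF isType.isCartan) ∧
      (R.map φ.toMonoidHom = XF F (Cfsg.Agent.KFacts.F4Cent.v 47) ∨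
        R.map φ.toMonoidHom = XF F (Cfsg.Agent.KFacts.F4Cent.v 44)) := by
  have h2 : Fact (Nat.Prime 2) := ⟨Nat.prime_two⟩
  have hW : Finite CoxeterMatrix.F₄.Group := FFour.finW
  have hI := TwoInst.inp_F F FFour.cF
  exact SysID.exists_iso (ρ := Cfsg.Agent.KFacts.F4Cent.v 47) (σ := Cfsg.Agent.KFacts.F4Cent.v 44) (i := 3) (j := 0)
    (sysF (K := F) FFour.cF) hI.sup hI.cent hI.two hI.conn ψ H

/-- **THEOREM ID** -/
theorem LIn.id (H : LIn U R v) (hL : Fam 2 L) :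
    (∃ (F : Type) (_ : Field F) (_ : Fintype F) (_ : CharP F 2) (m : ℕ) (φ : L ≃* PSp m F) (ρ : Fin m → ℤ)
      (a b : Fin m × Bool), 3 ≤ m ∧ a.1 ≠ b.1 ∧ Cfsg.Agent.Nodes.TypeC.ee ρ =
        Cfsg.Agent.Nodes.TypeC.wt a + Cfsg.Agent.Nodes.TypeC.wt b ∧
        ∀ x : L, x ∈ R ↔ ∃ t, φ x = eSp m F ρ t) ∨
    (∃ (F : Type) (_ : Field F) (_ : Fintype F) (_ : CharP F 2) (φ : L ≃* ↥(chevF4.group F)) (s : Fin 4 → ℤ),
      FFour.Dom s ∧ U.map φ.toMonoidHom = RGD.Sup (XF F) (RGD.Pos FFour.cF isType.isCartan) ∧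
        R.map φ.toMonoidHom = XF F s) := by
  have h2 : Fact (Nat.Prime 2) := ⟨Nat.prime_two⟩
  rcases TTwo.t2_of_fam hL with h | ⟨F, _, _, _, m, hm, ⟨ψ⟩⟩ | ⟨F, _, _, _, ⟨ψ⟩⟩
  · exact (H.not_t2 h).elim
  · left
    have hW : Finite (CoxeterMatrix.B m).Group := Cfsg.Agent.Nodes.TypeC.finite_W (CoxeterMatrix.B m).toCoxeterSystem
    have hI := TwoInst.inp_C hm F (CoxeterMatrix.B m).toCoxeterSystem
    obtain ⟨φ, -, hφ⟩ := SysID.exists_iso_left (sys_PSp m F (CoxeterMatrix.B m).toCoxeterSystem) hI.sup hI.cent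
      hI.two hI.conn (RadC.rad_nonneg hm) ψ H
    refine ⟨F, inferInstance, inferInstance, inferInstance, m, φ, TwoInst.rhoC hm, (⟨0, by omega⟩, true),
      (⟨1, by omega⟩, true), hm, ?_, Cfsg.Agent.Nodes.KindBC.ee_rt _ _, ?_⟩
    · intro h
      have := congrArg Fin.val h
      simp at this
    · intro x
      have h3 : x ∈ R ↔ φ x ∈ R.map φ.toMonoidHom :=
        (Subgroup.mem_map_iff_mem (f := φ.toMonoidHom) φ.injective).symm
      rw [h3, hφ, (sys_PSp m F (CoxeterMatrix.B m).toCoxeterSystem).mem_X _ hI.two.rρ.1]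
      exact exists_congr fun t => eq_comm
  · right
    obtain ⟨φ, h3, h4⟩ := exists_iso_F ψ H
    rcases h4 with h4 | h4
    · exact ⟨F, inferInstance, inferInstance, inferInstance, φ, _, Or.inl rfl, h3, h4⟩
    · exact ⟨F, inferInstance, inferInstance, inferInstance, φ, _, Or.inr rfl, h3, h4⟩

end id

end Cfsg.Agent.Omega.HOneEnd

end
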