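import Cfsg.Agent.Mrg.Omega.HOneEnd.FamExport
import Cfsg.Agent.KFacts.SysFree
import Cfsg.Agent.KFacts.SLRow.Row
import Mathlib
import Cfsg.Agent.KFacts.Unit.KF

section


/-!
# LeafH1, END, THEOREM ID: the types `T2`, simply laced groups (helper368)

* `t2_of_LR` : root group datum with `Z(U) ≤ X r`, `LR r`;
* `t2_of_isSLC` : simply laced groups;
* `t2_PSL`, `t2_OPlus`, `t2_E6`, `t2_E7`, `t2_E8`.
-/

set_option autoImplicit false
set_option linter.unusedSectionVars false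

namespace Cfsg.Agent.Omega.HOneEnd.TTwo

open Subgroup CoxeterSystem Cfsg.Agent.ChevalleyStructure.CoxeterGeom Cfsg.Agent.Tits.Roots Cfsg.Agent.Tits.Core
  Cfsg.Agent.Nodes.Reps Cfsg.Agent.Nodes.BNOf Cfsg.Agent.Nodes.RGDLib Cfsg.Agent.Nodes.Bruhat
  Cfsg.Agent.Nodes.NormalForm Cfsg.Agent.KFacts.SLRow.Def Cfsg.Agent.KFacts.RgdSL
  Cfsg.Agent.KFacts.ChevTwo Cfsg.Agent.KFacts.SLRow.Row Cfsg.Agent.KFacts.SLRow.Diag
  Cfsg.Agent.KFacts.SysFree Cfsg.Agent.KFacts.RgdTI Cfsg.Agent.KFacts.RgdCent Cfsg.Agent.KFacts.RgdKap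
  Cfsg.Agent.KFacts.RgdOpp Cfsg.Agent.KFacts.RgdAut
open Cfsg.Lie

universe u

section

variable {I W : Type*} {Y : Type u} [Fintype I] [DecidableEq I] [Group W] [Group Y] {M : CoxeterMatrix I}
  {cs : CoxeterSystem M W} {A : I → I → ℤ} {h : IsCartan M A} {T : Subgroup Y} {n : I → Y}
  {X : (I → ℤ) → Subgroup Y}

theorem normalizer_ne_top {p : ℕ} [Finite W] {R : RGD cs h p T n X} {r : I → ℤ} (L : LR R r) :
    normalizer (X r : Set Y) ≠ ⊤ := by
  intro h0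
  obtain ⟨w, i, hw⟩ := L.root
  obtain ⟨k, hk⟩ := exists_rp cs R.nsys (w * cs.simple i * w⁻¹)
  have h1 : k ∈ normalizer (X r : Set Y) := h0 ▸ mem_top k
  rw [L.mem_normalizer_iff hk] at h1
  have h2 : rep cs h (w * cs.simple i * w⁻¹) r = -r := by
    rw [hw, map_mul, map_mul, Module.End.mul_apply, Module.End.mul_apply, rep_inv_apply, rep_simple_sr, map_neg]
  rw [h2] at h1
  exact L.root.ne_zero (self_eq_neg.1 h1.symm)

/-- `Z(U) ≤ X r`. -/
theorem t2_of_LR [Finite W] [Finite Y] (R : RGD cs h 2 T n X) (hG : GG cs h T X = ⊤) {r : I → ℤ} (L : LR R r)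
    (hZ : ∀ c ∈ RGD.Sup X (RGD.Pos cs h), (∀ u ∈ RGD.Sup X (RGD.Pos cs h), u * c = c * u) → c ∈ X r) : T2 Y := by
  have : Fact (Nat.Prime 2) := ⟨Nat.prime_two⟩
  refine T2.of_ti' (U₀ := RGD.Sup X (RGD.Pos cs h)) R.isPGroup_Upos ?_ (Z₀ := X r) hZ ?_ (normalizer_ne_top L)
  · intro Q hQ hle
    exact (eq_U_of_isPGroup R hQ hle (by rw [hG]; exact le_top)).le
  · intro z hz hz1 g hg
    exact L.ti_self (by rw [hG]; trivial) hz hz1 hg

end

/-- **Simply laced groups.** -/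
theorem t2_of_isSLC {q l : ℕ} {M : CoxeterMatrix (Fin l)} {L : Type u} [Group L] [Finite L] (hK : IsSLC q M L) :
    T2 L := by
  obtain ⟨A, h, T, n, X, F, _, _, _, e, hW, rfl, hM, D, S⟩ := hK
  have hne : Nonempty (Fin l) := Fintype.card_pos_iff.1 (by have := D.three; omega)
  obtain ⟨r, hr⟩ := exists_star (cs := M.toCoxeterSystem) (h := h)
  have hs : SL M.toCoxeterSystem h := fun _ _ hx hy => Nodes.SimplyLaced.cpr_symm M.toCoxeterSystem h D.h4 D.h6 hx hy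
  have hO : ∀ r, IsRoot M.toCoxeterSystem h r → Cfsg.Agent.KFacts.RgdOdd.Orth M.toCoxeterSystem h r := fun r hr =>
    orth_of D.h4 D.h6 D.irr hr
  have hG : GG M.toCoxeterSystem h T X = ⊤ :=
    Cfsg.Agent.KFacts.RgdRigid.GG_eq_top D.gen
  refine t2_of_LR D.rgd hG (S.lr hr.1) ?_
  intro c _ hc
  have h1 := center_le S D.gen D.cent (fun J hJ hJ' => D.irr J hJ (Set.nonempty_compl.2 hJ')) hc
  refine (RGD.Sup_le fun z hz => ?_ : RGD.Sup X (Star M.toCoxeterSystem h (RGD.Pos M.toCoxeterSystem h)) ≤ X r) h1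
  rw [Cfsg.Agent.KFacts.RgdAutFacts.dom_unique hs hO hz hr]

section fam

variable {F : Type} [Field F] [Finite F] [CharP F 2]

theorem t2_PSL {n : ℕ} (hn : 4 ≤ n) : T2 (Matrix.ProjectiveSpecialLinearGroup (Fin n) F) := by
  obtain ⟨m, rfl⟩ : ∃ m, n = m + 1 := ⟨n - 1, by omega⟩
  have : Finite (Matrix.ProjectiveSpecialLinearGroup (Fin (m + 1)) F) := Quotient.finite _
  exact t2_of_isSLC (isSLC_PSL (by omega) F)

theorem t2_OPlus {n : ℕ} (hn : 4 ≤ n) : T2 (POmega F (quadFormPlus n F)) := by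
  obtain ⟨m, rfl⟩ : ∃ m, n = m + 2 := ⟨n - 2, by omega⟩
  have : Finite (POmega F (quadFormPlus (m + 2) F)) := Quotient.finite _
  exact t2_of_isSLC (isSLC_OPlus (by omega) F)

theorem t2_E6 : T2 ↥(chevE6.group F) := t2_of_isSLC (isSLC_E6 F)

theorem t2_E7 : T2 ↥(chevE7.group F) := t2_of_isSLC (isSLC_E7 F)

theorem t2_E8 : T2 ↥(chevE8.group F) := t2_of_isSLC (isSLC_E8 F)

end fam

end Cfsg.Agent.Omega.HOneEnd.TTwo

end

section


/-!
# LeafH1, END, THEOREM ID: the types `T2`, unitary groups (helper368)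

* `RR_TI` : the transvection groups of `PSU` are TI-subgroups;
* `normalizer_RR_ne_top`;
* `t2_PSU` : `PSU n F q`, `q` even, `n ≥ 6`.
-/

set_option autoImplicit false
set_option linter.unusedSectionVars false

namespace Cfsg.Agent.Omega.HOneEnd.TTwo

open Subgroup Cfsg Cfsg.Agent.LieClassical.HermBasic Cfsg.Agent.LieClassical.HermSiegel
  Cfsg.Agent.LieClassical.HermGen Cfsg.Agent.LieClassical.SUBasic Matrix
  Cfsg.Agent.ClassicalGeometry.PSUAutBasic Cfsg.Agent.ClassicalGeometry.PSUAutSylow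
  Cfsg.Agent.ClassicalGeometry.PSUAutUnip Cfsg.Agent.ClassicalGeometry.PSUAutPhi Cfsg.Agent.KFacts.Unit

variable {F : Type*} [Field F] [Fintype F] {q n : ℕ}

theorem RR_TI (hF : Fintype.card F = q ^ 2) (hn : 3 ≤ n) {u : Fin n → F} (hu0 : u ≠ 0)
    (hu : hermForm n F q u u = 0) : TI (RR hF u hu) := by
  intro x hx hx1 g hg
  obtain ⟨μ, hμ, rfl⟩ := mem_RR.1 hx
  obtain ⟨γ, rfl⟩ := pr_surjective (n := n) (F := F) (q := q) g
  obtain ⟨μ', hμ', h1⟩ := mem_RR.1 hg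
  have hμ0 : μ ≠ 0 := by
    rintro rfl
    apply hx1
    rw [transv_zero, map_one]
  rw [← map_inv, ← map_mul, ← map_mul, transv, conj_siegel] at h1
  have hgu : hermForm n F q (act γ u) (act γ u) = 0 := by rw [herm_act]; exact hu
  have hgu0 : act γ u ≠ 0 := fun h0 => hu0 ((act_eq_zero γ).1 h0)
  have h2 : siegel hF (act γ u) (act γ 0) μ _ = transv hF u hu μ' hμ' := siegel_pr_inj hF hn _ _ h1
  obtain ⟨f, -, -, hfu⟩ := exists_partner hF hgu0 hgu
  have h4 := congrArg (fun g => act g f) h2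
  change act (siegel hF (act γ u) (act γ 0) μ _) f = act (transv hF u hu μ' hμ') f at h4
  rw [act_siegel, act_transv, hfu, act_zero, herm_zero_right hF, smul_zero, add_zero, sub_zero, mul_one,
    add_right_inj] at h4
  have h5 : act γ u = (μ⁻¹ * (μ' * hermForm n F q f u)) • u := by
    rw [mul_smul, ← h4, smul_smul, inv_mul_cancel₀ hμ0, one_smul]
  have hc : μ⁻¹ * (μ' * hermForm n F q f u) ≠ 0 := by
    intro h0
    rw [h0, zero_smul] at h5
    exact hgu0 h5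
  have h6 : RR hF (act γ u) hgu = RR hF u hu :=
    ((RR_eq_iff hF hn hu0 hgu0 hu hgu).2 ⟨_, hc, h5⟩).symm
  rw [mem_normalizer_iff]
  intro y
  have h7 := RR_conj hF hu γ hgu (pr n F q γ * y * (pr n F q γ)⁻¹)
  rw [h6] at h7
  have e : (pr n F q γ)⁻¹ * (pr n F q γ * y * (pr n F q γ)⁻¹) * pr n F q γ = y := by group
  rw [e] at h7
  exact h7.symm

theorem normalizer_RR_ne_top (hF : Fintype.card F = q ^ 2) (hn : 3 ≤ n) {u : Fin n → F} (hu0 : u ≠ 0)
    (hu : hermForm n F q u u = 0) : normalizer (RR hF u hu : Set (PSU n F q)) ≠ ⊤ := by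
  intro h0
  obtain ⟨μ, hμ0, hμ⟩ := exists_trace_zero_ne hF
  obtain ⟨f, hff, huf, hfu⟩ := exists_partner hF hu0 hu
  set γ := transv hF f hff μ hμ with hγ
  have hgu : hermForm n F q (act γ u) (act γ u) = 0 := by rw [herm_act]; exact hu
  have hgu0 : act γ u ≠ 0 := fun h0 => hu0 ((act_eq_zero γ).1 h0)
  have h1 : RR hF u hu = RR hF (act γ u) hgu := by
    ext x
    rw [RR_conj hF hu γ hgu x]
    have h2 : (pr n F q γ)⁻¹ ∈ normalizer (RR hF u hu : Set (PSU n F q)) := h0 ▸ mem_top _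
    have h3 := (mem_normalizer_iff.1 h2) x
    rwa [inv_inv] at h3
  obtain ⟨c, hc, h2⟩ := (RR_eq_iff hF hn hu0 hgu0 hu hgu).1 h1
  rw [hγ, act_transv, huf, mul_one] at h2
  have h3 := congrArg (fun v => hermForm n F q v u) h2
  change hermForm n F q (u + μ • f) u = hermForm n F q (c • u) u at h3
  rw [herm_add_left, herm_smul_left, herm_smul_left, hu, hfu, mul_zero, zero_add, mul_one] at h3
  exact hμ0 h3

/-- **Unitary groups.** -/
theorem t2_PSU [CharP F 2] (hF : Fintype.card F = q ^ 2) (hn : 6 ≤ n) : T2 (PSU n F q) := by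
  have : Fact (Nat.Prime 2) := ⟨Nat.prime_two⟩
  obtain ⟨U⟩ : Nonempty (Sylow 2 (PSU n F q)) := inferInstance
  obtain ⟨u, hu0, hu, hQU, hUP, -⟩ := Cfsg.Agent.KFacts.Unit.KF.exists_kf hF hn U
  refine T2.of_ti U (RR hF u hu) ?_ (RR_TI hF (by omega) hu0 hu) (normalizer_RR_ne_top hF (by omega) hu0 hu)
  intro c hcU hcC
  obtain ⟨g, hg, rfl⟩ := mem_PP.1 (hUP hcU)
  refine ⟨g, mem_transvG_of_commute hF hu0 hu hg ?_, rfl⟩
  rintro _ ⟨w, μ, hs, rfl⟩
  have h1 := mem_centralizer_iff.1 hcC _ (hQU (mem_QQ.2 ⟨w, μ, hs, rfl⟩))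
  have h2 : pr n F q (g * siegel hF u w μ hs * g⁻¹) = pr n F q (siegel hF u w μ hs) := by
    rw [map_mul, map_mul, map_inv, ← h1, mul_inv_cancel_right]
  rw [conj_siegel] at h2 ⊢
  exact siegel_pr_inj hF (by omega) _ _ h2

end Cfsg.Agent.Omega.HOneEnd.TTwo

end
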