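import Mathlib
import Cfsg.Agent.Mrg.Omega.HOneEnd.SysID
import Cfsg.Agent.Mrg.Omega.HOneEnd.FFourDefs


/-!
# LeafH1, END: `SysID.Two` for type `F₄` (helper368)

`two_F` : the dominant roots are `v 47` (moved by the node 3) and `v 44` (moved by the node 0).
-/

set_option autoImplicit false
set_option linter.unusedSectionVars false
set_option Elab.async false

namespace Cfsg.Agent.Omega.HOneEnd.TwoInst

open CoxeterSystem Cfsg.Agent.ChevalleyStructure.CoxeterGeom Cfsg.Agent.Tits.Roots Cfsg.Agent.Tits.Core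
open Cfsg.Lie Cfsg.Agent.ChevalleyStructure Cfsg.Agent.ChevalleyStructure.Elts
  Cfsg.Agent.ChevalleyStructure.RootVec Cfsg.Agent.ChevalleyStructure.CoxeterGeomTypes
open Cfsg.Agent.Nodes Cfsg.Agent.Nodes.KindF Cfsg.Agent.Nodes.Reps Cfsg.Agent.Nodes.BNOf Cfsg.Agent.Nodes.RGDChev Cfsg.Agent.Nodes.Coroot
  Cfsg.Agent.KFacts.ChevTwo Cfsg.Agent.KFacts.ChevTwoTab
  Cfsg.Agent.KFacts.ChevTwoInst Cfsg.Agent.KFacts.RgdCent Cfsg.Agent.KFacts.SysFree
  Cfsg.Agent.KFacts.F4Star Cfsg.Agent.KFacts.F4Cent Cfsg.Agent.KFacts.F4Pair Cfsg.Agent.KFacts.F4Perf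
  Cfsg.Agent.Omega.HOneEnd.SysID

variable {W : Type*} [Group W] [Finite W] {cs : CoxeterSystem CoxeterMatrix.F₄ W}

theorem starChk : ([47, 44].all fun a => (List.range 48).all fun c =>
    decide (c < 24) || (nn c).testBit a) = true := by decide +kernel

theorem domChk : ((List.range 48).all fun a => decide (a = 47 ∨ a = 44) ||
    !((List.range 48).all fun c => decide (c < 24) || (nn c).testBit a)) = true := by decide +kernel

theorem star_v {a : ℕ} (ha : a ∈ [47, 44]) : v a ∈ Cfsg.Agent.KFacts.RgdCent.Star cs isType.isCartan (RGD.Pos cs isType.isCartan) := by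
  have ha' : a < 48 := by
    simp only [List.mem_cons, List.not_mem_nil, or_false] at ha
    rcases ha with rfl | rfl <;> norm_num
  refine ⟨isRoot_v cs ha', fun x hx => ?_⟩
  obtain ⟨c, hc, rfl⟩ := exists_v cs hx.1
  have h1 := List.all_eq_true.1 (List.all_eq_true.1 starChk a ha) c (List.mem_range.2 hc)
  have h2 := (mem_pos_iff cs hc).1 hx
  rw [Bool.or_eq_true, decide_eq_true_eq] at h1
  exact (testBit_nn cs hc ha').1 (h1.resolve_left (by omega))

theorem dom_F : Cfsg.Agent.KFacts.RgdCent.Star cs isType.isCartan (RGD.Pos cs isType.isCartan) ⊆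
    ({v 47, v 44} : Set (Fin 4 → ℤ)) := by
  intro x hx
  obtain ⟨a, ha, rfl⟩ := exists_v cs hx.1
  have h1 := List.all_eq_true.1 domChk a (List.mem_range.2 ha)
  rw [Bool.or_eq_true, decide_eq_true_eq] at h1
  rcases h1 with (rfl | rfl) | h1
  · exact Or.inl rfl
  · exact Or.inr rfl
  · exfalso
    have h2 : ((List.range 48).all fun c => decide (c < 24) || (nn c).testBit a) = true := by
      rw [List.all_eq_true]
      intro c hc
      rw [List.mem_range] at hc
      rw [Bool.or_eq_true, decide_eq_true_eq]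
      by_cases h3 : c < 24
      · exact Or.inl h3
      · exact Or.inr ((testBit_nn cs hc ha).2 (hx.2 _ ((mem_pos_iff cs hc).2 (by omega))))
    rw [h2] at h1
    exact absurd h1 (by decide)

/-- the indices of the simple roots -/
def sI : Fin 4 → ℕ := ![33, 27, 25, 24]

theorem sI_lt (k : Fin 4) : sI k < 48 := by fin_cases k <;> decide

theorem v_sI (k : Fin 4) : v (sI k) = sr k := by
  obtain ⟨s0, s1, s2, s3, -⟩ := simples_ok
  fin_cases k
  · show v 33 = sr 0
    rw [← s0]; exact v_simple 0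
  · show v 27 = sr 1
    rw [← s1]; exact v_simple 1
  · show v 25 = sr 2
    rw [← s2]; exact v_simple 2
  · show v 24 = sr 3
    rw [← s3]; exact v_simple 3

theorem fixChk : (∀ k : Fin 4, k ≠ 3 → (nn (sI k)).testBit 47 = true ∧ (pp (sI k)).testBit 47 = false) ∧
    (∀ k : Fin 4, k ≠ 0 → (nn (sI k)).testBit 44 = true ∧ (pp (sI k)).testBit 44 = false) := by decide +kernel

theorem pairing_v (cs : CoxeterSystem CoxeterMatrix.F₄ W) {a : ℕ} (ha : a < 48) {k : Fin 4}
    (h1 : (nn (sI k)).testBit a = true) (h2 : (pp (sI k)).testBit a = false) :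
    pairing (cartanOf chevF4 4) k (v a) = 0 := by
  rw [← cpr_sr cs (h := isType.isCartan), ← v_sI]
  have h3 := (testBit_nn cs (sI_lt k) ha).1 h1
  have h4 : ¬ 1 ≤ cpr cs isType.isCartan (v a) (v (sI k)) := fun h => by
    rw [(testBit_pp cs (sI_lt k) ha).2 h] at h2
    exact absurd h2 (by decide)
  omega

theorem ne_sr {a : ℕ} (ha : a < 48) (h : ∀ k, a ≠ sI k) (k : Fin 4) : v a ≠ sr k := by
  rw [← v_sI]
  exact fun h1 => h k (v_inj ha (sI_lt k) h1)

theorem ne47 : ∀ k, 47 ≠ sI k := by decide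

theorem ne44 : ∀ k, 44 ≠ sI k := by decide

/-- **Type `F₄`.** -/
theorem two_F (cs : CoxeterSystem CoxeterMatrix.F₄ W) : Two cs isType.isCartan (v 47) (v 44) 3 0 :=
  two_mk (star_v (a := 47) (by simp)) (star_v (a := 44) (by simp)) dom_F (fun h => by
    have := v_inj (by norm_num) (by norm_num) h
    omega) (by decide)
    (fun k hk => pairing_v cs (by norm_num) (fixChk.1 k hk).1 (fixChk.1 k hk).2)
    (fun k hk => pairing_v cs (by norm_num) (fixChk.2 k hk).1 (fixChk.2 k hk).2)
    (ne_sr (by norm_num) ne47 3) (ne_sr (by norm_num) ne44 0)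

end Cfsg.Agent.Omega.HOneEnd.TwoInst
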